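import Mathlib

/-!
# Actions in which a non-identity element fixes at most four points
-/

set_option autoImplicit false
set_option linter.unusedSectionVars false
set_option linter.style.haveILetI false

namespace Cfsg.Lib.Fix4

open MulAction Subgroup
open scoped Pointwise

/-- Every non-identity element fixes at most four points. -/
def Fixity (G Ω : Type*) [Group G] [MulAction G Ω] : Prop :=
  ∀ g : G, g ≠ 1 → (fixedBy Ω g).ncard ≤ 4

/-- The stabilizer of a point in a subgroup. -/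
abbrev st {G Ω : Type*} [Group G] [MulAction G Ω] (S : Subgroup G) (d : Ω) : Subgroup G :=
  S ⊓ stabilizer G d

/-- The centralizer of an element in a subgroup. -/
abbrev cent {G : Type*} [Group G] (S : Subgroup G) (g : G) : Subgroup G :=
  S ⊓ centralizer ({g} : Set G)

theorem mem_cent {G : Type*} [Group G] {S : Subgroup G} {g x : G} : x ∈ cent S g ↔ x ∈ S ∧ Commute x g :=
  and_congr Iff.rfl mem_centralizer_singleton_iff

theorem ne_one_of_prime {G : Type*} [Group G] {g : G} {p : ℕ} (hp : p.Prime) (hg : orderOf g = p) : g ≠ 1 :=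
  fun h => hp.one_lt.ne' (hg.symm.trans (by rw [h, orderOf_one]))

theorem prime_order_of {G : Type*} [Group G] {g : G} {p : ℕ} [hp : Fact p.Prime] (h : g ^ p = 1) (h1 : g ≠ 1) :
    orderOf g = p := orderOf_eq_prime h h1

/-- The orders of two subgroups inside a third. -/
theorem card_mul_le {G : Type*} [Group G] [Finite G] {A B C : Subgroup G} (hA : A ≤ C) (hB : B ≤ C) :
    Nat.card A * Nat.card B ≤ Nat.card C * Nat.card (A ⊓ B : Subgroup G) := by
  let f : A × B → C := fun x => ⟨x.1 * x.2, mul_mem (hA x.1.2) (hB x.2.2)⟩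
  classical
  letI := Fintype.ofFinite A
  letI := Fintype.ofFinite B
  letI := Fintype.ofFinite C
  have hfib : ∀ c : C, Nat.card {x : A × B // f x = c} ≤ Nat.card (A ⊓ B : Subgroup G) := by
    intro c
    rcases isEmpty_or_nonempty {x : A × B // f x = c} with h | ⟨⟨y, hy⟩⟩
    · rw [Nat.card_of_isEmpty]; exact Nat.zero_le _
    refine Nat.card_le_card_of_injective (fun x => ⟨(y.1 : G)⁻¹ * x.1.1,
      A.mul_mem (A.inv_mem y.1.2) x.1.1.2, ?_⟩) fun x x' e => ?_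
    · have e : (x.1.1 : G) * x.1.2 = y.1 * y.2 := congrArg Subtype.val (x.2.trans hy.symm)
      rw [show (y.1 : G)⁻¹ * x.1.1 = y.2 * (x.1.2 : G)⁻¹ by
        rw [eq_mul_inv_iff_mul_eq, mul_assoc, e, inv_mul_cancel_left]]
      exact B.mul_mem y.2.2 (B.inv_mem x.1.2.2)
    · have e1 : x.1.1 = x'.1.1 := Subtype.ext (mul_left_cancel (congrArg Subtype.val e))
      have e2 : (x.1.1 : G) * x.1.2 = x'.1.1 * x'.1.2 := congrArg Subtype.val (x.2.trans x'.2.symm)
      rw [← e1] at e2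
      exact Subtype.ext (Prod.ext e1 (Subtype.ext (mul_left_cancel e2)))
  calc Nat.card A * Nat.card B = Nat.card (Σ c : C, {x : A × B // f x = c}) := by
        rw [← Nat.card_prod, Nat.card_congr (Equiv.sigmaFiberEquiv f)]
    _ = ∑ c : C, Nat.card {x : A × B // f x = c} := Nat.card_sigma
    _ ≤ ∑ _c : C, Nat.card (A ⊓ B : Subgroup G) := Finset.sum_le_sum fun c _ => hfib c
    _ = Nat.card C * Nat.card (A ⊓ B : Subgroup G) := by
      rw [Finset.sum_const, Finset.card_univ, smul_eq_mul, Nat.card_eq_fintype_card (α := C)]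

variable {G Ω : Type*} [Group G] [Finite G] [MulAction G Ω] [Finite Ω]

theorem mem_conj {g h : G} {x : Ω} : x ∈ fixedBy Ω (h * g * h⁻¹) ↔ h⁻¹ • x ∈ fixedBy Ω g := by
  rw [← smul_fixedBy, Set.mem_smul_set_iff_inv_smul_mem]

theorem fix_pow {g : G} {x : Ω} (hx : x ∈ fixedBy Ω g) (n : ℕ) : x ∈ fixedBy Ω (g ^ n) := by
  induction n with
  | zero => simp
  | succ n ih => rw [mem_fixedBy, pow_succ, mul_smul, mem_fixedBy.1 hx, mem_fixedBy.1 ih]

theorem fix_comm {g h : G} (hc : Commute h g) {x : Ω} (hx : x ∈ fixedBy Ω g) : h • x ∈ fixedBy Ω g := by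
  rw [mem_fixedBy, smul_smul, ← hc.eq, mul_smul, mem_fixedBy.1 hx]

theorem ncard_conj (g h : G) : (fixedBy Ω (h * g * h⁻¹)).ncard = (fixedBy Ω g).ncard := by
  rw [← smul_fixedBy]
  exact Set.ncard_smul_set h (fixedBy Ω g)

theorem fix_eq (hfix : Fixity G Ω) {g : G} (hg : g ≠ 1) {Δ : Set Ω} (hΔ : Δ ⊆ fixedBy Ω g) (h4 : 4 ≤ Δ.ncard) :
    fixedBy Ω g = Δ :=
  (Set.eq_of_subset_of_ncard_le hΔ ((hfix g hg).trans h4) (Set.toFinite _)).symm

/-- A non-identity element does not fix five points. -/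
theorem not_five (hfix : Fixity G Ω) {g : G} (hg : g ≠ 1) {Δ : Set Ω} (hΔ : Δ ⊆ fixedBy Ω g) (h4 : 4 ≤ Δ.ncard)
    {x : Ω} (hx : x ∈ fixedBy Ω g) : x ∈ Δ := fix_eq hfix hg hΔ h4 ▸ hx

theorem eq_one_of_five (hfix : Fixity G Ω) {g : G} {Δ : Set Ω} (hΔ : Δ ⊆ fixedBy Ω g) (h4 : 4 ≤ Δ.ncard)
    {x : Ω} (hx : x ∈ fixedBy Ω g) (hxΔ : x ∉ Δ) : g = 1 := by
  by_contra hg
  exact hxΔ (not_five hfix hg hΔ h4 hx)

theorem fix_ne_univ [FaithfulSMul G Ω] {g : G} (hg : g ≠ 1) : fixedBy Ω g ≠ Set.univ := fun h =>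
  hg (FaithfulSMul.eq_of_smul_eq_smul fun x : Ω => by
    rw [one_smul]; exact mem_fixedBy.1 (h.ge (Set.mem_univ x)))

/-- The number of fixed points of an element of prime order is congruent to the degree. -/
theorem fix_modEq {p : ℕ} [hp : Fact p.Prime] {g : G} (hg : g ^ p = 1) :
    (fixedBy Ω g).ncard ≡ Nat.card Ω [MOD p] := by
  have hP : IsPGroup p (zpowers g) := by
    intro x
    obtain ⟨k, hk⟩ := mem_zpowers_iff.1 x.2
    refine ⟨1, Subtype.ext ?_⟩
    rw [pow_one, SubmonoidClass.coe_pow, ← hk, ← zpow_natCast, ← zpow_mul, mul_comm, zpow_mul, zpow_natCast, hg,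
      one_zpow]
    rfl
  have h := hP.card_modEq_card_fixedPoints Ω
  have e : fixedPoints (zpowers g) Ω = fixedBy Ω g := by
    ext x
    refine ⟨fun hx => hx ⟨g, mem_zpowers g⟩, fun hx y => ?_⟩
    have : zpowers g ≤ stabilizer G x := zpowers_le.2 hx
    exact this y.2
  rw [e, Nat.card_coe_set_eq] at h
  exact h.symm

/-- A point orbit of a subgroup inside an invariant set. -/
theorem orbit_le {C : Subgroup G} {d : Ω} {Δ : Set Ω} (hd : d ∈ Δ) (hC : ∀ c ∈ C, ∀ x ∈ Δ, c • x ∈ Δ) :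
    ∃ o : ℕ, 1 ≤ o ∧ o ≤ Δ.ncard ∧ o ∣ Nat.card C ∧ Nat.card C = o * Nat.card (st C d) := by
  have h := (stabilizer C d).card_mul_index
  rw [index_stabilizer] at h
  have e : Nat.card (stabilizer C d) = Nat.card (st C d) := Nat.card_congr
    { toFun := fun c => ⟨c.1.1, c.1.2, c.2⟩
      invFun := fun c => ⟨⟨c.1, c.2.1⟩, c.2.2⟩
      left_inv := fun _ => rfl
      right_inv := fun _ => rfl }
  rw [e, mul_comm] at h
  refine ⟨(orbit C d).ncard, ?_, ?_, Dvd.intro _ h, h.symm⟩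
  · exact (Set.ncard_pos (Set.toFinite _)).2 ⟨d, mem_orbit_self d⟩
  · refine Set.ncard_le_ncard ?_ (Set.toFinite _)
    rintro _ ⟨c, rfl⟩
    exact hC c.1 c.2 d hd

theorem st_bound {C : Subgroup G} {d : Ω} {Δ : Set Ω} (hd : d ∈ Δ) (hC : ∀ c ∈ C, ∀ x ∈ Δ, c • x ∈ Δ) :
    Nat.card C ≤ Δ.ncard * Nat.card (st C d) := by
  obtain ⟨o, -, ho, -, e⟩ := orbit_le hd hC
  rw [e]
  exact Nat.mul_le_mul_right _ ho

theorem cent_invariant {S : Subgroup G} (g : G) : ∀ c ∈ cent S g, ∀ x ∈ fixedBy Ω g, c • x ∈ fixedBy Ω g :=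
  fun _ hc _ hx => fix_comm (mem_cent.1 hc).2 hx

/-- The setwise stabilizer. -/
theorem mem_stab_set {g : G} {Δ : Set Ω} : g ∈ stabilizer G Δ ↔ g • Δ = Δ := MulAction.mem_stabilizer_iff

theorem stab_of_maps {g : G} {Δ : Set Ω} (h : ∀ x ∈ Δ, g • x ∈ Δ) : g ∈ stabilizer G Δ := by
  rw [mem_stab_set]
  refine Set.eq_of_subset_of_ncard_le ?_ (le_of_eq ?_) (Set.toFinite _)
  · rintro _ ⟨x, hx, rfl⟩
    exact h x hx
  · exact (Set.ncard_smul_set g Δ).symm

theorem stab_smul_mem {g : G} {Δ : Set Ω} (h : g ∈ stabilizer G Δ) {x : Ω} (hx : x ∈ Δ) : g • x ∈ Δ :=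
  (mem_stab_set.1 h) ▸ Set.smul_mem_smul_set hx

theorem stab_fix_of_comm {g h : G} (hc : Commute h g) : h ∈ stabilizer G (fixedBy Ω g) :=
  stab_of_maps fun _ hx => fix_comm hc hx

theorem stab_fix_of_normalize {g h : G} (hc : fixedBy Ω (h * g * h⁻¹) = fixedBy Ω g) :
    h ∈ stabilizer G (fixedBy Ω g) := by
  rw [mem_stab_set, smul_fixedBy, hc]

/-- An invariant non-empty proper set has a proper stabilizer. -/
theorem stab_ne_top (htr : IsPretransitive G Ω) {Δ : Set Ω} {a : Ω} (ha : a ∈ Δ) (hne : Δ ≠ Set.univ) :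
    stabilizer G Δ ≠ ⊤ := fun h => hne (Set.eq_univ_of_forall fun x => by
  haveI := htr
  obtain ⟨g, rfl⟩ := exists_smul_eq G a x
  exact stab_smul_mem (h ▸ mem_top g) ha)

/-- A `p`-subgroup of a subgroup containing a Sylow subgroup is conjugate inside it into the Sylow subgroup. -/
theorem conj_into {p : ℕ} [hp : Fact p.Prime] (P : Sylow p G) {H : Subgroup G} (hPH : (P : Subgroup G) ≤ H)
    {Q : Subgroup G} (hQH : Q ≤ H) (hQ : IsPGroup p Q) : ∃ h ∈ H, ∀ q ∈ Q, h * q * h⁻¹ ∈ (P : Subgroup G) := by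
  obtain ⟨R, hR⟩ := (hQ.of_equiv (subgroupOfEquivOfLe hQH).symm).exists_le_sylow
  obtain ⟨h, hh⟩ := MulAction.exists_smul_eq H R (P.subtype hPH)
  refine ⟨h, h.2, fun q hq => ?_⟩
  have h1 : h * ⟨q, hQH hq⟩ * h⁻¹ ∈ (P.subtype hPH : Subgroup H) := by
    rw [← hh, Sylow.coe_subgroup_smul]
    exact ⟨⟨q, hQH hq⟩, hR (mem_subgroupOf.2 hq), rfl⟩
  exact h1

theorem conj_elem {p : ℕ} [hp : Fact p.Prime] (P : Sylow p G) {H : Subgroup G} (hPH : (P : Subgroup G) ≤ H)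
    {x : G} (hx : x ∈ H) (hxo : ∃ k, x ^ p ^ k = 1) : ∃ h ∈ H, h * x * h⁻¹ ∈ (P : Subgroup G) := by
  obtain ⟨k, hk⟩ := hxo
  obtain ⟨j, -, hj⟩ := (Nat.dvd_prime_pow hp.out).1 (orderOf_dvd_of_pow_eq_one hk)
  obtain ⟨h, hh, hq⟩ := conj_into P hPH (zpowers_le.2 hx) (IsPGroup.of_card (n := j) (by rw [Nat.card_zpowers, hj]))
  exact ⟨h, hh, hq x (mem_zpowers x)⟩

theorem exists_order_prime {p : ℕ} [hp : Fact p.Prime] {H : Subgroup G} (h : p ∣ Nat.card H) :
    ∃ x ∈ H, orderOf x = p := by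
  obtain ⟨x, hx⟩ := exists_prime_orderOf_dvd_card' p h
  exact ⟨x, x.2, by rw [orderOf_coe, hx]⟩

/-- If the elements of order `p` of a Sylow subgroup have one fixed-point set, its stabilizer is `p`-embedded. -/
theorem embedded_of_same [FaithfulSMul G Ω] (htr : IsPretransitive G Ω) {p : ℕ} [hp : Fact p.Prime] (P : Sylow p G)
    {Δ : Set Ω} (hne : Δ.Nonempty) (hp1 : p ∣ Nat.card G)
    (h : ∀ x ∈ (P : Subgroup G), orderOf x = p → fixedBy Ω x = Δ) :
    ∃ H : Subgroup G, H ≠ ⊤ ∧ p ∣ Nat.card H ∧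
      ∀ g : G, g ∉ H → ¬ p ∣ Nat.card ↥(H ⊓ H.map (MulAut.conj g).toMonoidHom) := by
  set H := stabilizer G Δ
  have hPH : (P : Subgroup G) ≤ H := by
    intro u hu
    have hpP : p ∣ Nat.card (P : Subgroup G) := P.dvd_card_of_dvd_card hp1
    obtain ⟨x, hx, hxo⟩ := exists_order_prime hpP
    have := h (u * x * u⁻¹) (mul_mem (mul_mem hu hx) (inv_mem hu)) (by
      rw [← hxo]; exact (MulAut.conj u).orderOf_eq x)
    show u ∈ stabilizer G Δ
    rw [← h x hx hxo]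
    exact stab_fix_of_normalize (this.trans (h x hx hxo).symm)
  have hfixH : ∀ y ∈ H, orderOf y = p → fixedBy Ω y = Δ := by
    intro y hy hyo
    obtain ⟨u, hu, huy⟩ := conj_elem P hPH hy ⟨1, by rw [pow_one, ← hyo, pow_orderOf_eq_one]⟩
    have e := h _ huy (by rw [← hyo]; exact (MulAut.conj u).orderOf_eq y)
    rw [← smul_fixedBy, ← mem_stab_set.1 hu] at e
    exact smul_left_cancel u e
  obtain ⟨a, ha⟩ := hne
  obtain ⟨x, hx, hxo⟩ := exists_order_prime (P.dvd_card_of_dvd_card hp1)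
  refine ⟨H, stab_ne_top htr ha fun e => ?_, (P.dvd_card_of_dvd_card hp1).trans (card_dvd_of_le hPH), fun g hg hd => hg ?_⟩
  · exact fix_ne_univ (Ω := Ω) (ne_one_of_prime hp.out hxo) ((h x hx hxo).trans e)
  · obtain ⟨y, ⟨hy, w, hw, rfl⟩, hyo⟩ := exists_order_prime hd
    have hwo : orderOf w = p := by rw [← hyo]; exact ((MulAut.conj g).orderOf_eq w).symm
    have e1 := hfixH _ hy hyo
    rw [MulEquiv.coe_toMonoidHom, MulAut.conj_apply, ← smul_fixedBy, hfixH w hw hwo] at e1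
    exact e1

end Cfsg.Lib.Fix4
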