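import Mathlib

/-!
# A transitive group in which all but two central elements fix at most one point
-/

set_option autoImplicit false
set_option linter.unusedSectionVars false
set_option linter.style.haveILetI false

namespace Cfsg.Lib.Fix4

open MulAction Subgroup

/-- Two involutions fixing the same point, besides a central kernel of order two, force a single point. -/
theorem count_one {K O : Type*} [Group K] [Finite K] [MulAction K O] [Finite O] [IsPretransitive K O] (q0 : O) (x : K)
    (hx1 : x ≠ 1) (hx2 : x ^ 2 = 1) (hxc : ∀ g : K, Commute g x) (hxfix : ∀ p : O, x • p = p)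
    (hone : ∀ g : K, g ≠ 1 → g ≠ x → ∀ p q : O, g • p = p → g • q = q → p = q) (w : Bool → K)
    (hw : ∀ i, w i • q0 = q0 ∧ w i ^ 2 = 1 ∧ w i ≠ 1 ∧ w i ≠ x) (hne : w true ≠ w false)
    (hne' : w true ≠ w false * x) : ∀ q : O, q = q0 := by
  classical
  by_contra hno
  push Not at hno
  haveI := Fintype.ofFinite K
  haveI := Fintype.ofFinite O
  have hm : 2 ≤ Fintype.card O := by
    obtain ⟨q, hq⟩ := hno
    exact Fintype.one_lt_card_iff.2 ⟨q, q0, hq⟩
  haveI : Nonempty O := ⟨q0⟩
  haveI : Subsingleton (orbitRel.Quotient K O) := pretransitive_iff_subsingleton_quotient K O |>.1 inferInstance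
  haveI : Nonempty (orbitRel.Quotient K O) := ⟨Quotient.mk _ q0⟩
  haveI := Fintype.ofFinite (orbitRel.Quotient K O)
  have hburn := MulAction.sum_card_fixedBy_eq_card_orbits_mul_card_group K O
  have hq1 : Fintype.card (orbitRel.Quotient K O) = 1 := by
    refine Fintype.card_eq_one_iff.2 ⟨Quotient.mk _ q0, fun y => Subsingleton.elim _ _⟩
  rw [hq1, one_mul] at hburn
  set F := Finset.univ.filter (fun g : K => ∀ p : O, g • p ≠ p) with hF
  set R := (Finset.univ.erase (1 : K)).erase x with hR
  have hsum : ∀ g ∈ R, Fintype.card (fixedBy O g) ≤ if g ∈ F then 0 else 1 := by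
    intro g hg
    simp only [hR, Finset.mem_erase] at hg
    split_ifs with h
    · simp only [hF, Finset.mem_filter] at h
      exact le_of_eq (Fintype.card_eq_zero_iff.2 ⟨fun p => h.2 p.1 p.2⟩)
    · exact Fintype.card_le_one_iff.2 fun p q => Subtype.ext (hone g hg.2.1 hg.1 _ _ p.2 q.2)
  have hxm : x ∈ Finset.univ.erase (1 : K) := Finset.mem_erase.2 ⟨hx1, Finset.mem_univ _⟩
  have hfull : ∀ g : K, (∀ p : O, g • p = p) → Fintype.card (fixedBy O g) = Fintype.card O := fun g hg =>
    Fintype.card_congr (Equiv.subtypeUnivEquiv (p := fun p => p ∈ fixedBy O g) hg)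
  rw [← Finset.add_sum_erase _ _ (Finset.mem_univ (1 : K)), hfull 1 (one_smul K), ← Finset.add_sum_erase _ _ hxm,
    hfull x hxfix, ← hR] at hburn
  have hle := Finset.sum_le_sum hsum
  rw [Finset.sum_ite, Finset.sum_const_zero, zero_add, Finset.sum_const, smul_eq_mul, mul_one] at hle
  have hFR : F ⊆ R := by
    intro g hg
    simp only [hF, Finset.mem_filter] at hg
    simp only [hR, Finset.mem_erase]
    exact ⟨fun e => hg.2 q0 (e ▸ hxfix q0), fun e => hg.2 q0 (e ▸ one_smul K q0), Finset.mem_univ _⟩
  have hsplit := Finset.card_filter_add_card_filter_not (s := R) (fun g => g ∈ F)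
  rw [show R.filter (fun g => g ∈ F) = F by
    ext g; simp only [Finset.mem_filter]; exact ⟨fun h => h.2, fun h => ⟨hFR h, h⟩⟩] at hsplit
  have hRc : R.card + 2 = Fintype.card K := by
    rw [hR, Finset.card_erase_of_mem hxm, Finset.card_erase_of_mem (Finset.mem_univ _), Finset.card_univ]
    have : 2 ≤ Fintype.card K := Fintype.one_lt_card_iff.2 ⟨x, 1, hx1⟩
    omega
  -- products of two of the involutions fix no point
  choose r hr using fun q : O => exists_smul_eq K q0 q
  let u : K := w true
  let v : O → Bool → K := fun q i => r q * w i * (r q)⁻¹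
  have hv : ∀ q i, v q i • q = q ∧ v q i ^ 2 = 1 ∧ v q i ≠ 1 ∧ v q i ≠ x := fun q i => by
    refine ⟨?_, by rw [conj_pow, (hw i).2.1, mul_one, mul_inv_cancel], fun e => (hw i).2.2.1 (conj_eq_one_iff.1 e),
      fun e => (hw i).2.2.2 ?_⟩
    · rw [mul_smul, mul_smul, inv_smul_eq_iff.2 (hr q).symm, (hw i).1, hr]
    · have e' : r q * w i * (r q)⁻¹ = x := e
      rw [mul_inv_eq_iff_eq_mul, ← (hxc (r q)).eq] at e'
      exact mul_left_cancel e'
  have hsingle : ∀ {g : K} {q p : O}, g ≠ 1 → g ≠ x → g • q = q → g • p = p → p = q :=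
    fun {g q p} h1 h2 hq hp => hone g h1 h2 p q hp hq
  have hpow : ∀ ε : Bool, ∀ p : O, (cond ε x 1) • p = p := fun ε p => by cases ε <;> simp [hxfix]
  let j : {q : O // q ≠ q0} × Bool × Bool → F := fun z => ⟨u * v z.1 z.2.1 * cond z.2.2 x 1, by
    obtain ⟨⟨q, hq⟩, i, ε⟩ := z
    simp only [hF, Finset.mem_filter]
    refine ⟨Finset.mem_univ _, fun p hp => ?_⟩
    rw [mul_smul, hpow, mul_smul] at hp
    obtain ⟨hvq, hv2, hv1, hvx⟩ := hv q i
    obtain ⟨huq, hu2, hu1, hux⟩ := hw true
    change u • v q i • p = p at hp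
    have huu : ∀ s : O, u • u • s = s := fun s => by
      rw [smul_smul, ← pow_two, show u ^ 2 = 1 from hu2, one_smul]
    have hvv : ∀ s : O, v q i • v q i • s = s := fun s => by rw [smul_smul, ← pow_two, hv2, one_smul]
    have hvp : v q i • p = u • p := by
      have := congrArg (u • ·) hp
      simp only [huu] at this
      exact this
    have hg2 : u • v q i • (u • p) = u • p := by rw [← hvp, hvv]; exact hvp.symm
    have hg1 : u * v q i ≠ 1 := fun e => hq (hsingle hu1 hux huq (by
      change u • q = q
      rw [eq_inv_of_mul_eq_one_left e, inv_eq_of_mul_eq_one_right (show v q i * v q i = 1 by rw [← pow_two, hv2])]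
      exact hvq))
    have hgx : u * v q i ≠ x := fun e => hq (hsingle hu1 hux huq (by
      change u • q = q
      have e' : u = x * v q i := by
        rw [← e, mul_assoc, ← pow_two, hv2, mul_one]
      rw [e', mul_smul, hvq, hxfix]))
    have hup : u • p = p := hsingle hg1 hgx (by rw [mul_smul]; exact hp) (by rw [mul_smul]; exact hg2)
    have hp0 : p = q0 := hsingle hu1 hux huq hup
    subst hp0
    exact hq (hsingle hv1 hvx (hvp.trans hup) hvq)⟩
  have hj : Function.Injective j := by
    rintro ⟨⟨q, hq⟩, i, ε⟩ ⟨⟨q', hq'⟩, i', ε'⟩ e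
    have e : u * v q i * cond ε x 1 = u * v q' i' * cond ε' x 1 := congrArg Subtype.val e
    rw [mul_assoc u, mul_assoc u] at e
    have e := mul_left_cancel e
    have hqq : q' = q := by
      refine hsingle (hv q i).2.2.1 (hv q i).2.2.2 (hv q i).1 ?_
      have h := congrArg (fun g => g • q') e
      simp only [mul_smul, hpow] at h
      rw [h, (hv q' i').1]
    subst hqq
    simp only [v, mul_assoc] at e
    have e := mul_left_cancel e
    have hcc : ∀ ε : Bool, Commute (r q')⁻¹ (cond ε x 1) := fun ε => by
      cases ε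
      · exact Commute.one_right _
      · exact hxc _
    rw [(hcc ε).eq, (hcc ε').eq, ← mul_assoc, ← mul_assoc] at e
    have e := mul_right_cancel e
    have hxx : x * x = 1 := by rw [← pow_two, hx2]
    have hkey : ∀ {g g' : K}, g * x = g' → g = g' * x := fun {g g'} h => by
      rw [← h, mul_assoc, hxx, mul_one]
    refine Prod.ext rfl (Prod.ext ?_ ?_) <;>
      cases i <;> cases i' <;> cases ε <;> cases ε' <;> simp only [cond_true, cond_false, mul_one] at e ⊢ <;>
      first
        | exact (hne e).elim
        | exact (hne e.symm).elim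
        | exact (hne' e).elim
        | exact (hne' e.symm).elim
        | exact (hne' (hkey e)).elim
        | exact (hne' (hkey e.symm)).elim
        | exact (hne (mul_right_cancel e)).elim
        | exact (hne (mul_right_cancel e).symm).elim
        | exact (hx1 (mul_eq_left.1 e)).elim
        | exact (hx1 (mul_eq_left.1 e.symm)).elim
        | rfl
  have hcard := Fintype.card_le_of_injective j hj
  rw [Fintype.card_prod, Fintype.card_prod, Fintype.card_bool, Fintype.card_subtype_compl,
    Fintype.card_subtype_eq, Fintype.card_coe] at hcard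
  omega

end Cfsg.Lib.Fix4
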