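import Cfsg.Agent.Lib.Fix4.Flat

/-!
# The translates of the fixed-point set of a central involution
-/

set_option autoImplicit false
set_option linter.unusedSectionVars false
set_option linter.style.haveILetI false

namespace Cfsg.Lib.Fix4

open MulAction Subgroup
open scoped Pointwise

universe u v

variable {G : Type u} {Ω : Type v} [Group G] [Finite G] [MulAction G Ω] [Finite Ω]

/-- A translate of the set `Δ`. -/
def IsFib (G : Type u) {Ω : Type v} [Group G] [MulAction G Ω] (Δ D : Set Ω) : Prop := ∃ g : G, g • Δ = D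

theorem isFib_smul {Δ D : Set Ω} (h : IsFib G Δ D) (g : G) : IsFib G Δ (g • D) := by
  obtain ⟨k, rfl⟩ := h
  exact ⟨g * k, mul_smul g k Δ⟩

/-- Four points split into two pairs by a fixed-point-free involution. -/
theorem quad {x : G} (hx2 : x ^ 2 = 1) {D : Set Ω} (hD : D.ncard = 4) (hx : x ∈ stabilizer G D)
    (hfree : ∀ z ∈ D, x • z ≠ z) {e f : Ω} (he : e ∈ D) (hf : f ∈ D) (hfe : f ≠ e) (hfxe : f ≠ x • e) {z : Ω}
    (hz : z ∈ D) : z = e ∨ z = x • e ∨ z = f ∨ z = x • f := by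
  have hxx : ∀ w : Ω, x • x • w = w := fun w => by rw [smul_smul, ← pow_two, hx2, one_smul]
  have h4 : ({e, x • e, f, x • f} : Set Ω).ncard = 4 := by
    rw [Set.ncard_insert_of_notMem, Set.ncard_insert_of_notMem, Set.ncard_pair (hfree f hf).symm]
    · simp only [Set.mem_insert_iff, Set.mem_singleton_iff, not_or]
      exact ⟨hfxe.symm, fun h => hfe (smul_left_cancel x h).symm⟩
    · simp only [Set.mem_insert_iff, Set.mem_singleton_iff, not_or]
      exact ⟨(hfree e he).symm, hfe.symm, fun h => hfxe (by rw [h, hxx])⟩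
  have h : ({e, x • e, f, x • f} : Set Ω) = D := Set.eq_of_subset_of_ncard_le (by
    intro w hw
    rcases hw with rfl | rfl | rfl | rfl
    exacts [he, stab_smul_mem hx he, hf, stab_smul_mem hx hf]) (by rw [hD, h4]) (Set.toFinite _)
  exact h.ge hz

namespace Flat

variable {S : Sylow 2 G} {a : Ω} {t : G} (A : Flat (S : Subgroup G) a t)
include A

theorem fib_card {D : Set Ω} (hD : IsFib G (fixedBy Ω t) D) : D.ncard = 4 := by
  obtain ⟨g, rfl⟩ := hD
  rw [Set.ncard_smul_set, A.ncard_four]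

theorem stab_conj {D : Set Ω} {g w : G} (hD : g • fixedBy Ω t = D) (hw : w ∈ stabilizer G D) :
    g⁻¹ * w * g ∈ stabilizer G (fixedBy Ω t) := by
  rw [mem_stab_set, mul_smul, mul_smul, hD, mem_stab_set.1 hw, ← hD, inv_smul_smul]

/-- A 2-element with a fixed point fixes pointwise every translate it stabilizes. -/
theorem star {D : Set Ω} (hD : IsFib G (fixedBy Ω t) D) {w : G} (hw : ∃ k, w ^ 2 ^ k = 1) (hw1 : w ≠ 1)
    (hwD : w ∈ stabilizer G D) {e : Ω} (he : w • e = e) : fixedBy Ω w = D := by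
  haveI : Fact (Nat.Prime 2) := ⟨Nat.prime_two⟩
  obtain ⟨g, hg⟩ := hD
  obtain ⟨h, hh, hw'⟩ := conj_elem S (H := stabilizer G (fixedBy Ω t)) A.le_stab (A.stab_conj hg hwD) (by
    obtain ⟨k, hk⟩ := hw
    refine ⟨k, ?_⟩
    rw [show g⁻¹ * w * g = g⁻¹ * w * g⁻¹⁻¹ by rw [inv_inv], conj_pow, hk, mul_one, mul_inv_cancel])
  have heq : h * (g⁻¹ * w * g) * h⁻¹ = (h * g⁻¹) * w * (h * g⁻¹)⁻¹ := by group
  rw [heq] at hw'
  have hw1' : (h * g⁻¹) * w * (h * g⁻¹)⁻¹ ≠ 1 := fun e => hw1 (conj_eq_one_iff.1 e)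
  have hfix : (h * g⁻¹) • e ∈ fixedBy Ω ((h * g⁻¹) * w * (h * g⁻¹)⁻¹) := by
    rw [mem_conj, inv_smul_smul]; exact he
  have hmem : (h * g⁻¹) • e ∈ fixedBy Ω t := by
    by_contra hno
    exact hw1' (A.free hno hw' hfix)
  have h2 := A.fix_same ((A.st_eq hmem).le ⟨hw', hfix⟩) hw1'
  rw [← smul_fixedBy] at h2
  rw [← hg, ← inv_smul_smul (h * g⁻¹) (fixedBy Ω w), h2, mul_inv_rev, inv_inv, mul_smul,
    mem_stab_set.1 (inv_mem hh)]

/-- A 2-element stabilizing two translates has no fixed point. -/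
theorem no_fix_two {D D' : Set Ω} (hD : IsFib G (fixedBy Ω t) D) (hD' : IsFib G (fixedBy Ω t) D') (hne : D ≠ D')
    {w : G} (hw : ∃ k, w ^ 2 ^ k = 1) (hwD : w ∈ stabilizer G D) (hwD' : w ∈ stabilizer G D') {e : Ω}
    (he : w • e = e) : w = 1 := by
  by_contra hw1
  exact hne ((A.star hD hw hw1 hwD he).symm.trans (A.star hD' hw hw1 hwD' he))

end Flat

/-- An involution `x` without fixed points stabilizing `Δ = fixedBy t` and another translate of it. -/
structure Pair {G : Type u} {Ω : Type v} [Group G] [MulAction G Ω] {S : Sylow 2 G} {a : Ω} {t : G}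
    (A : Flat (S : Subgroup G) a t) (x : G) : Prop where
  ord : orderOf x = 2
  stab : x ∈ stabilizer G (fixedBy Ω t)
  other : ∃ D, IsFib G (fixedBy Ω t) D ∧ D ≠ fixedBy Ω t ∧ x ∈ stabilizer G D

namespace Pair

variable {S : Sylow 2 G} {a : Ω} {t x : G} {A : Flat (S : Subgroup G) a t} (X : Pair A x)
include X

theorem sq : x ^ 2 = 1 := by rw [← X.ord, pow_orderOf_eq_one]

theorem free (e : Ω) : x • e ≠ e := fun h => by
  obtain ⟨D, hD, hne, hxD⟩ := X.other
  exact ne_one_of_prime Nat.prime_two X.ord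
    (A.no_fix_two hD ⟨1, one_smul G _⟩ hne ⟨1, by rw [pow_one, X.sq]⟩ hxD X.stab h)

theorem xx (e : Ω) : x • x • e = e := by rw [smul_smul, ← pow_two, X.sq, one_smul]

theorem sq_step {D : Set Ω} (hD : IsFib G (fixedBy Ω t) D) (hxD : x ∈ stabilizer G D) {g : G}
    (hg : Commute g x) (hgD : g ∈ stabilizer G D) {e : Ω} (he : e ∈ D) :
    (g ^ 2) • e = e ∨ (g ^ 2) • e = x • e := by
  have hcomm : ∀ z : Ω, g • x • z = x • g • z := fun z => by rw [smul_smul, hg.eq, mul_smul]
  rw [pow_two, mul_smul]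
  by_cases h1 : g • e = e
  · exact Or.inl (by rw [h1, h1])
  by_cases h2 : g • e = x • e
  · exact Or.inl (by rw [h2, hcomm, h2, X.xx])
  rcases quad X.sq (A.fib_card hD) hxD (fun z _ => X.free z) he (stab_smul_mem hgD he) h1 h2
    (stab_smul_mem hgD (stab_smul_mem hgD he)) with h | h | h | h
  · exact Or.inl h
  · exact Or.inr h
  · exact absurd (smul_left_cancel g h) h1
  · rw [← hcomm] at h; exact absurd (smul_left_cancel g h) h2

theorem pow_four {D : Set Ω} (hD : IsFib G (fixedBy Ω t) D) (hxD : x ∈ stabilizer G D) {g : G}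
    (hg : Commute g x) (hgD : g ∈ stabilizer G D) {e : Ω} (he : e ∈ D) : (g ^ 4) • e = e := by
  rw [show 4 = 2 + 2 from rfl, pow_add, mul_smul]
  rcases X.sq_step hD hxD hg hgD he with h | h
  · rw [h, h]
  · rw [h, smul_smul, (hg.pow_left 2).eq, mul_smul, h, X.xx]

/-- An element commuting with `x` and fixing a point of a stable translate fixes all of it. -/
theorem fix_all {D : Set Ω} (hD : IsFib G (fixedBy Ω t) D) (hxD : x ∈ stabilizer G D) {k : G}
    (hk : Commute k x) (hkD : k ∈ stabilizer G D) {e : Ω} (he : e ∈ D) (hke : k • e = e) : D ⊆ fixedBy Ω k := by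
  intro f hf
  by_contra hkf
  have hkxe : k • x • e = x • e := by rw [smul_smul, hk.eq, mul_smul, hke]
  have hfe : f ≠ e := fun h => hkf (h ▸ hke)
  have hfxe : f ≠ x • e := fun h => hkf (h ▸ hkxe)
  have hkf' : k • f = x • f := by
    rcases quad X.sq (A.fib_card hD) hxD (fun z _ => X.free z) he hf hfe hfxe (stab_smul_mem hkD hf) with h | h | h | h
    · exact absurd (smul_left_cancel k (h.trans hke.symm)) hfe
    · exact absurd (smul_left_cancel k (h.trans hkxe.symm)) hfxe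
    · exact absurd h hkf
    · exact h
  obtain ⟨j, m, hm, hjm⟩ := Nat.exists_eq_two_pow_mul_odd (orderOf_pos k).ne'
  have hk2 : (k ^ 2) • f = f := by rw [pow_two, mul_smul, hkf', smul_smul, hk.eq, mul_smul, hkf', X.xx]
  have hwf : (k ^ m) • f = x • f := by
    obtain ⟨r, rfl⟩ := hm
    rw [pow_succ', mul_smul, pow_mul,
      show ((k ^ 2) ^ r) • f = f from fix_pow (show f ∈ fixedBy Ω (k ^ 2) from hk2) r, hkf']
  have hw : ∃ i, (k ^ m) ^ 2 ^ i = 1 := ⟨j, by rw [← pow_mul, mul_comm, ← hjm, pow_orderOf_eq_one]⟩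
  have hw1 : k ^ m ≠ 1 := fun h => X.free f (by rw [← hwf, h, one_smul])
  have := A.star hD hw hw1 (pow_mem hkD m) (fix_pow (show e ∈ fixedBy Ω k from hke) m)
  exact X.free f (hwf.symm.trans (this.ge hf))

/-- An element commuting with `x` and stabilizing two stable translates has fourth power one. -/
theorem two_fibs {D D' : Set Ω} (hD : IsFib G (fixedBy Ω t) D) (hxD : x ∈ stabilizer G D)
    (hD' : IsFib G (fixedBy Ω t) D') (hxD' : x ∈ stabilizer G D') (hne : D ≠ D') {g : G} (hg : Commute g x)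
    (hgD : g ∈ stabilizer G D) (hgD' : g ∈ stabilizer G D') : g ^ 4 = 1 := by
  obtain ⟨f, hf, hfD⟩ := Set.not_subset.1 fun h : D' ⊆ D =>
    hne (Set.eq_of_subset_of_ncard_le h (by rw [A.fib_card hD, A.fib_card hD']) (Set.toFinite _)).symm
  exact eq_one_of_five A.base.fixity (fun e he => X.pow_four hD hxD hg hgD he) (A.fib_card hD).ge
    (X.pow_four hD' hxD' hg hgD' hf) hfD

theorem two_fibs_free {D D' : Set Ω} (hD : IsFib G (fixedBy Ω t) D) (hxD : x ∈ stabilizer G D)
    (hD' : IsFib G (fixedBy Ω t) D') (hxD' : x ∈ stabilizer G D') (hne : D ≠ D') {g : G} (hg : Commute g x)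
    (hgD : g ∈ stabilizer G D) (hgD' : g ∈ stabilizer G D') {e : Ω} (he : g • e = e) : g = 1 :=
  A.no_fix_two hD hD' hne ⟨2, X.two_fibs hD hxD hD' hxD' hne hg hgD hgD'⟩ hgD hgD' he

theorem two_fibs_sq {D D' : Set Ω} (hD : IsFib G (fixedBy Ω t) D) (hxD : x ∈ stabilizer G D)
    (hD' : IsFib G (fixedBy Ω t) D') (hxD' : x ∈ stabilizer G D') (hne : D ≠ D') {g : G} (hg : Commute g x)
    (hgD : g ∈ stabilizer G D) (hgD' : g ∈ stabilizer G D') : g ^ 2 = 1 ∨ g ^ 2 = x := by
  obtain ⟨e, he⟩ := Set.nonempty_of_ncard_ne_zero (by rw [A.fib_card hD]; omega : D.ncard ≠ 0)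
  rcases X.sq_step hD hxD hg hgD he with h | h
  · exact Or.inl (X.two_fibs_free hD hxD hD' hxD' hne (hg.pow_left 2) (pow_mem hgD 2) (pow_mem hgD' 2) h)
  · have h1 : x * g ^ 2 = 1 := X.two_fibs_free hD hxD hD' hxD' hne ((Commute.refl x).mul_left (hg.pow_left 2))
      (mul_mem hxD (pow_mem hgD 2)) (mul_mem hxD' (pow_mem hgD' 2)) (by rw [mul_smul, h, X.xx])
    exact Or.inr ((inv_eq_of_mul_eq_one_right h1).symm.trans
      (inv_eq_of_mul_eq_one_right (by rw [← pow_two, X.sq])))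

end Pair

end Cfsg.Lib.Fix4
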