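import Cfsg.Agent.Lib.Fix4.Four

/-!
# The largest stabilizer fixes the four points of its central involution
-/

set_option autoImplicit false
set_option linter.unusedSectionVars false
set_option linter.style.haveILetI false

namespace Cfsg.Lib.Fix4

open MulAction Subgroup
open scoped Pointwise

universe u v

variable {G : Type u} {Ω : Type v} [Group G] [Finite G] [MulAction G Ω] [Finite Ω] {S : Subgroup G}

/-- The largest stabilizer `st S a` fixes every fixed point of the involution `t` in it. -/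
structure Flat {G : Type u} {Ω : Type v} [Group G] [MulAction G Ω] (S : Subgroup G) (a : Ω) (t : G) : Prop where
  base : Four Ω S
  mem : t ∈ st S a
  ord : orderOf t = 2
  top : ∀ d : Ω, Nat.card (st S d) ≤ Nat.card (st S a)
  all : ∀ y ∈ st S a, fixedBy Ω t ⊆ fixedBy Ω y

namespace Flat

variable {a : Ω} {t : G} (A : Flat S a t)
include A

theorem ncard_four : (fixedBy Ω t).ncard = 4 := A.base.inv t A.ord a A.mem.2

theorem fix_same {y : G} (hy : y ∈ st S a) (hy1 : y ≠ 1) : fixedBy Ω y = fixedBy Ω t :=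
  fix_eq A.base.fixity hy1 (A.all y hy) A.ncard_four.ge

theorem st_eq {b : Ω} (hb : b ∈ fixedBy Ω t) : st S b = st S a := by
  have h : st S a ≤ st S b := fun y hy => ⟨hy.1, A.all y hy hb⟩
  exact (eq_of_le_of_card_ge h (A.top b)).symm

theorem four_le : 4 ≤ Nat.card (st S a) := A.base.st_four A.mem.1 (ne_one_of_prime Nat.prime_two A.ord) A.mem.2

theorem conj_mem {g y : G} (hg : g ∈ S ⊓ stabilizer G (fixedBy Ω t)) (hy : y ∈ st S a) :
    g * y * g⁻¹ ∈ st S a := by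
  refine ⟨S.mul_mem (S.mul_mem hg.1 hy.1) (S.inv_mem hg.1), ?_⟩
  show a ∈ fixedBy Ω (g * y * g⁻¹)
  exact mem_conj.2 (A.all y hy (stab_smul_mem (inv_mem hg.2) A.mem.2))

theorem ti {g y : G} (hg : g ∈ S) (hy : y ∈ st S a) (hy1 : y ≠ 1) (h : g * y * g⁻¹ ∈ st S a) :
    g ∈ S ⊓ stabilizer G (fixedBy Ω t) := by
  refine ⟨hg, ?_⟩
  rw [← A.fix_same hy hy1]
  exact stab_fix_of_normalize ((A.fix_same h fun e => hy1 (conj_eq_one_iff.1 e)).trans (A.fix_same hy hy1).symm)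

theorem card_le : Nat.card (S ⊓ stabilizer G (fixedBy Ω t) : Subgroup G) ≤ 4 * Nat.card (st S a) := by
  refine (st_bound (C := S ⊓ stabilizer G (fixedBy Ω t)) (d := a) (Δ := fixedBy Ω t) A.mem.2
    fun c hc x hx => stab_smul_mem hc.2 hx).trans ?_
  rw [A.ncard_four]
  have h : st (S ⊓ stabilizer G (fixedBy Ω t)) a ≤ st S a := fun y hy => ⟨hy.1.1, hy.2⟩
  exact Nat.mul_le_mul_left 4 (card_le_of_le h)

/-- The Sylow subgroup stabilizes the fixed-point set. -/
theorem le_stab : S ≤ stabilizer G (fixedBy Ω t) := by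
  haveI : Fact (Nat.Prime 2) := ⟨Nat.prime_two⟩
  by_contra hne
  set N := S ⊓ stabilizer G (fixedBy Ω t) with hN
  set T := st S a with hT
  have hTN : T ≤ N := fun y hy => ⟨hy.1, stab_of_maps fun x hx => by
    rw [show y • x = x from A.all y hy hx]; exact hx⟩
  obtain ⟨g, hg, hgN, hgn⟩ : ∃ g ∈ S, g ∉ N ∧ ∀ n ∈ N, g * n * g⁻¹ ∈ N := by
    by_contra hno
    push Not at hno
    have h := normalizer_top_of A.base.two (N := N.subgroupOf S) fun g hg => by
      by_contra hgN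
      obtain ⟨n, hn, hbad⟩ := hno g g.2 hgN
      exact hbad (hg ⟨n, hn.1⟩ hn)
    exact hne fun g hg => (mem_subgroupOf.1 (h.ge (mem_top (⟨g, hg⟩ : S)))).2
  set T' := T.map (MulAut.conj g).toMonoidHom with hT'
  have hT'N : T' ≤ N := by rintro _ ⟨y, hy, rfl⟩; exact hgn y (hTN hy)
  have hdisj : T ⊓ T' = ⊥ := by
    refine (eq_bot_iff_forall _).2 fun w hw => ?_
    obtain ⟨hw1, y, hy, rfl⟩ := hw
    by_contra hne'
    exact hgN (A.ti hg hy (fun e => hne' (by rw [e, map_one])) hw1)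
  have hT'c : Nat.card T' = Nat.card T := card_map_of_injective (MulAut.conj g).injective
  have h1 := card_mul_le hTN hT'N
  rw [hdisj, card_bot, hT'c, mul_one] at h1
  have h2 := A.card_le
  rw [← hN, ← hT] at h2
  have h4 := A.four_le
  rw [← hT] at h4
  have hT4 : Nat.card T = 4 := le_antisymm (Nat.le_of_mul_le_mul_right (h1.trans h2) (by omega)) h4
  rw [hT4] at h1 h2
  refine A.base.big (sub_pair_sixteen A.base.two T T' N inf_le_left hT4 (hT'c.trans hT4) (le_antisymm h2 h1)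
    hTN hT'N hdisj ?_ fun h hh y hy hy1 hc => A.ti hh hy hy1 hc)
  have hn' : ∀ n ∈ N, ∀ q ∈ T', n * q * n⁻¹ ∈ T' := by
    rintro n hn _ ⟨y, hy, rfl⟩
    have hm : g⁻¹ * n * g ∈ N := by
      -- conjugation by `g` permutes `N`
      have e : N.map (MulAut.conj g).toMonoidHom = N := eq_of_le_of_card_ge
        (by rintro _ ⟨m, hm, rfl⟩; exact hgn m hm)
        (le_of_eq (card_map_of_injective (MulAut.conj g).injective).symm)
      obtain ⟨m, hm, e'⟩ := e.ge hn
      have e' : g * m * g⁻¹ = n := e'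
      rw [← e']
      rwa [show g⁻¹ * (g * m * g⁻¹) * g = m by group]
    refine ⟨_, A.conj_mem hm hy, ?_⟩
    show g * ((g⁻¹ * n * g) * y * (g⁻¹ * n * g)⁻¹) * g⁻¹ = n * (g * y * g⁻¹) * n⁻¹
    group
  intro p hp q hq
  have h5 : p * q * p⁻¹ * q⁻¹ ∈ T ⊓ T' := by
    refine ⟨?_, T'.mul_mem (hn' p (hTN hp) q hq) (T'.inv_mem hq)⟩
    rw [show p * q * p⁻¹ * q⁻¹ = p * (q * p⁻¹ * q⁻¹) by group]
    exact T.mul_mem hp (A.conj_mem (hT'N hq) (T.inv_mem hp))
  rw [hdisj, mem_bot, mul_inv_eq_one, mul_inv_eq_iff_eq_mul] at h5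
  exact h5

theorem normal {g y : G} (hg : g ∈ S) (hy : y ∈ st S a) : g * y * g⁻¹ ∈ st S a :=
  A.conj_mem ⟨hg, A.le_stab hg⟩ hy

theorem card_top : Nat.card S ≤ 4 * Nat.card (st S a) :=
  (card_le_of_le (le_inf le_rfl A.le_stab)).trans A.card_le

/-- No 2-element outside the largest stabilizer fixes a point. -/
theorem free {d : Ω} (hd : d ∉ fixedBy Ω t) {y : G} (hy : y ∈ S) (hyd : y • d = d) : y = 1 := by
  classical
  haveI : Fact (Nat.Prime 2) := ⟨Nat.prime_two⟩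
  by_contra hy1
  have F := A.base
  set T := st S a with hT
  set P := st S d with hP
  have hdisjPT : P ⊓ T = ⊥ := (eq_bot_iff_forall _).2 fun w hw => by
    by_contra hw1
    exact hd ((A.fix_same hw.2 hw1).le hw.1.2)
  have hP4 : 4 ≤ Nat.card P := F.st_four hy hy1 hyd
  have h1 := card_mul_le (A := P) (B := T) (C := S) inf_le_left inf_le_left
  rw [hdisjPT, card_bot, mul_one] at h1
  have hS4 := A.card_top
  rw [← hT] at hS4
  have hT4 : 4 ≤ Nat.card T := A.four_le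
  have hP4' : Nat.card P = 4 := le_antisymm (Nat.le_of_mul_le_mul_right (h1.trans hS4) (by omega)) hP4
  obtain ⟨s, hs, hso⟩ := exists_order_prime (p := 2) (H := P) (by rw [hP4']; norm_num)
  have hs1 := ne_one_of_prime Nat.prime_two hso
  set Δ := fixedBy Ω s with hΔ
  have hΔ4 : Δ.ncard = 4 := F.inv s hso d hs.2
  have hΔT : ∀ e ∈ Δ, ∀ w ∈ T, w • e = e → w = 1 := by
    intro e he w hw hwe
    by_contra hw1
    have hs' : s ∈ st S e := ⟨hs.1, he⟩
    rw [A.st_eq ((A.fix_same hw hw1).le hwe)] at hs'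
    exact hs1 (mem_bot.1 (hdisjPT.le ⟨hs, hs'⟩))
  set C := cent S s with hC
  have hCinv : ∀ c ∈ C, ∀ x ∈ Δ, c • x ∈ Δ := cent_invariant s
  have hCd : st C d ≤ P := fun c hc => ⟨hc.1.1, hc.2⟩
  have hC1 := st_bound (C := C) (d := d) (Δ := Δ) hs.2 hCinv
  rw [hΔ4] at hC1
  have hC8 := F.not_cent_eight hs.1 hso
  change ¬ Nat.card C ≤ 8 at hC8
  have hCd4 := card_le_of_le hCd
  have hC16 : Nat.card C = 16 := card_eq_of_pow (K := C) (b := 4) F.two inf_le_left (by omega) (by omega)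
  have hCdP : st C d = P := eq_of_le_of_card_ge hCd (by omega)
  have hPC : P ≤ C := fun p hp => (hCdP.ge hp).1
  set A' := C ⊓ T with hA'
  have hdisj : P ⊓ A' = ⊥ := (eq_bot_iff_forall _).2 fun w hw => mem_bot.1 (hdisjPT.le ⟨hw.1, hw.2.2⟩)
  have hA4 : Nat.card A' = 4 := by
    have h2 := card_mul_le (A := C) (B := T) (C := S) inf_le_left inf_le_left
    rw [← hA', hC16] at h2
    have h3 := card_mul_le (A := P) (B := A') (C := C) hPC inf_le_left
    rw [hdisj, card_bot, hP4', mul_one, hC16] at h3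
    have h4 : 16 * Nat.card T ≤ (4 * Nat.card A') * Nat.card T := by
      refine h2.trans ((Nat.mul_le_mul_right _ hS4).trans (le_of_eq ?_))
      ring
    have := Nat.le_of_mul_le_mul_right h4 (by omega)
    omega
  have hA'n : ∀ c ∈ C, ∀ α ∈ A', c * α * c⁻¹ ∈ A' := fun c hc α hα =>
    ⟨C.mul_mem (C.mul_mem hc hα.1) (C.inv_mem hc), A.normal hc.1 hα.2⟩
  have hAfree : ∀ e ∈ Δ, ∀ α ∈ A', α • e = e → α = 1 := fun e he α hα => hΔT e he α hα.2
  have hreg : ∀ e ∈ Δ, ∃ α ∈ A', α • d = e := fun e he => by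
    refine trans_of_card (C := A') (d := d) (Δ := Δ) hs.2 (fun c hc => hCinv c hc.1) ?_ he
    rw [hΔ4, hA4, show st A' d = ⊥ from (eq_bot_iff_forall _).2 fun w hw => hAfree d hs.2 w hw.1 hw.2, card_bot]
  have hdec : ∀ c ∈ C, ∃ α ∈ A', ∃ p ∈ P, c = α * p := fun c hc => by
    obtain ⟨α, hα, e⟩ := hreg _ (hCinv c hc d hs.2)
    refine ⟨α, hα, α⁻¹ * c, hCdP.le ⟨C.mul_mem (C.inv_mem hα.1) hc, ?_⟩, by group⟩
    show (α⁻¹ * c) • d = d
    rw [mul_smul, ← e, inv_smul_smul]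
  by_cases hfix : ∀ p ∈ P, Δ ⊆ fixedBy Ω p
  · -- the stabilizer fixes the whole set
    refine F.big (sub_pair_sixteen F.two P A' C inf_le_left hP4' hA4 hC16 hPC inf_le_left hdisj ?_ ?_)
    · intro p hp α hα
      have hPn : α * p⁻¹ * α⁻¹ ∈ P := hCdP.le ⟨C.mul_mem (C.mul_mem hα.1 (C.inv_mem (hPC hp))) (C.inv_mem hα.1), by
        show d ∈ fixedBy Ω (α * p⁻¹ * α⁻¹)
        exact mem_conj.2 (hfix _ (P.inv_mem hp) (hCinv _ (C.inv_mem hα.1) d hs.2))⟩
      have h5 : p * α * p⁻¹ * α⁻¹ ∈ P ⊓ A' := by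
        refine ⟨?_, A'.mul_mem (hA'n p (hPC hp) α hα) (A'.inv_mem hα)⟩
        rw [show p * α * p⁻¹ * α⁻¹ = p * (α * p⁻¹ * α⁻¹) by group]
        exact P.mul_mem hp hPn
      rw [hdisj, mem_bot, mul_inv_eq_one, mul_inv_eq_iff_eq_mul] at h5
      exact h5
    · intro g hg w hw hw1 hc
      have e1 : fixedBy Ω w = Δ := fix_eq F.fixity hw1 (hfix w hw) hΔ4.ge
      have e2 : fixedBy Ω (g * w * g⁻¹) = Δ :=
        fix_eq F.fixity (fun e => hw1 (conj_eq_one_iff.1 e)) (hfix _ hc) hΔ4.ge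
      have hgs : g ∈ S ⊓ stabilizer G Δ := ⟨hg, e1 ▸ stab_fix_of_normalize (e2.trans e1.symm)⟩
      have hle : C ≤ S ⊓ stabilizer G Δ := fun c hc => ⟨hc.1, stab_of_maps (hCinv c hc)⟩
      have h6 := st_bound (C := S ⊓ stabilizer G Δ) (d := d) (Δ := Δ) hs.2 fun c hc x hx => stab_smul_mem hc.2 hx
      have h7 : st (S ⊓ stabilizer G Δ) d ≤ P := fun c hc => ⟨hc.1.1, hc.2⟩
      have h8 := card_le_of_le h7
      rw [hΔ4] at h6
      exact (eq_of_le_of_card_ge hle (by omega)).ge hgs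
  push Not at hfix
  obtain ⟨x, hx, hxΔ⟩ := hfix
  let K : Subgroup G :=
    { carrier := {p | p ∈ P ∧ Δ ⊆ fixedBy Ω p}
      one_mem' := ⟨P.one_mem, by simp⟩
      mul_mem' := fun {p q} hp hq => ⟨P.mul_mem hp.1 hq.1, fun e he => by
        rw [mem_fixedBy, mul_smul, mem_fixedBy.1 (hq.2 he), mem_fixedBy.1 (hp.2 he)]⟩
      inv_mem' := fun {p} hp => ⟨P.inv_mem hp.1, fun e he => by
        rw [fixedBy_inv]; exact hp.2 he⟩ }
  have hK : ∀ p ∈ P, Δ ⊆ fixedBy Ω p → p = 1 ∨ p = s := fun p hp hpΔ => by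
    refine two_of_card (K := K) ?_ ⟨hs, subset_rfl⟩ hs1 ⟨hp, hpΔ⟩
    have := card_le_half (show K ≤ P from fun q hq => hq.1) fun e => hxΔ (e.ge hx).2
    omega
  haveI : IsMulCommutative P := IsPGroup.isMulCommutative_of_card_eq_prime_sq (p := 2) (by rw [hP4']; norm_num)
  haveI : IsMulCommutative A' := IsPGroup.isMulCommutative_of_card_eq_prime_sq (p := 2) (by rw [hA4]; norm_num)
  have cA : ∀ {α β : G}, α ∈ A' → β ∈ A' → Commute α β := fun {α β} hα hβ =>
    congrArg Subtype.val (mul_comm' (⟨α, hα⟩ : A') ⟨β, hβ⟩)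
  have cP : ∀ {α β : G}, α ∈ P → β ∈ P → Commute α β := fun {α β} hα hβ =>
    congrArg Subtype.val (mul_comm' (⟨α, hα⟩ : P) ⟨β, hβ⟩)
  have hcentA : ∀ p ∈ P, (∀ α ∈ A', Commute p α) → p = 1 ∨ p = s := fun p hp h => hK p hp fun e he => by
    obtain ⟨α, hα, rfl⟩ := hreg e he
    exact fix_comm (h α hα).symm hp.2
  have hs2 : s ^ 2 = 1 := by rw [← hso, pow_orderOf_eq_one]
  by_cases hAel : ∀ α ∈ A', α ^ 2 = 1
  · set E := C ⊓ centralizer (A' : Set G) with hE
    have hEmem : ∀ g ∈ E, ∀ α ∈ A', Commute g α := fun g hg α hα => (mem_centralizer_iff.1 hg.2 α hα).symm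
    have hsE : s ∈ E := ⟨hPC hs, mem_centralizer_iff.2 fun α hα => (mem_cent.1 hα.1).2.eq⟩
    have hAE : A' ≤ E := fun α hα => ⟨hα.1, mem_centralizer_iff.2 fun β hβ => (cA hβ hα).eq⟩
    have hxE : x ∉ E := fun h => (hcentA x hx (hEmem x h)).elim
      (fun e => hxΔ (by rw [e]; simp)) (fun e => hxΔ (by rw [e]))
    refine F.big (sub_self_eight F.two (A := E) (inf_le_left.trans inf_le_left) (fun g hg => ?_) ?_
      fun g hg h => ⟨mem_cent.2 ⟨hg, h s hsE⟩, mem_centralizer_iff.2 fun α hα => (h α (hAE hα)).eq.symm⟩)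
    · obtain ⟨α, hα, p, hp, rfl⟩ := hdec g hg.1
      rcases hcentA p hp fun β hβ => by
        have h9 := ((cA hα hβ).inv_left).mul_left (hEmem _ hg β hβ)
        rwa [inv_mul_cancel_left] at h9 with h | h <;> subst h
      · rw [mul_one]; exact hAel α hα
      · rw [((mem_cent.1 hα.1).2).mul_pow, hAel α hα, hs2, one_mul]
    · have h1 : 2 * Nat.card A' ≤ Nat.card E := card_le_half hAE fun e => hs1 (mem_bot.1 (hdisj.le ⟨hs, e.ge hsE⟩))
      have h2 : 2 * Nat.card E ≤ Nat.card C := card_le_half inf_le_left fun e => hxE (e.ge (hPC hx))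
      omega
  push Not at hAel
  obtain ⟨α0, hα0, hα02⟩ := hAel
  have hα04 : orderOf α0 = 4 := by
    obtain ⟨j, hj, hjo⟩ := (Nat.dvd_prime_pow Nat.prime_two).1 (show orderOf α0 ∣ 2 ^ 2 by
      rw [show (2 : ℕ) ^ 2 = Nat.card A' by rw [hA4]; norm_num]; exact (Subgroup.orderOf_dvd_natCard _ hα0))
    rcases (by omega : j = 0 ∨ j = 1 ∨ j = 2) with rfl | rfl | rfl
    · exact absurd (by rw [orderOf_eq_one_iff.1 hjo, one_pow]) hα02
    · exact absurd (by rw [← pow_one (2 : ℕ), ← hjo, pow_orderOf_eq_one]) hα02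
    · rw [hjo]; norm_num
  have hα4 : α0 ^ 4 = 1 := by rw [← hα04, pow_orderOf_eq_one]
  have hAlist : ∀ α ∈ A', α = 1 ∨ α = α0 ∨ α = α0 ^ 2 ∨ α = α0 ^ 3 := by
    intro α hα
    have e : zpowers α0 = A' := eq_of_le_of_card_ge (zpowers_le.2 hα0) (by rw [Nat.card_zpowers, hα04, hA4])
    obtain ⟨i, rfl⟩ := mem_zpowers_iff.1 (e.ge hα)
    rw [← zpow_mod_orderOf, hα04]
    rcases (by omega : i % (4 : ℕ) = 0 ∨ i % (4 : ℕ) = 1 ∨ i % (4 : ℕ) = 2 ∨ i % (4 : ℕ) = 3) with h | h | h | h <;>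
      rw [h] <;> simp [zpow_ofNat]
  have hα1 : ∀ {α : G}, α ∈ A' → α ^ 2 = 1 → α = 1 ∨ α = α0 ^ 2 := by
    intro α hα h2
    rcases hAlist α hα with h | h | h | h
    · exact Or.inl h
    · exact absurd (h ▸ h2) hα02
    · exact Or.inr h
    · exfalso
      rw [h, ← pow_mul, show 3 * 2 = 4 + 2 from rfl, pow_add, hα4, one_mul] at h2
      exact hα02 h2
  have hzc : ∀ c ∈ C, Commute c (α0 ^ 2) := fun c hc => by
    have h2 : (c * α0 ^ 2 * c⁻¹) ^ 2 = 1 := by rw [conj_pow, ← pow_mul, hα4, mul_one, mul_inv_cancel]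
    rcases hα1 (hA'n c hc _ (A'.pow_mem hα0 2)) h2 with h | h
    · exact absurd (conj_eq_one_iff.1 h) hα02
    · exact mul_inv_eq_iff_eq_mul.1 h
  have hnoc : ∀ p ∈ P, ¬ (p = 1 ∨ p = s) → ¬ Commute p α0 := fun p hp hne h => hne (hcentA p hp fun α hα => by
    rcases hAlist α hα with rfl | rfl | rfl | rfl
    exacts [Commute.one_right p, h, h.pow_right 2, h.pow_right 3])
  have hxK : ¬ (x = 1 ∨ x = s) := fun h => by
    rcases h with e | e
    · exact hxΔ (by rw [e]; simp)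
    · exact hxΔ (by rw [e])
  by_cases hPel : ∀ p ∈ P, p ^ 2 = 1
  · set E := cent C x with hE
    have hPE : P ≤ E := fun p hp => mem_cent.2 ⟨hPC hp, cP hp hx⟩
    have hzE : α0 ^ 2 ∈ E := mem_cent.2 ⟨C.pow_mem hα0.1 2, (hzc x (hPC hx)).symm⟩
    have hα0E : α0 ∉ E := fun h => hnoc x hx hxK (mem_cent.1 h).2.symm
    refine F.big (sub_self_eight F.two (A := E) (inf_le_left.trans inf_le_left) (fun g hg => ?_) ?_
      fun g hg h => mem_cent.2 ⟨mem_cent.2 ⟨hg, h s (hPE hs)⟩, h x (hPE hx)⟩)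
    · obtain ⟨α, hα, p, hp, rfl⟩ := hdec g hg.1
      have hαx : Commute α x := by
        have h9 := (mem_cent.1 hg).2.mul_left (cP hp hx).inv_left
        rwa [mul_inv_cancel_right] at h9
      have hα2 : α = 1 ∨ α = α0 ^ 2 := by
        rcases hAlist α hα with h | h | h | h
        · exact Or.inl h
        · exact absurd (h ▸ hαx).symm (hnoc x hx hxK)
        · exact Or.inr h
        · exfalso
          refine hnoc x hx hxK ?_
          have h10 := (h ▸ hαx : Commute (α0 ^ 3) x).symm.pow_right 3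
          rwa [← pow_mul, show 3 * 3 = 4 + 4 + 1 from rfl, pow_add, pow_add, hα4, one_mul, one_mul, pow_one] at h10
      rcases hα2 with rfl | rfl
      · rw [one_mul]; exact hPel p hp
      · rw [((hzc p (hPC hp)).symm).mul_pow, ← pow_mul, hα4, hPel p hp, one_mul]
    · have h1 : 2 * Nat.card P ≤ Nat.card E := card_le_half hPE fun e =>
        hα02 (mem_bot.1 (hdisj.le ⟨e.ge hzE, A'.pow_mem hα0 2⟩))
      have h2 : 2 * Nat.card E ≤ Nat.card C := card_le_half inf_le_left fun e => hα0E (e.ge hα0.1)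
      omega
  push Not at hPel
  obtain ⟨p0, hp0, hp02⟩ := hPel
  have hp04 : orderOf p0 = 4 := by
    obtain ⟨j, hj, hjo⟩ := (Nat.dvd_prime_pow Nat.prime_two).1 (show orderOf p0 ∣ 2 ^ 2 by
      rw [show (2 : ℕ) ^ 2 = Nat.card P by rw [hP4']; norm_num]; exact (Subgroup.orderOf_dvd_natCard _ hp0))
    rcases (by omega : j = 0 ∨ j = 1 ∨ j = 2) with rfl | rfl | rfl
    · exact absurd (by rw [orderOf_eq_one_iff.1 hjo, one_pow]) hp02
    · exact absurd (by rw [← pow_one (2 : ℕ), ← hjo, pow_orderOf_eq_one]) hp02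
    · rw [hjo]; norm_num
  have hp4 : p0 ^ 4 = 1 := by rw [← hp04, pow_orderOf_eq_one]
  have hPlist : ∀ p ∈ P, p = 1 ∨ p = p0 ∨ p = p0 ^ 2 ∨ p = p0 ^ 3 := by
    intro p hp
    have e : zpowers p0 = P := eq_of_le_of_card_ge (zpowers_le.2 hp0) (by rw [Nat.card_zpowers, hp04, hP4'])
    obtain ⟨i, rfl⟩ := mem_zpowers_iff.1 (e.ge hp)
    rw [← zpow_mod_orderOf, hp04]
    rcases (by omega : i % (4 : ℕ) = 0 ∨ i % (4 : ℕ) = 1 ∨ i % (4 : ℕ) = 2 ∨ i % (4 : ℕ) = 3) with h | h | h | h <;>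
      rw [h] <;> simp [zpow_ofNat]
  have hsp : p0 ^ 2 = s := by
    rcases hPlist s hs with h | h | h | h
    · exact absurd h hs1
    · exact absurd (h ▸ hs2) hp02
    · exact h.symm
    · exfalso
      rw [h, ← pow_mul, show 3 * 2 = 4 + 2 from rfl, pow_add, hp4, one_mul] at hs2
      exact hp02 hs2
  have hinvp : ∀ p ∈ P, p ^ 2 = s → ∀ α ∈ A', (α * p) ^ 2 = s := by
    intro p hp hp2 α hα
    have hpK : ¬ (p = 1 ∨ p = s) := fun h => by
      rcases h with e | e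
      · rw [e, one_pow] at hp2; exact hs1 hp2.symm
      · rw [e, hs2] at hp2; exact hs1 hp2.symm
    have hconj : p * α0 * p⁻¹ = α0⁻¹ := by
      rcases hAlist _ (hA'n p (hPC hp) α0 hα0) with h | h | h | h
      · exact absurd (by rw [conj_eq_one_iff.1 h, one_pow]) hα02
      · exact absurd (mul_inv_eq_iff_eq_mul.1 h) (hnoc p hp hpK)
      · exfalso
        have : (p * α0 * p⁻¹) ^ 2 = 1 := by rw [h, ← pow_mul, hα4]
        rw [conj_pow, conj_eq_one_iff] at this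
        exact hα02 this
      · rw [h]
        exact eq_inv_of_mul_eq_one_left (by rw [← pow_succ, hα4])
    have hcα : p * α * p⁻¹ = α⁻¹ := by
      rcases hAlist α hα with rfl | rfl | rfl | rfl
      · simp
      · exact hconj
      · rw [← conj_pow, hconj, inv_pow]
      · rw [← conj_pow, hconj, inv_pow]
    calc (α * p) ^ 2 = α * (p * α * p⁻¹) * p ^ 2 := by simp only [pow_two]; group
      _ = s := by rw [hcα, mul_inv_cancel, one_mul, hp2]
  refine F.big (sub_few F.two hs.1 hso ?_)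
  have hfour : ∀ w : G, w ∈ C → w ^ 2 = 1 → w ∈ ({1, α0 ^ 2, s, α0 ^ 2 * s} : Finset G) := by
    intro w hw hw2
    obtain ⟨α, hα, p, hp, rfl⟩ := hdec w hw
    simp only [Finset.mem_insert, Finset.mem_singleton]
    rcases hPlist p hp with rfl | rfl | rfl | rfl
    · rw [mul_one] at hw2 ⊢
      rcases hα1 hα hw2 with h | h
      exacts [Or.inl h, Or.inr (Or.inl h)]
    · rw [hinvp _ hp hsp α hα] at hw2; exact absurd hw2 hs1
    · rw [hsp] at hw2 ⊢
      rw [((mem_cent.1 hα.1).2).mul_pow, hs2, mul_one] at hw2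
      rcases hα1 hα hw2 with rfl | rfl
      · exact Or.inr (Or.inr (Or.inl (one_mul s)))
      · exact Or.inr (Or.inr (Or.inr rfl))
    · rw [hinvp _ hp (by rw [← pow_mul, show 3 * 2 = 4 + 2 from rfl, pow_add, hp4, one_mul, hsp]) α hα] at hw2
      exact absurd hw2 hs1
  refine le_trans (Nat.card_le_card_of_injective (fun w : {w : G // w ∈ S ∧ Commute w s ∧ w ^ 2 = 1} =>
    (⟨w.1, hfour w.1 (mem_cent.2 ⟨w.2.1, w.2.2.1⟩) w.2.2.2⟩ : {v // v ∈ ({1, α0 ^ 2, s, α0 ^ 2 * s} : Finset G)}))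
    fun v w e => Subtype.ext (congrArg (fun q => q.1) e :)) ?_
  rw [Nat.card_eq_fintype_card, Fintype.card_coe]
  exact Finset.card_le_four

end Flat

end Cfsg.Lib.Fix4
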