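import Cfsg.Agent.Lib.Fix4.One

/-!
# Involutions with four fixed points: general facts
-/

set_option autoImplicit false
set_option linter.unusedSectionVars false
set_option linter.style.haveILetI false

namespace Cfsg.Lib.Fix4

open MulAction Subgroup

universe u v

/-- Involutions fix four points or none, and the 2-group `S` is not of small rank. -/
structure Four {G : Type u} (Ω : Type v) [Group G] [MulAction G Ω] (S : Subgroup G) : Prop where
  two : IsPGroup 2 S
  fixity : Fixity G Ω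
  inv : ∀ g : G, orderOf g = 2 → ∀ x, x ∈ fixedBy Ω g → (fixedBy Ω g).ncard = 4
  big : ¬ Cfsg.SectionalPRankLE 2 4 S

variable {G : Type u} {Ω : Type v} [Group G] [Finite G] [MulAction G Ω] [Finite Ω] {S : Subgroup G}

/-- The possible values of a 2-power between bounds. -/
theorem card_eq_of_pow {K : Subgroup G} (hS : IsPGroup 2 S) (hK : K ≤ S) {b : ℕ} (hb : Nat.card K ≤ 2 ^ b)
    (hlt : 2 ^ b < 2 * Nat.card K) : Nat.card K = 2 ^ b :=
  pow_two_cases (card_sub_pow hS hK) hb fun j hj e => by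
    have : 2 ^ (j + 1) ≤ 2 ^ b := Nat.pow_le_pow_right two_pos hj
    rw [pow_succ] at this
    omega

theorem card_le_half {K L : Subgroup G} (h : K ≤ L) (hne : K ≠ L) : 2 * Nat.card K ≤ Nat.card L := by
  obtain ⟨m, hm⟩ := card_dvd_of_le h
  have h0 : 0 < Nat.card L := Nat.card_pos
  have hm1 : m ≠ 1 := fun e => hne (eq_of_le_of_card_ge h (by rw [hm, e, mul_one]))
  have hm0 : m ≠ 0 := fun e => by rw [hm, e, mul_zero] at h0; exact lt_irrefl _ h0
  rw [hm, mul_comm 2]
  exact Nat.mul_le_mul_left _ (by omega)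

theorem mem_of_card_le {K : Subgroup G} {s : Finset G} (hs : ∀ x ∈ s, x ∈ K) (hc : Nat.card K ≤ s.card) {x : G}
    (hx : x ∈ K) : x ∈ s := by
  have h : (s : Set G) = (K : Set G) := Set.eq_of_subset_of_ncard_le (fun y hy => hs y hy)
    (by rw [Set.ncard_coe_finset, ← Nat.card_coe_set_eq]; exact hc) (Set.toFinite _)
  exact (h.symm ▸ hx : x ∈ (s : Set G))

/-- An element of a subgroup of order at most two. -/
theorem two_of_card {K : Subgroup G} (hK : Nat.card K ≤ 2) {s x : G} (hs : s ∈ K) (hs1 : s ≠ 1) (hx : x ∈ K) :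
    x = 1 ∨ x = s := by
  classical
  have h := mem_of_card_le (K := K) (s := {1, s}) (fun y hy => by
    rw [Finset.mem_insert, Finset.mem_singleton] at hy; rcases hy with rfl | rfl
    exacts [one_mem _, hs]) (by rw [Finset.card_pair hs1.symm]; exact hK) hx
  rwa [Finset.mem_insert, Finset.mem_singleton] at h

/-- An orbit as long as the invariant set is the whole set. -/
theorem trans_of_card {C : Subgroup G} {d : Ω} {Δ : Set Ω} (hd : d ∈ Δ) (hC : ∀ c ∈ C, ∀ x ∈ Δ, c • x ∈ Δ)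
    (h : Δ.ncard * Nat.card (st C d) ≤ Nat.card C) {x : Ω} (hx : x ∈ Δ) : ∃ c ∈ C, c • d = x := by
  by_contra hno
  push Not at hno
  set O := {y ∈ Δ | ∃ c ∈ C, c • d = y} with hO
  have hOinv : ∀ c ∈ C, ∀ y ∈ O, c • y ∈ O := by
    rintro c hc y ⟨hy, k, hk, rfl⟩
    exact ⟨hC c hc _ hy, c * k, C.mul_mem hc hk, mul_smul c k d⟩
  have h1 := st_bound (Δ := O) ⟨hd, 1, C.one_mem, one_smul G d⟩ hOinv
  have h2 : O.ncard < Δ.ncard := Set.ncard_lt_ncard
    ⟨fun y hy => hy.1, fun hle => by obtain ⟨-, c, hc, e⟩ := hle hx; exact hno c hc e⟩ (Set.toFinite _)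
  have h3 : 0 < Nat.card (st C d) := Nat.card_pos
  exact absurd (h.trans h1) (not_le.2 (Nat.mul_lt_mul_of_pos_right h2 h3))

/-- The fourth element of a set of four points. -/
theorem fourth {Δ : Set Ω} (h : Δ.ncard = 4) {a b e : Ω} (ha : a ∈ Δ) (hb : b ∈ Δ) (he : e ∈ Δ) (hab : a ≠ b)
    (hae : a ≠ e) (hbe : b ≠ e) : ∃ e', e' ≠ a ∧ e' ≠ b ∧ e' ≠ e ∧ Δ = {a, b, e, e'} := by
  have h3 : ({a, b, e} : Set Ω).ncard = 3 := by
    rw [Set.ncard_insert_of_notMem (by simp [hab, hae]), Set.ncard_pair hbe]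
  obtain ⟨e', he', hne⟩ := Set.exists_mem_notMem_of_ncard_lt_ncard (s := ({a, b, e} : Set Ω)) (t := Δ)
    (by rw [h3, h]; omega) (Set.toFinite _)
  simp only [Set.mem_insert_iff, Set.mem_singleton_iff, not_or] at hne
  refine ⟨e', hne.1, hne.2.1, hne.2.2, (Set.eq_of_subset_of_ncard_le ?_ ?_ (Set.toFinite _)).symm⟩
  · intro y hy
    rcases hy with rfl | rfl | rfl | rfl <;> assumption
  · rw [h, Set.ncard_insert_of_notMem (by simp [hab, hae, Ne.symm hne.1]),
      Set.ncard_insert_of_notMem (by simp [hbe, Ne.symm hne.2.1]), Set.ncard_pair (Ne.symm hne.2.2)]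

/-- An element fixing two points of a set of four and moving a third one exchanges the other two. -/
theorem swap_two {g : G} {a b c c' : Ω} (hg : ∀ x ∈ ({a, b, c, c'} : Set Ω), g • x ∈ ({a, b, c, c'} : Set Ω))
    (hac : a ≠ c) (hbc : b ≠ c) (hac' : a ≠ c') (hbc' : b ≠ c') (hcc' : c ≠ c') (ha : g • a = a) (hb : g • b = b)
    (hc : g • c ≠ c) : g • c = c' ∧ g • c' = c := by
  have inj : ∀ {x y : Ω}, g • x = g • y → x = y := fun {x y} e => smul_left_cancel g e
  rcases hg c (by simp) with h | h | h | h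
  · exact absurd (inj (h.trans ha.symm)) hac.symm
  · exact absurd (inj (h.trans hb.symm)) hbc.symm
  · exact absurd h hc
  have h : g • c = c' := h
  refine ⟨h, ?_⟩
  rcases hg c' (by simp) with h' | h' | h' | h'
  · exact absurd (inj (h'.trans ha.symm)) hac'.symm
  · exact absurd (inj (h'.trans hb.symm)) hbc'.symm
  · exact h'
  · exact absurd (inj (h.trans (show g • c' = c' from h').symm)) hcc'

namespace Four

variable (F : Four Ω S)
include F

theorem pow_inv {y : G} (hy : y ∈ S) (hy1 : y ≠ 1) :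
    ∃ z ∈ zpowers y, orderOf z = 2 ∧ z ∈ S ∧ ∀ x, x ∈ fixedBy Ω y → x ∈ fixedBy Ω z := by
  obtain ⟨k, hk⟩ := exists_invol_pow F.two hy hy1
  exact ⟨y ^ k, npow_mem_zpowers y k, hk, S.pow_mem hy k, fun x hx => fix_pow hx k⟩

theorem not_cent_eight {s : G} (hs : s ∈ S) (ho : orderOf s = 2) : ¬ Nat.card (cent S s) ≤ 8 :=
  fun h => F.big (sub_cent_eight F.two hs ho h)

theorem st_ne_two (d : Ω) : Nat.card (st S d) ≠ 2 := by
  intro h
  obtain ⟨s, hs, hso⟩ := exists_order_prime (p := 2) (hp := ⟨Nat.prime_two⟩) (dvd_of_eq h.symm)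
  refine F.not_cent_eight hs.1 hso ((st_bound (Δ := fixedBy Ω s) hs.2 (cent_invariant s)).trans ?_)
  rw [F.inv s hso d hs.2]
  refine le_trans (Nat.mul_le_mul_left 4 (?_ : Nat.card (st (cent S s) d) ≤ 2)) (by norm_num)
  rw [← h]
  exact card_le_of_le fun x hx => ⟨hx.1.1, hx.2⟩

theorem st_four {d : Ω} {y : G} (hy : y ∈ S) (hy1 : y ≠ 1) (hd : d ∈ fixedBy Ω y) : 4 ≤ Nat.card (st S d) := by
  obtain ⟨k, hk⟩ := card_sub_pow F.two (K := st S d) inf_le_left
  have h1 : Nat.card (st S d) ≠ 1 := fun h =>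
    hy1 (mem_bot.1 (Subgroup.card_eq_one.1 h ▸ (⟨hy, hd⟩ : y ∈ st S d)))
  have h2 := F.st_ne_two d
  rw [hk] at h1 h2 ⊢
  calc 4 = 2 ^ 2 := rfl
    _ ≤ 2 ^ k := Nat.pow_le_pow_right two_pos (by
      by_contra hlt
      interval_cases k <;> simp_all)

/-- Two-elements centralizing an element with four fixed points have fourth powers fixing these points. -/
theorem pow_four_fix {C : Subgroup G} {Δ : Set Ω} (hC : C ≤ S) (hinv : ∀ c ∈ C, ∀ x ∈ Δ, c • x ∈ Δ)
    (hΔ : Δ.ncard ≤ 4) {c : G} (hc : c ∈ C) {x : Ω} (hx : x ∈ Δ) : x ∈ fixedBy Ω (c ^ 4) := by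
  obtain ⟨o, ho1, ho, hod, hcard⟩ := orbit_le (C := zpowers c) hx fun k hk => hinv k (zpowers_le.2 hc hk)
  obtain ⟨k, hk⟩ := card_sub_pow F.two ((zpowers_le.2 hc).trans hC)
  rw [Nat.card_zpowers] at hk
  obtain ⟨r, hr⟩ : o ∣ 4 := by
    rw [Nat.card_zpowers, hk] at hod
    obtain ⟨j, -, rfl⟩ := (Nat.dvd_prime_pow Nat.prime_two).1 hod
    exact (pow_dvd_pow 2 (show j ≤ 2 by
      by_contra hlt
      have : 2 ^ 3 ≤ 2 ^ j := Nat.pow_le_pow_right two_pos (by omega)
      omega) : 2 ^ j ∣ 2 ^ 2)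
  set K := st (zpowers c) x
  have hi : (K.subgroupOf (zpowers c)).index = o := by
    have h1 := (K.subgroupOf (zpowers c)).card_mul_index
    rw [Nat.card_congr (subgroupOfEquivOfLe inf_le_left).toEquiv, hcard, mul_comm o] at h1
    exact Nat.eq_of_mul_eq_mul_left Nat.card_pos h1
  haveI : (K.subgroupOf (zpowers c)).Normal := normal_of_comm _
  have h2 := (K.subgroupOf (zpowers c)).pow_index_mem ⟨c, mem_zpowers c⟩
  rw [hi] at h2
  rw [hr, pow_mul]
  exact fix_pow (show x ∈ fixedBy Ω (c ^ o) from (mem_subgroupOf.1 h2).2) r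

end Four

end Cfsg.Lib.Fix4
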