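import Cfsg.Agent.Lib.Fix4.Fibre
import Cfsg.Agent.Lib.Fix4.Count
import Cfsg.Prelude.Def_Involutions

/-!
# Strongly embedded subgroups from semiregular actions off the fixed-point set of a central involution
-/

set_option autoImplicit false
set_option linter.unusedSectionVars false
set_option linter.style.haveILetI false

namespace Cfsg.Lib.Fix4

open MulAction Subgroup
open scoped Pointwise

universe u v

variable {G : Type u} {Ω : Type v} [Group G] [Finite G] [MulAction G Ω] [Finite Ω]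

/-- An element commuting with `x` and stabilizing two `C(x)`-translates of `Δ`, other than `1` and `x`. -/
def Extra (x g : G) (Δ : Set Ω) : Prop :=
  Commute g x ∧ g ≠ 1 ∧ g ≠ x ∧ ∃ c c' : G, Commute c x ∧ Commute c' x ∧ c • Δ ≠ c' • Δ ∧
    g ∈ stabilizer G (c • Δ) ∧ g ∈ stabilizer G (c' • Δ)

theorem stab_smul_iff {c g : G} {Δ : Set Ω} : g ∈ stabilizer G (c • Δ) ↔ c⁻¹ * g * c ∈ stabilizer G Δ := by
  rw [mem_stab_set, mem_stab_set, mul_smul, mul_smul, inv_smul_eq_iff]

theorem Extra.conj {x g h : G} {Δ : Set Ω} (e : Extra x g Δ) (hh : Commute h x) : Extra x (h⁻¹ * g * h) Δ := by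
  obtain ⟨hg, hg1, hgx, c, c', hc, hc', hne, h1, h2⟩ := e
  refine ⟨(hh.inv_left.mul_left hg).mul_left hh, fun e => hg1 ?_, fun e => hgx ?_, h⁻¹ * c, h⁻¹ * c',
    hh.inv_left.mul_left hc, hh.inv_left.mul_left hc', ?_, ?_, ?_⟩
  · calc g = h * (h⁻¹ * g * h) * h⁻¹ := by group
      _ = 1 := by rw [e]; group
  · calc g = h * (h⁻¹ * g * h) * h⁻¹ := by group
      _ = x := by rw [e, hh.eq, mul_inv_cancel_right]
  · rw [mul_smul, mul_smul]
    exact fun e => hne (smul_left_cancel _ e)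
  · rw [stab_smul_iff, show (h⁻¹ * c)⁻¹ * (h⁻¹ * g * h) * (h⁻¹ * c) = c⁻¹ * g * c by group]
    exact stab_smul_iff.1 h1
  · rw [stab_smul_iff, show (h⁻¹ * c')⁻¹ * (h⁻¹ * g * h) * (h⁻¹ * c') = c'⁻¹ * g * c' by group]
    exact stab_smul_iff.1 h2

namespace Flat

variable {S : Sylow 2 G} {a : Ω} {t : G} (A : Flat (S : Subgroup G) a t)
include A

theorem central_invol {W : Subgroup G} (hW : W ≤ (S : Subgroup G))
    (hn : ∀ g ∈ (S : Subgroup G), ∀ w ∈ W, g * w * g⁻¹ ∈ W) (hne : W ≠ ⊥) :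
    ∃ z ∈ W, orderOf z = 2 ∧ ∀ s ∈ (S : Subgroup G), Commute z s := by
  haveI : Fact (Nat.Prime 2) := ⟨Nat.prime_two⟩
  haveI : (W.subgroupOf (S : Subgroup G)).Normal := ⟨fun w hw g => hn g g.2 w hw⟩
  have hne' : W.subgroupOf (S : Subgroup G) ≠ ⊥ := fun h => hne ((eq_bot_iff_forall _).2 fun w hw =>
    congrArg Subtype.val (mem_bot.1 (h.le (mem_subgroupOf.2 hw : (⟨w, hW hw⟩ : (S : Subgroup G)) ∈ _))))
  obtain ⟨z, hz, hzc, hzo⟩ := Cfsg.Lib.PGroup.exists_mem_center_orderOf_eq S.isPGroup' hne'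
  exact ⟨z, hz, by rw [orderOf_coe, hzo],
    fun s hs => congrArg Subtype.val (Subgroup.mem_center_iff.1 hzc ⟨s, hs⟩).symm⟩

theorem central_mem : ∃ z ∈ st (S : Subgroup G) a, orderOf z = 2 ∧ ∀ s ∈ (S : Subgroup G), Commute z s :=
  A.central_invol inf_le_left (fun _ hg _ hy => A.normal hg hy) fun h => by
    have := A.four_le
    rw [h, card_bot] at this
    omega

end Flat

namespace Pair

variable {S : Sylow 2 G} {a : Ω} {t x : G} {A : Flat (S : Subgroup G) a t} (X : Pair A x)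
include X

/-- Each stable translate is the fixed-point set of an involution commuting with `x`. -/
theorem exists_typed {D : Set Ω} (hD : IsFib G (fixedBy Ω t) D) (hxD : x ∈ stabilizer G D) :
    ∃ v : G, v ^ 2 = 1 ∧ v ≠ 1 ∧ Commute v x ∧ fixedBy Ω v = D := by
  haveI : Fact (Nat.Prime 2) := ⟨Nat.prime_two⟩
  obtain ⟨g, hg⟩ := hD
  obtain ⟨h, hh, hx'⟩ := conj_elem S (H := stabilizer G (fixedBy Ω t)) A.le_stab (A.stab_conj hg hxD) ⟨1, by
    rw [show g⁻¹ * x * g = g⁻¹ * x * g⁻¹⁻¹ by rw [inv_inv], conj_pow, pow_one, X.sq, mul_one, mul_inv_cancel]⟩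
  obtain ⟨z, hz, hzo, hzc⟩ := A.central_mem
  refine ⟨(g * h⁻¹) * z * (g * h⁻¹)⁻¹, by rw [conj_pow, ← hzo, pow_orderOf_eq_one, mul_one, mul_inv_cancel],
    fun e => ne_one_of_prime Nat.prime_two hzo (conj_eq_one_iff.1 e), ?_, ?_⟩
  · have h1 := (hzc _ hx').eq
    show _ = _
    calc (g * h⁻¹) * z * (g * h⁻¹)⁻¹ * x = (g * h⁻¹) * (z * (h * (g⁻¹ * x * g) * h⁻¹)) * (g * h⁻¹)⁻¹ := by group
      _ = (g * h⁻¹) * ((h * (g⁻¹ * x * g) * h⁻¹) * z) * (g * h⁻¹)⁻¹ := by rw [h1]
      _ = x * ((g * h⁻¹) * z * (g * h⁻¹)⁻¹) := by group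
  · rw [← smul_fixedBy, A.fix_same hz (ne_one_of_prime Nat.prime_two hzo), mul_smul, mem_stab_set.1 (inv_mem hh), hg]

theorem extra_move {g : G} (e : Extra x g (fixedBy Ω t)) (hgH : g ∈ stabilizer G (fixedBy Ω t)) :
    g • a ≠ a ∧ g • a ≠ x • a := by
  obtain ⟨hg, hg1, hgx, c, c', hc, hc', hne, h1, h2⟩ := e
  have hfib : ∀ c : G, Commute c x → x ∈ stabilizer G (c • fixedBy Ω t) := fun c hc => by
    rw [stab_smul_iff, mul_assoc, ← hc.eq, inv_mul_cancel_left]
    exact X.stab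
  obtain ⟨D, hD, hxD, hDne, hgD⟩ : ∃ D, IsFib G (fixedBy Ω t) D ∧ x ∈ stabilizer G D ∧ fixedBy Ω t ≠ D ∧
      g ∈ stabilizer G D := by
    by_cases hcase : fixedBy Ω t = c • fixedBy Ω t
    · exact ⟨_, ⟨c', rfl⟩, hfib c' hc', fun h => hne (hcase.symm.trans h), h2⟩
    · exact ⟨_, ⟨c, rfl⟩, hfib c hc, hcase, h1⟩
  refine ⟨fun h => hg1 (X.two_fibs_free ⟨1, one_smul G _⟩ X.stab hD hxD hDne hg hgH hgD h), fun h => hgx ?_⟩
  have h1 := X.two_fibs_free ⟨1, one_smul G _⟩ X.stab hD hxD hDne ((Commute.refl x).mul_left hg)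
    (mul_mem X.stab hgH) (mul_mem hxD hgD) (show (x * g) • a = a by rw [mul_smul, h, X.xx])
  exact ((inv_eq_of_mul_eq_one_right h1).symm.trans (inv_eq_of_mul_eq_one_right (by rw [← pow_two, X.sq])))

/-- Two involutions of a subgroup without extra elements cannot both stabilize `Δ`. -/
theorem no_two (K : Subgroup (centralizer ({x} : Set G)))
    (hxK : ∀ hx : x ∈ centralizer ({x} : Set G), (⟨x, hx⟩ : centralizer ({x} : Set G)) ∈ K)
    (htyped : ∀ v : centralizer ({x} : Set G), v ^ 2 = 1 → (fixedBy Ω (v : G)).Nonempty → v ∈ K)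
    (hK : ∀ g ∈ K, ¬ Extra x (g : G) (fixedBy Ω t)) {w w' : G} (hwx : Commute w x) (hw'x : Commute w' x)
    (hwK : ∀ hw : w ∈ centralizer ({x} : Set G), (⟨w, hw⟩ : centralizer ({x} : Set G)) ∈ K)
    (hw'K : ∀ hw : w' ∈ centralizer ({x} : Set G), (⟨w', hw⟩ : centralizer ({x} : Set G)) ∈ K)
    (hwH : w ∈ stabilizer G (fixedBy Ω t)) (hw'H : w' ∈ stabilizer G (fixedBy Ω t))
    (hw2 : w ^ 2 = 1) (hw'2 : w' ^ 2 = 1) (hw1 : w ≠ 1) (hw'1 : w' ≠ 1) (hwnx : w ≠ x) (hw'nx : w' ≠ x)
    (hne : w ≠ w') (hne' : w ≠ w' * x) : False := by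
  classical
  haveI : Fact (Nat.Prime 2) := ⟨Nat.prime_two⟩
  have hmem : ∀ {g : G}, g ∈ (centralizer ({x} : Set G)) ↔ Commute g x := mem_centralizer_singleton_iff
  set Hc := (stabilizer G (fixedBy Ω t)).subgroupOf (centralizer ({x} : Set G)) with hHc
  set q0 : (centralizer ({x} : Set G)) ⧸ Hc := QuotientGroup.mk 1
  have hfix : ∀ (g : (centralizer ({x} : Set G))) (h : (centralizer ({x} : Set G))), g • (QuotientGroup.mk h : (centralizer ({x} : Set G)) ⧸ Hc) = QuotientGroup.mk h →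
      (g : G) ∈ stabilizer G ((h : G) • fixedBy Ω t) := fun g h e => by
    have e : (QuotientGroup.mk (g * h) : (centralizer ({x} : Set G)) ⧸ Hc) = QuotientGroup.mk h := e
    have e' := mem_subgroupOf.1 (QuotientGroup.eq.1 e.symm)
    rw [stab_smul_iff]
    simpa [mul_assoc] using e'
  have hH : ∀ g : (centralizer ({x} : Set G)), g • q0 = q0 → (g : G) ∈ stabilizer G (fixedBy Ω t) := fun g e => by
    simpa using hfix g 1 e
  have hq0 : ∀ g : (centralizer ({x} : Set G)), (g : G) ∈ stabilizer G (fixedBy Ω t) → g • q0 = q0 := fun g hg => by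
    show (QuotientGroup.mk (g * 1) : (centralizer ({x} : Set G)) ⧸ Hc) = QuotientGroup.mk 1
    rw [QuotientGroup.eq, mem_subgroupOf]
    simpa using inv_mem hg
  set xc : (centralizer ({x} : Set G)) := ⟨x, hmem.2 (Commute.refl x)⟩ with hxc
  have hxfix : ∀ q : (centralizer ({x} : Set G)) ⧸ Hc, xc • q = q := fun q => by
    induction q using QuotientGroup.induction_on with
    | H h =>
      show (QuotientGroup.mk (xc * h) : (centralizer ({x} : Set G)) ⧸ Hc) = QuotientGroup.mk h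
      rw [QuotientGroup.eq, mem_subgroupOf]
      show ((x * h) : G)⁻¹ * h ∈ _
      rw [mul_inv_rev, mul_assoc, show (x⁻¹ * (h : G)) = h * x⁻¹ from ((hmem.1 h.2).inv_right).eq.symm,
        inv_mul_cancel_left]
      exact inv_mem X.stab
  have key := count_one (K := K) (O := orbit K q0) ⟨q0, mem_orbit_self q0⟩ ⟨xc, hxK _⟩
    (fun e => ne_one_of_prime Nat.prime_two X.ord (congrArg (fun g : K => ((g : (centralizer ({x} : Set G))) : G)) e))
    (Subtype.ext (Subtype.ext X.sq)) (fun g => Subtype.ext (Subtype.ext (hmem.1 g.1.2).eq))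
    (fun q => Subtype.ext (hxfix q.1)) ?_
    (fun i => cond i ⟨⟨w, hmem.2 hwx⟩, hwK _⟩ ⟨⟨w', hmem.2 hw'x⟩, hw'K _⟩) ?_ ?_ ?_
  rotate_left
  · intro g hg1 hgx p q hp hq
    by_contra hpq
    refine hK g.1 g.2 ⟨hmem.1 g.1.2, fun e => hg1 (Subtype.ext (Subtype.ext e)),
      fun e => hgx (Subtype.ext (Subtype.ext e)), ((p.1).out : G), ((q.1).out : G), hmem.1 (p.1).out.2,
      hmem.1 (q.1).out.2, fun e => hpq ?_, ?_, ?_⟩
    · refine Subtype.ext ?_
      rw [← QuotientGroup.out_eq' p.1, ← QuotientGroup.out_eq' q.1, QuotientGroup.eq, mem_subgroupOf, mem_stab_set]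
      show ((p.1.out : G)⁻¹ * (q.1.out : G)) • fixedBy Ω t = _
      rw [mul_smul, ← e, inv_smul_smul]
    · exact hfix _ _ (by rw [QuotientGroup.out_eq']; exact congrArg Subtype.val hp)
    · exact hfix _ _ (by rw [QuotientGroup.out_eq']; exact congrArg Subtype.val hq)
  · intro i
    cases i
    · exact ⟨Subtype.ext (hq0 ⟨w', hmem.2 hw'x⟩ hw'H), Subtype.ext (Subtype.ext hw'2),
        fun e => hw'1 (congrArg (fun g : K => ((g : (centralizer ({x} : Set G))) : G)) e), fun e => hw'nx (congrArg (fun g : K => ((g : (centralizer ({x} : Set G))) : G)) e)⟩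
    · exact ⟨Subtype.ext (hq0 ⟨w, hmem.2 hwx⟩ hwH), Subtype.ext (Subtype.ext hw2),
        fun e => hw1 (congrArg (fun g : K => ((g : (centralizer ({x} : Set G))) : G)) e), fun e => hwnx (congrArg (fun g : K => ((g : (centralizer ({x} : Set G))) : G)) e)⟩
  · exact fun e => hne (congrArg (fun g : K => ((g : (centralizer ({x} : Set G))) : G)) e)
  · exact fun e => hne' (congrArg (fun g : K => ((g : (centralizer ({x} : Set G))) : G)) e)
  obtain ⟨D, hD, hDne, hxD⟩ := X.other
  obtain ⟨v, hv2, hv1, hvx, hvD⟩ := X.exists_typed hD hxD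
  have hvK : (⟨v, hmem.2 hvx⟩ : (centralizer ({x} : Set G))) ∈ K := htyped _ (Subtype.ext hv2) (by
    rw [show ((⟨v, hmem.2 hvx⟩ : (centralizer ({x} : Set G))) : G) = v from rfl, hvD]
    exact Set.nonempty_of_ncard_ne_zero (by rw [A.fib_card hD]; omega))
  have h1 : (⟨v, hmem.2 hvx⟩ : (centralizer ({x} : Set G))) • q0 = q0 := congrArg Subtype.val (key ⟨_, mem_orbit q0 (⟨_, hvK⟩ : K)⟩)
  obtain ⟨e, he⟩ := Set.nonempty_of_ncard_ne_zero (by rw [A.fib_card hD]; omega : D.ncard ≠ 0)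
  exact hDne (hvD.symm.trans (A.star ⟨1, one_smul G _⟩ ⟨1, by rw [pow_one, hv2]⟩ hv1 (hH _ h1) (hvD.ge he)))

/-- The pairing of `Δ` by `x` gives a homomorphism on its stabilizer in the centralizer. -/
theorem exists_hom : ∃ φ : (stabilizer G (fixedBy Ω t)).subgroupOf (centralizer ({x} : Set G)) →*
    Multiplicative (ZMod 2), ∀ g : (stabilizer G (fixedBy Ω t)).subgroupOf (centralizer ({x} : Set G)), (((g : centralizer ({x} : Set G)) : G) • a = a ∨
      ((g : centralizer ({x} : Set G)) : G) • a = x • a → φ g = 1) ∧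
      (((g : centralizer ({x} : Set G)) : G) • a ≠ a ∧ ((g : centralizer ({x} : Set G)) : G) • a ≠ x • a →
        φ g = Multiplicative.ofAdd 1) := by
  classical
  set Hc := (stabilizer G (fixedBy Ω t)).subgroupOf (centralizer ({x} : Set G))
  let P : Hc → Prop := fun g => ((g : centralizer ({x} : Set G)) : G) • a = a ∨
    ((g : centralizer ({x} : Set G)) : G) • a = x • a
  have hcomm : ∀ g : Hc, ∀ z : Ω, ((g : centralizer ({x} : Set G)) : G) • x • z =
      x • ((g : centralizer ({x} : Set G)) : G) • z := fun g z => by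
    rw [smul_smul, mem_centralizer_singleton_iff.1 g.1.2, mul_smul]
  have hmul : ∀ g h : Hc, P (g * h) ↔ (P g ↔ P h) := by
    intro g h
    set g' := ((g : centralizer ({x} : Set G)) : G)
    set h' := ((h : centralizer ({x} : Set G)) : G)
    have e : ((((g * h : Hc) : centralizer ({x} : Set G))) : G) • a = g' • (h' • a) := mul_smul g' h' a
    show (_ = a ∨ _ = x • a) ↔ _
    rw [e]
    by_cases hh : P h
    · refine ⟨fun hp => iff_of_true ?_ hh, fun hp => ?_⟩
      · rcases hh with hh | hh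
        · rw [show h' • a = a from hh] at hp; exact hp
        · rw [show h' • a = x • a from hh, hcomm] at hp
          rcases hp with hp | hp
          · exact Or.inr (by rw [← X.xx (g' • a), hp])
          · exact Or.inl (smul_left_cancel x hp)
      · rcases hp.2 hh with hg | hg <;> rcases hh with hh | hh
        · left; rw [show h' • a = a from hh]; exact hg
        · right; rw [show h' • a = x • a from hh, hcomm, show g' • a = a from hg]
        · right; rw [show h' • a = a from hh]; exact hg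
        · left; rw [show h' • a = x • a from hh, hcomm, show g' • a = x • a from hg, X.xx]
    · have hb := not_or.1 hh
      have hgH : g' ∈ stabilizer G (fixedBy Ω t) := g.2
      have hhH : h' ∈ stabilizer G (fixedBy Ω t) := h.2
      have hquad := fun {z : Ω} (hz : z ∈ fixedBy Ω t) => quad X.sq A.ncard_four X.stab (fun z _ => X.free z)
        (show a ∈ fixedBy Ω t from A.mem.2) (stab_smul_mem hhH A.mem.2) hb.1 hb.2 hz
      refine ⟨fun hp => iff_of_false (fun hg => ?_) hh, fun hp => ?_⟩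
      · rcases hg with hg | hg <;> rcases hp with hp | hp
        · exact hb.1 (smul_left_cancel g' (hp.trans (show g' • a = a from hg).symm))
        · exact hb.2 (smul_left_cancel g' (hp.trans ((hcomm g a).trans (by rw [show g' • a = a from hg])).symm))
        · exact hb.2 (smul_left_cancel g' (hp.trans ((hcomm g a).trans (by rw [show g' • a = x • a from hg, X.xx])).symm))
        · exact hb.1 (smul_left_cancel g' (hp.trans (show g' • a = x • a from hg).symm))
      · have hg : ¬ P g := fun hg => hh (hp.1 hg)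
        have hgb := not_or.1 hg
        rcases hquad (stab_smul_mem hgH (stab_smul_mem hhH A.mem.2)) with h1 | h1 | h1 | h1
        · exact Or.inl h1
        · exact Or.inr h1
        · exfalso
          rcases hquad (stab_smul_mem hgH A.mem.2) with h2 | h2 | h2 | h2
          · exact hgb.1 h2
          · exact hgb.2 h2
          · exact hb.1 (smul_left_cancel g' (h1.trans h2.symm))
          · exact hb.2 (smul_left_cancel g' (h1.trans (((hcomm g a).trans (by rw [h2, X.xx])).symm)))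
        · exfalso
          rcases hquad (stab_smul_mem hgH A.mem.2) with h2 | h2 | h2 | h2
          · exact hgb.1 h2
          · exact hgb.2 h2
          · exact hb.2 (smul_left_cancel g' (h1.trans (((hcomm g a).trans (by rw [h2])).symm)))
          · exact hb.1 (smul_left_cancel g' (h1.trans h2.symm))
  refine ⟨MonoidHom.mk' (fun g => if P g then 1 else Multiplicative.ofAdd 1) fun g h => ?_, fun g => ⟨?_, ?_⟩⟩
  · by_cases hg : P g <;> by_cases hh : P h <;> simp only [hg, hh, hmul g h, if_true, if_false, iff_self,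
      iff_false, false_iff, not_true, not_false_iff, one_mul, mul_one, true_iff, iff_true] <;> decide
  · intro hg; exact if_pos hg
  · intro hg; exact if_neg (not_or.2 hg)

/-- **One typed involution** commuting with `x` fixes `Δ`. -/
theorem unique {w w' : G} (hwx : Commute w x) (hw'x : Commute w' x) (hw2 : w ^ 2 = 1) (hw'2 : w' ^ 2 = 1)
    (hw1 : w ≠ 1) (hw'1 : w' ≠ 1) (hw : fixedBy Ω t ⊆ fixedBy Ω w) (hw' : fixedBy Ω t ⊆ fixedBy Ω w') : w = w' := by
  classical
  by_contra hne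
  haveI : Fact (Nat.Prime 2) := ⟨Nat.prime_two⟩
  set C := centralizer ({x} : Set G)
  set Hc := (stabilizer G (fixedBy Ω t)).subgroupOf C
  have hmem : ∀ {g : G}, g ∈ C ↔ Commute g x := mem_centralizer_singleton_iff
  obtain ⟨φ, hφ⟩ := X.exists_hom
  letI := Fintype.ofFinite (Quotient (orbitRel (zpowers (1 : C)) (C ⧸ Hc)))
  haveI : Hc.FiniteIndex := inferInstance
  set V := MonoidHom.transfer φ
  have hstabΔ : ∀ {g : G}, fixedBy Ω t ⊆ fixedBy Ω g → g ∈ stabilizer G (fixedBy Ω t) := fun h =>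
    stab_of_maps fun z hz => by rw [mem_fixedBy.1 (h hz)]; exact hz
  -- elements with all values trivial
  have hVone : ∀ g : C, (∀ h : C, ∀ L : ℕ, ∀ hm : h⁻¹ * g ^ L * h ∈ Hc, φ ⟨_, hm⟩ = 1) → V g = 1 := by
    intro g hg
    letI := Fintype.ofFinite (Quotient (orbitRel (zpowers g) (C ⧸ Hc)))
    rw [MonoidHom.transfer_eq_prod_quotient_orbitRel_zpowers_quot]
    exact Finset.prod_eq_one fun q _ => hg _ _ _
  have hVx : V ⟨x, hmem.2 (Commute.refl x)⟩ = 1 := hVone _ fun h L hm => (hφ ⟨_, hm⟩).1 <| by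
    show ((h : G)⁻¹ * x ^ L * h) • a = a ∨ ((h : G)⁻¹ * x ^ L * h) • a = x • a
    rw [mul_assoc, ← ((hmem.1 h.2).pow_right L).eq, inv_mul_cancel_left]
    obtain ⟨r, rfl⟩ | ⟨r, rfl⟩ := Nat.even_or_odd L
    · left; rw [← two_mul, pow_mul, X.sq, one_pow, one_smul]
    · right; rw [pow_succ, pow_mul, X.sq, one_pow, one_mul]
  have hVtyped : ∀ v : C, v ^ 2 = 1 → (fixedBy Ω (v : G)).Nonempty → V v = 1 := by
    intro v hv2 ⟨e, he⟩
    refine hVone v fun h L hm => (hφ ⟨_, hm⟩).1 (Or.inl ?_)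
    show ((h : G)⁻¹ * (v : G) ^ L * h) • a = a
    by_cases h1 : (h : G)⁻¹ * (v : G) ^ L * h = 1
    · rw [h1, one_smul]
    have hv : ((h : G)⁻¹ * (v : G) ^ L * h) ^ 2 = 1 := by
      rw [show (h : G)⁻¹ * (v : G) ^ L * h = (h : G)⁻¹ * (v : G) ^ L * (h : G)⁻¹⁻¹ by rw [inv_inv], conj_pow,
        ← pow_mul, mul_comm, pow_mul, show (v : G) ^ 2 = 1 from congrArg Subtype.val hv2, one_pow, mul_one,
        mul_inv_cancel]
    have hfix := A.star ⟨1, one_smul G _⟩ ⟨1, by rw [pow_one, hv]⟩ h1 hm (e := (h : G)⁻¹ • e) (by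
      rw [mul_smul, smul_inv_smul, mul_smul, show ((v : G) ^ L) • e = e from fix_pow he L])
    exact (hfix.ge A.mem.2 :)
  -- the number of cosets is odd
  set u : C := ⟨w, hmem.2 hwx⟩
  have hodd : (Nat.card (C ⧸ Hc) : ZMod 2) = 1 := by
    have hu : u ^ 2 = 1 := Subtype.ext hw2
    have h1 := fix_modEq (G := C) (Ω := C ⧸ Hc) (p := 2) hu
    have hone : fixedBy (C ⧸ Hc) u = {QuotientGroup.mk 1} := by
      ext q
      induction q using QuotientGroup.induction_on with
      | H h =>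
        have hiff : u • (QuotientGroup.mk h : C ⧸ Hc) = QuotientGroup.mk h ↔
            (h : G)⁻¹ * w * h ∈ stabilizer G (fixedBy Ω t) := by
          show (QuotientGroup.mk (u * h) : C ⧸ Hc) = _ ↔ _
          rw [QuotientGroup.eq, mem_subgroupOf]
          show ((w * h : G))⁻¹ * h ∈ _ ↔ _
          rw [show (w * h : G)⁻¹ * h = ((h : G)⁻¹ * w * h)⁻¹ by group, inv_mem_iff]
        rw [mem_fixedBy, hiff, Set.mem_singleton_iff, QuotientGroup.eq, mem_subgroupOf]
        show _ ↔ (h : G)⁻¹ * 1 ∈ _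
        rw [mul_one, inv_mem_iff]
        refine ⟨fun hm => ?_, fun hh => mul_mem (mul_mem (inv_mem hh) (hstabΔ hw)) hh⟩
        have := A.star (w := w) (D := (h : G) • fixedBy Ω t) ⟨h, rfl⟩ ⟨1, by rw [pow_one, hw2]⟩ hw1
          (stab_smul_iff.2 hm) (hw A.mem.2)
        rw [fix_eq A.base.fixity hw1 hw A.ncard_four.ge] at this
        exact mem_stab_set.2 this.symm
    rw [hone, Set.ncard_singleton] at h1
    rw [← Nat.cast_one, ZMod.natCast_eq_natCast_iff]
    exact h1.symm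
  have hVextra : ∀ g : C, Extra x (g : G) (fixedBy Ω t) → V g ≠ 1 := by
    intro g hg
    letI := Fintype.ofFinite (Quotient (orbitRel (zpowers g) (C ⧸ Hc)))
    haveI : ∀ q : C ⧸ Hc, Fintype (orbit (zpowers g) q) := fun q => Fintype.ofFinite _
    have hsq : (g : G) ^ 2 = 1 ∨ (g : G) ^ 2 = x := by
      obtain ⟨hc0, -, -, c, c', hc, hc', hne, h1, h2⟩ := hg
      have hfib : ∀ c : G, Commute c x → x ∈ stabilizer G (c • fixedBy Ω t) := fun c hc => by
        rw [stab_smul_iff, mul_assoc, ← hc.eq, inv_mul_cancel_left]; exact X.stab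
      exact X.two_fibs_sq ⟨c, rfl⟩ (hfib c hc) ⟨c', rfl⟩ (hfib c' hc') hne hc0 h1 h2
    rw [MonoidHom.transfer_eq_prod_quotient_orbitRel_zpowers_quot]
    have hterm : ∀ (h : C) (L : ℕ), L ∣ 4 → ∀ hm : h⁻¹ * g ^ L * h ∈ Hc,
        φ ⟨_, hm⟩ = Multiplicative.ofAdd (L : ZMod 2) := by
      intro h L hL hm
      rcases Nat.even_or_odd L with ⟨r, hr⟩ | hodd'
      · have hval : ((h : G)⁻¹ * (g : G) ^ L * h) • a = a ∨ ((h : G)⁻¹ * (g : G) ^ L * h) • a = x • a := by
          rw [hr, ← two_mul, pow_mul]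
          rcases hsq with e | e <;> rw [e]
          · left; rw [one_pow, mul_one, inv_mul_cancel, one_smul]
          · rw [mul_assoc, ← ((hmem.1 h.2).pow_right r).eq, inv_mul_cancel_left]
            obtain ⟨i, rfl⟩ | ⟨i, rfl⟩ := Nat.even_or_odd r
            · left; rw [← two_mul, pow_mul, X.sq, one_pow, one_smul]
            · right; rw [pow_succ, pow_mul, X.sq, one_pow, one_mul]
        rw [(hφ ⟨_, hm⟩).1 hval, hr, Nat.cast_add, CharTwo.add_self_eq_zero, ofAdd_zero]
      · have hL1 : L = 1 := by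
          have := Nat.le_of_dvd (by norm_num) hL
          obtain ⟨i, rfl⟩ := hodd'
          have hi : i ≤ 1 := by omega
          interval_cases i <;> omega
        subst hL1
        rw [Nat.cast_one]
        refine (hφ ⟨_, hm⟩).2 ?_
        show ((h : G)⁻¹ * (g : G) ^ 1 * h) • a ≠ a ∧ ((h : G)⁻¹ * (g : G) ^ 1 * h) • a ≠ x • a
        rw [pow_one]
        refine X.extra_move (hg.conj (hmem.1 h.2)) ?_
        have := hm
        rw [mem_subgroupOf] at this
        simpa using this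
    have hg4 : g ^ 4 = 1 := Subtype.ext (show (g : G) ^ 4 = 1 by
      rcases hsq with e | e <;> rw [show 4 = 2 * 2 from rfl, pow_mul, e]
      exacts [one_pow 2, X.sq])
    rw [Finset.prod_congr rfl fun q _ => hterm _ _ (?_ : _ ∣ 4) _, ← ofAdd_sum, ← Nat.cast_sum]
    rotate_left
    · refine Function.IsPeriodicPt.minimalPeriod_dvd ?_
      show (g • ·)^[4] _ = _
      rw [smul_iterate_apply, hg4, one_smul]
    have hsum : ∑ q : Quotient (orbitRel (zpowers g) (C ⧸ Hc)), Function.minimalPeriod (g • ·) q.out =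
        Nat.card (C ⧸ Hc) := by
      rw [Nat.card_congr (selfEquivSigmaOrbits (zpowers g) (C ⧸ Hc)), Nat.card_sigma]
      refine Finset.sum_congr rfl fun q _ => ?_
      letI : Fintype (orbit (zpowers g) q.out) := Fintype.ofFinite _
      rw [Nat.card_eq_fintype_card]
      exact @MulAction.minimalPeriod_eq_card _ _ _ g _ q.out this
    rw [hsum, hodd]
    exact fun h => one_ne_zero (α := ZMod 2) (congrArg Multiplicative.toAdd h)
  refine X.no_two V.ker (fun _ => hVx) (fun v hv hv' => hVtyped v hv hv') (fun g hg he => hVextra g he hg)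
    hwx hw'x (fun _ => hVtyped _ (Subtype.ext hw2) ⟨a, hw A.mem.2⟩)
    (fun _ => hVtyped _ (Subtype.ext hw'2) ⟨a, hw' A.mem.2⟩) (hstabΔ hw) (hstabΔ hw') hw2 hw'2 hw1 hw'1 ?_ ?_
    hne ?_
  · exact fun e => X.free a (e ▸ hw A.mem.2)
  · exact fun e => X.free a (e ▸ hw' A.mem.2)
  · intro e
    have h1 : (w' * x) • a = a := e ▸ hw A.mem.2
    rw [mul_smul, show w' • (x • a) = x • a from hw' (stab_smul_mem X.stab A.mem.2)] at h1
    exact X.free a h1

end Pair

/-- The free case gives a strongly embedded subgroup. -/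
theorem Flat.embedded [FaithfulSMul G Ω] (htr : IsPretransitive G Ω) {S : Sylow 2 G} {a : Ω} {t : G}
    (A : Flat (S : Subgroup G) a t) : ∃ H : Subgroup G, Cfsg.IsStronglyEmbedded H := by
  classical
  haveI : Fact (Nat.Prime 2) := ⟨Nat.prime_two⟩
  set H := stabilizer G (fixedBy Ω t) with hH
  by_cases hone : ∀ x ∈ H, orderOf x = 2 → ∀ g : G, x ∈ stabilizer G (g • fixedBy Ω t) → g • fixedBy Ω t = fixedBy Ω t
  · refine ⟨H, stab_ne_top htr A.mem.2 (fix_ne_univ (ne_one_of_prime Nat.prime_two A.ord)), ?_, fun g hg => ?_⟩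
    · rw [even_iff_two_dvd]
      have := A.le_stab A.mem.1
      exact A.ord ▸ orderOf_dvd_natCard H this
    · rw [← Nat.not_even_iff_odd, even_iff_two_dvd]
      intro hd
      obtain ⟨y, ⟨hy, k, hk, rfl⟩, hyo⟩ := exists_order_prime hd
      refine hg (mem_stab_set.2 (hone _ hy hyo g ?_))
      rw [stab_smul_iff]
      show g⁻¹ * (g * k * g⁻¹) * g ∈ H
      rwa [show g⁻¹ * (g * k * g⁻¹) * g = k by group]
  push Not at hone
  obtain ⟨x0, hx0, hx0o, g0, hg0, hg0ne⟩ := hone
  exfalso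
  obtain ⟨h, hh, hxS⟩ := conj_elem S (H := H) A.le_stab hx0 ⟨1, by rw [pow_one, ← hx0o, pow_orderOf_eq_one]⟩
  set x := h * x0 * h⁻¹ with hx
  have X : Pair A x := by
    refine ⟨by rw [← hx0o]; exact (MulAut.conj h).orderOf_eq x0, A.le_stab hxS,
      h • (g0 • fixedBy Ω t), isFib_smul ⟨g0, rfl⟩ h, fun e => hg0ne ?_, ?_⟩
    · have := congrArg (h⁻¹ • ·) e
      simp only [inv_smul_smul] at this
      rw [this, mem_stab_set.1 (inv_mem hh)]
    · rw [stab_smul_iff, hx, show h⁻¹ * (h * x0 * h⁻¹) * h = x0 by group]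
      exact hg0
  obtain ⟨u, hu, huo, huc⟩ := A.central_mem
  have hu2 : u ^ 2 = 1 := by rw [← huo, pow_orderOf_eq_one]
  have hu1 := ne_one_of_prime Nat.prime_two huo
  have huΔ : fixedBy Ω t ⊆ fixedBy Ω u := A.all u hu
  have hux : Commute u x := huc x hxS
  -- an involution of `C_S(x)` outside the expected four-group
  obtain ⟨y, hyS, hyx, hy2, hy1, hyu, hynx, hyux⟩ :
      ∃ y ∈ (S : Subgroup G), Commute y x ∧ y ^ 2 = 1 ∧ y ≠ 1 ∧ y ≠ u ∧ y ≠ x ∧ y ≠ u * x := by
    by_contra hno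
    push Not at hno
    have hfour : ∀ y, y ∈ (S : Subgroup G) → Commute y x → y ^ 2 = 1 → y ∈ ({1, u, x, u * x} : Finset G) := by
      intro y h1 h2 h3
      simp only [Finset.mem_insert, Finset.mem_singleton]
      by_cases e1 : y = 1
      · exact Or.inl e1
      by_cases e2 : y = u
      · exact Or.inr (Or.inl e2)
      by_cases e3 : y = x
      · exact Or.inr (Or.inr (Or.inl e3))
      exact Or.inr (Or.inr (Or.inr (hno y h1 h2 h3 e1 e2 e3)))
    refine A.base.big (sub_few S.isPGroup' hxS X.ord (le_trans (Nat.card_le_card_of_injective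
      (fun w : {w : G // w ∈ (S : Subgroup G) ∧ Commute w x ∧ w ^ 2 = 1} =>
        (⟨w.1, hfour w.1 w.2.1 w.2.2.1 w.2.2.2⟩ : {v // v ∈ ({1, u, x, u * x} : Finset G)}))
      fun v w e => Subtype.ext (congrArg (fun q => q.1) e :)) ?_))
    rw [Nat.card_eq_fintype_card, Fintype.card_coe]
    exact Finset.card_le_four
  have hfixall : ∀ {g : G}, g ∈ (S : Subgroup G) → g • a = a → fixedBy Ω t ⊆ fixedBy Ω g := fun hg hga =>
    A.all _ ⟨hg, hga⟩
  have hya : y • a ≠ a := fun e => hyu (X.unique hyx hux hy2 hu2 hy1 hu1 (hfixall hyS e) huΔ)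
  have hyxa : y • a ≠ x • a := fun e => by
    have h1 : (x * y) • a = a := by rw [mul_smul, e, X.xx]
    have h2 : (x * y) ^ 2 = 1 := by rw [hyx.symm.mul_pow, X.sq, hy2, one_mul]
    have hxx : x * x = 1 := by rw [← pow_two, X.sq]
    by_cases h3 : x * y = 1
    · exact hynx (by rw [← one_mul y, ← hxx, mul_assoc, h3, mul_one])
    · have := X.unique ((Commute.refl x).mul_left hyx) hux h2 hu2 h3 hu1 (hfixall (mul_mem hxS hyS) h1) huΔ
      exact hyux (by rw [← this, hyx.symm.eq, mul_assoc, hxx, mul_one])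
  by_cases hex : ∃ g, Extra x g (fixedBy Ω t)
  swap
  · push Not at hex
    refine X.no_two ⊤ (fun _ => mem_top _) (fun _ _ _ => mem_top _) (fun g _ => hex g) hux hyx (fun _ => mem_top _)
      (fun _ => mem_top _) (A.le_stab hu.1) (A.le_stab hyS) hu2 hy2 hu1 hy1 ?_ hynx hyu.symm fun e => hyux ?_
    · exact fun e => X.free a (e ▸ hu.2)
    · rw [e, mul_assoc, ← pow_two, X.sq, mul_one]
  obtain ⟨g', hg'⟩ := hex
  obtain ⟨g, hg, hgH⟩ : ∃ g, Extra x g (fixedBy Ω t) ∧ g ∈ H := by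
    have hg'' := hg'
    obtain ⟨-, -, -, c, -, hc, -, -, h1, -⟩ := hg''
    exact ⟨c⁻¹ * g' * c, hg'.conj hc, stab_smul_iff.1 h1⟩
  obtain ⟨hga, hgxa⟩ := X.extra_move hg hgH
  obtain ⟨hgc, hg1, hgx, c, c', hc, hc', hne, hgD, hgD'⟩ := hg
  have hfib : ∀ c : G, Commute c x → x ∈ stabilizer G (c • fixedBy Ω t) := fun c hc => by
    rw [stab_smul_iff, mul_assoc, ← hc.eq, inv_mul_cancel_left]; exact X.stab
  obtain ⟨D, hD, hxD, hDne, hgDD⟩ : ∃ D, IsFib G (fixedBy Ω t) D ∧ x ∈ stabilizer G D ∧ fixedBy Ω t ≠ D ∧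
      g ∈ stabilizer G D := by
    by_cases hcase : fixedBy Ω t = c • fixedBy Ω t
    · exact ⟨_, ⟨c', rfl⟩, hfib c' hc', fun h => hne (hcase.symm.trans h), hgD'⟩
    · exact ⟨_, ⟨c, rfl⟩, hfib c hc, hcase, hgD⟩
  have hg2 : g ^ 2 = 1 := by
    refine (X.two_fibs_sq ⟨1, one_smul G _⟩ X.stab hD hxD hDne hgc hgH hgDD).resolve_right fun e => ?_
    -- `g` is a four-cycle on `Δ`
    have hxa : g • g • a = x • a := by rw [smul_smul, ← pow_two, e]
    have hyy : y • y • a = a := by rw [smul_smul, ← pow_two, hy2, one_smul]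
    rcases quad X.sq A.ncard_four X.stab (fun z _ => X.free z) A.mem.2 (stab_smul_mem hgH A.mem.2) hga hgxa
      (stab_smul_mem (A.le_stab hyS) (show a ∈ fixedBy Ω t from A.mem.2)) with h1 | h1 | h1 | h1
    · exact hya h1
    · exact hyxa h1
    · have h3 := X.fix_all ⟨1, one_smul G _⟩ X.stab (hgc.inv_left.mul_left hyx)
        (mul_mem (inv_mem hgH) (A.le_stab hyS)) (show a ∈ fixedBy Ω t from A.mem.2)
        (by rw [mul_smul, h1, inv_smul_smul]) (stab_smul_mem hgH A.mem.2)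
      rw [mem_fixedBy, mul_smul, inv_smul_eq_iff, hxa, ← h1, hyy] at h3
      exact X.free a h3.symm
    · have hgc' : Commute (x * g) x := (Commute.refl x).mul_left hgc
      have h3 := X.fix_all ⟨1, one_smul G _⟩ X.stab (hgc'.inv_left.mul_left hyx)
        (mul_mem (inv_mem (mul_mem X.stab hgH)) (A.le_stab hyS)) (show a ∈ fixedBy Ω t from A.mem.2)
        (by rw [mul_smul _ y, h1, inv_smul_eq_iff, mul_smul x g]) (stab_smul_mem (mul_mem X.stab hgH) A.mem.2)
      have hxga : (x * g) • a = y • a := by rw [mul_smul x g, h1]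
      rw [mem_fixedBy, mul_smul _ y, inv_smul_eq_iff, hxga, hyy, mul_smul x g, h1, smul_smul g, hgc.eq, mul_smul x g, hxa,
        X.xx] at h3
      exact X.free a h3.symm
  have hxg2 : (x * g) ^ 2 = 1 := by rw [hgc.symm.mul_pow, X.sq, hg2, one_mul]
  have hxg1 : x * g ≠ 1 := fun e => hgx ((inv_eq_of_mul_eq_one_right e).symm.trans
    (inv_eq_of_mul_eq_one_right (by rw [← pow_two, X.sq])))
  -- the four-group in a Sylow subgroup
  set Dg : Subgroup G := zpowers x ⊔ zpowers g
  have hDcomm : Commute x g := hgc.symm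
  have hDP : IsPGroup 2 Dg := by
    have hxP : IsPGroup 2 (zpowers x) := IsPGroup.of_card (n := 1) (by rw [Nat.card_zpowers, X.ord, pow_one])
    have hgP : IsPGroup 2 (zpowers g) := IsPGroup.of_card (n := 1) (by
      rw [Nat.card_zpowers, orderOf_eq_prime hg2 hg1, pow_one])
    refine hxP.to_sup_of_normal_right' hgP ?_
    refine le_trans ?_ (centralizer_le_normalizer _)
    rw [zpowers_le, mem_centralizer_iff]
    rintro _ ⟨i, rfl⟩
    exact (hDcomm.symm.zpow_left i).eq
  obtain ⟨k, hk, hkS⟩ := conj_into S (H := H) A.le_stab (Q := Dg)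
    (sup_le (zpowers_le.2 X.stab) (zpowers_le.2 hgH)) hDP
  have hpair : ∀ d : G, d ∈ Dg → orderOf d = 2 → d ∈ stabilizer G D → Pair A (k * d * k⁻¹) := by
    intro d hd hdo hdD
    refine ⟨by rw [← hdo]; exact (MulAut.conj k).orderOf_eq d, A.le_stab (hkS d hd), k • D, isFib_smul hD k,
      fun e => hDne ?_, ?_⟩
    · have := congrArg (k⁻¹ • ·) e
      simp only [inv_smul_smul] at this
      rw [this, mem_stab_set.1 (inv_mem hk)]
    · rw [stab_smul_iff, show k⁻¹ * (k * d * k⁻¹) * k = d by group]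
      exact hdD
  have hxM : x ∈ Dg := mem_sup_left (mem_zpowers x)
  have hgM : g ∈ Dg := mem_sup_right (mem_zpowers g)
  refine A.base.big (sub_no_fours S.isPGroup' (T := st (S : Subgroup G) a) inf_le_left (fun g hg y hy => A.normal hg hy)
    A.card_top fun W hWT hWn hW4 hW2 => ?_)
  have hWne : W ≠ ⊥ := fun e => by rw [e, card_bot] at hW4; omega
  obtain ⟨z, hz, hzo, hzc⟩ := A.central_invol (hWT.trans inf_le_left) hWn hWne
  have hz1 := ne_one_of_prime Nat.prime_two hzo
  obtain ⟨w, hw, hw1, hwz⟩ : ∃ w ∈ W, w ≠ 1 ∧ w ≠ z := by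
    by_contra hno
    push Not at hno
    have : Nat.card W ≤ ({1, z} : Finset G).card := by
      rw [← Set.ncard_coe_finset, ← SetLike.coe_sort_coe, Nat.card_coe_set_eq]
      refine Set.ncard_le_ncard (fun v hv => ?_) (Set.toFinite _)
      simp only [Finset.coe_insert, Finset.coe_singleton, Set.mem_insert_iff, Set.mem_singleton_iff]
      by_cases h : v = 1
      exacts [Or.inl h, Or.inr (hno v hv h)]
    rw [Finset.card_pair hz1.symm, hW4] at this
    omega
  have hw2 := hW2 w hw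
  have hlist : ∀ v ∈ W, v = 1 ∨ v = z ∨ v = w ∨ v = z * w := fun v hv => by
    have := mem_of_card_le (K := W) (s := {1, z, w, z * w}) (fun q hq => by
      simp only [Finset.mem_insert, Finset.mem_singleton] at hq
      rcases hq with rfl | rfl | rfl | rfl
      exacts [one_mem _, hz, hw, W.mul_mem hz hw]) (by
      have h1 : z * w ≠ 1 := fun e => hwz ((inv_eq_of_mul_eq_one_right e).symm.trans
        (inv_eq_of_mul_eq_one_right (by rw [← pow_two, hW2 z hz])))
      rw [Finset.card_insert_of_notMem (by simp [hz1.symm, hw1.symm, h1.symm]),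
        Finset.card_insert_of_notMem (by simp [hwz.symm, hw1]),
        Finset.card_pair (fun e => hz1 (mul_eq_right.1 e.symm)), hW4]) hv
    simpa using this
  have hmove : ∀ d : G, d ∈ Dg → Pair A (k * d * k⁻¹) →
      (k * d * k⁻¹) * w * (k * d * k⁻¹)⁻¹ = z * w := by
    intro d hd hP
    have hdS := hkS d hd
    rcases hlist _ (hWn _ hdS w hw) with h1 | h1 | h1 | h1
    · exact absurd (conj_eq_one_iff.1 h1) hw1
    · refine absurd ?_ hwz
      refine mul_left_cancel (a := k * d * k⁻¹) (mul_right_cancel (b := (k * d * k⁻¹)⁻¹) ?_)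
      rw [h1, ← (hzc _ hdS).eq, mul_inv_cancel_right]
    · exact absurd (hP.unique (mul_inv_eq_iff_eq_mul.1 h1).symm (hzc _ hdS) hw2 (hW2 z hz) hw1 hz1
        (A.all w (hWT hw)) (A.all z (hWT hz))) hwz
    · exact h1
  have hxD' := hxD
  have e1 := hmove x hxM (hpair x hxM X.ord hxD)
  have e2 := hmove g hgM (hpair g hgM (orderOf_eq_prime hg2 hg1) hgDD)
  have e3 := hmove (x * g) (Dg.mul_mem hxM hgM) (hpair _ (Dg.mul_mem hxM hgM) (orderOf_eq_prime hxg2 hxg1)
    (mul_mem hxD hgDD))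
  have hzd : (k * x * k⁻¹) * z * (k * x * k⁻¹)⁻¹ = z := by
    rw [← (hzc _ (hkS x hxM)).eq, mul_inv_cancel_right]
  have e4 : (k * (x * g) * k⁻¹) * w * (k * (x * g) * k⁻¹)⁻¹ = w := by
    calc _ = (k * x * k⁻¹) * ((k * g * k⁻¹) * w * (k * g * k⁻¹)⁻¹) * (k * x * k⁻¹)⁻¹ := by group
      _ = ((k * x * k⁻¹) * z * (k * x * k⁻¹)⁻¹) * ((k * x * k⁻¹) * w * (k * x * k⁻¹)⁻¹) := by rw [e2]; group
      _ = (z * z) * w := by rw [hzd, e1, mul_assoc]
      _ = w := by rw [← pow_two, hW2 z hz, one_mul]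
  exact hz1 (mul_eq_right.1 (e3.symm.trans e4))

end Cfsg.Lib.Fix4
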