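import Cfsg.Agent.Lib.Fix4.Basic
import Cfsg.Agent.Lib.PGroup.CentralizerSq
import Mathlib.GroupTheory.Transfer

/-!
# An element of order three with small centralizers in a Sylow 3-subgroup
-/

set_option autoImplicit false
set_option linter.unusedSectionVars false
set_option linter.style.haveILetI false

namespace Cfsg.Lib.Fix4

open MulAction Subgroup

universe u

/-- The product over a balanced set of non-trivial elements of a group of order nine. -/
theorem prod_ne_one {A : Type u} [CommGroup A] [Fintype A] [DecidableEq A] (hA : Fintype.card A ≤ 9) (X : Finset A)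
    (h1 : ∀ v ∈ X, v ≠ 1) (h3 : ∀ v ∈ X, v ^ 3 = 1) (hpm : ∀ v ∈ X, v⁻¹ ∉ X) (hc : ¬ 3 ∣ X.card) :
    ∏ v ∈ X, v ≠ 1 := by
  have hdisj : Disjoint X (X.image Inv.inv) := by
    rw [Finset.disjoint_left]
    intro v hv h
    obtain ⟨w, hw, e⟩ := Finset.mem_image.1 h
    exact hpm w hw (e ▸ hv)
  have hsub : X ∪ X.image Inv.inv ⊆ Finset.univ.erase 1 := by
    intro v hv
    rw [Finset.mem_erase]
    refine ⟨?_, Finset.mem_univ v⟩
    rcases Finset.mem_union.1 hv with hv | hv
    · exact h1 v hv
    · obtain ⟨w, hw, rfl⟩ := Finset.mem_image.1 hv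
      exact fun e => h1 w hw (inv_eq_one.1 e)
  have hcard := Finset.card_le_card hsub
  rw [Finset.card_union_of_disjoint hdisj, Finset.card_image_of_injective _ inv_injective,
    Finset.card_erase_of_mem (Finset.mem_univ _), Finset.card_univ] at hcard
  rcases (by omega : X.card = 1 ∨ X.card = 2 ∨ X.card = 4) with h | h | h
  · obtain ⟨v, rfl⟩ := Finset.card_eq_one.1 h
    rw [Finset.prod_singleton]
    exact h1 v (Finset.mem_singleton_self v)
  · obtain ⟨v, w, hvw, rfl⟩ := Finset.card_eq_two.1 h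
    rw [Finset.prod_pair hvw]
    intro e
    exact hpm v (by simp) (by rw [inv_eq_of_mul_eq_one_right e]; simp)
  · obtain ⟨a, b, c, d, hab, hac, had, hbc, hbd, hcd, rfl⟩ := Finset.card_eq_four.1 h
    intro e
    rw [Finset.prod_insert (by simp [hab, hac, had]), Finset.prod_insert (by simp [hbc, hbd]),
      Finset.prod_pair hcd] at e
    have hall : ({a, b, c, d} : Finset A) ∪ ({a, b, c, d} : Finset A).image Inv.inv = Finset.univ.erase 1 :=
      Finset.eq_of_subset_of_card_le hsub (by
        rw [Finset.card_union_of_disjoint hdisj, Finset.card_image_of_injective _ inv_injective, h,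
          Finset.card_erase_of_mem (Finset.mem_univ _), Finset.card_univ]
        omega)
    have hsq : ∀ v ∈ ({a, b, c, d} : Finset A), v * v = v⁻¹ := fun v hv => by
      refine eq_inv_of_mul_eq_one_left ?_
      rw [← pow_two, ← pow_succ, h3 v hv]
    have ha : a ∈ ({a, b, c, d} : Finset A) := by simp
    have hb : b ∈ ({a, b, c, d} : Finset A) := by simp
    have hc' : c ∈ ({a, b, c, d} : Finset A) := by simp
    have hd : d ∈ ({a, b, c, d} : Finset A) := by simp
    have hab1 : a * b ≠ 1 := fun e' => hpm a ha (by rw [inv_eq_of_mul_eq_one_right e']; exact hb)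
    have hmem : a * b ∈ Finset.univ.erase (1 : A) := Finset.mem_erase.2 ⟨hab1, Finset.mem_univ _⟩
    rw [← hall] at hmem
    have key : ∀ c d : A, c ∈ ({a, b, c, d} : Finset A) → c * c = c⁻¹ → c ≠ d → d ≠ 1 → a * b * (c * d) = 1 →
        (a * b = c ∨ a * b = c⁻¹) → False := by
      intro c d _ hcc hcd hd1 e hcase
      rcases hcase with h' | h'
      · rw [h', ← mul_assoc, hcc, inv_mul_eq_one] at e
        exact hcd e
      · rw [h', inv_mul_cancel_left] at e
        exact hd1 e
    have e : a * b * (c * d) = 1 := by rw [mul_assoc]; exact e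
    have e' : a * b * (d * c) = 1 := by rw [mul_comm d c]; exact e
    rcases Finset.mem_union.1 hmem with hm | hm
    · simp only [Finset.mem_insert, Finset.mem_singleton] at hm
      rcases hm with h' | h' | h' | h'
      · exact h1 b hb (mul_eq_left.1 h')
      · exact h1 a ha (mul_eq_right.1 h')
      · exact key c d (by simp) (hsq c hc') hcd (h1 d hd) e (Or.inl h')
      · exact key d c (by simp) (hsq d hd) hcd.symm (h1 c hc') e' (Or.inl h')
    · obtain ⟨w, hw, h'⟩ := Finset.mem_image.1 hm
      simp only [Finset.mem_insert, Finset.mem_singleton] at hw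
      rcases hw with rfl | rfl | rfl | rfl
      · rw [← hsq w ha] at h'
        exact hab (mul_left_cancel h')
      · rw [← hsq w hb] at h'
        exact hab (mul_right_cancel h').symm
      · exact key w d (by simp) (hsq w hc') hcd (h1 d hd) e (Or.inr h'.symm)
      · exact key w c (by simp) (hsq w hd) hcd.symm (h1 c hc') e' (Or.inr h'.symm)

variable {G : Type u} [Group G] [Finite G]

/-- An element of order three that is not inverted and whose conjugates in a Sylow 3-subgroup of order at
least 27 have centralizers of order at most nine there forces a non-simple group. -/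
theorem small_cent_false [IsSimpleGroup G] (hna : ¬ IsMulCommutative G) (P : Sylow 3 G)
    (h27 : 27 ≤ Nat.card (P : Subgroup G)) {t : G} (ht : t ∈ (P : Subgroup G)) (ht3 : t ^ 3 = 1)
    (hinv : ∀ g : G, g * t * g⁻¹ ≠ t⁻¹)
    (hcent : ∀ g : G, g * t * g⁻¹ ∈ (P : Subgroup G) → Nat.card (cent (P : Subgroup G) (g * t * g⁻¹)) ≤ 9) :
    False := by
  classical
  haveI : Fact (Nat.Prime 3) := ⟨Nat.prime_three⟩
  haveI := Fintype.ofFinite G
  have hC : ∀ (g : G) (hg : g * t * g⁻¹ ∈ (P : Subgroup G)),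
      Nat.card (centralizer ({(⟨g * t * g⁻¹, hg⟩ : (P : Subgroup G))} : Set (P : Subgroup G))) ≤ 3 ^ 2 := by
    intro g hg
    refine le_trans ?_ (hcent g hg)
    exact Nat.card_le_card_of_injective (fun c => (⟨c.1.1, mem_cent.2 ⟨c.1.2,
      congrArg Subtype.val (mem_centralizer_singleton_iff.1 c.2)⟩⟩ : cent (P : Subgroup G) (g * t * g⁻¹)))
      fun a b e => Subtype.ext (Subtype.ext (congrArg (fun w : cent (P : Subgroup G) (g * t * g⁻¹) => w.1) e))
  have hidx : (commutator (P : Subgroup G)).index = 3 ^ 2 := by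
    have h1 := hC 1 (by simpa using ht)
    exact Cfsg.Lib.PGroup.CentralizerSq.index_commutator_of_centralizer P.isPGroup' h1 (le_trans (by norm_num) h27)
  set A := Abelianization (P : Subgroup G)
  set π : (P : Subgroup G) →* A := Abelianization.of with hπ
  have hπs : Function.Surjective π := QuotientGroup.mk_surjective
  haveI := Fintype.ofFinite A
  have hA : Fintype.card A = 9 := by
    rw [← Nat.card_eq_fintype_card]
    exact hidx.trans (by norm_num)
  have hker : ∀ v : A, Nat.card {u : (P : Subgroup G) // π u = v} = Nat.card (commutator (P : Subgroup G)) := by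
    intro v
    obtain ⟨u0, rfl⟩ := hπs v
    refine Nat.card_congr
      { toFun := fun u => ⟨u0⁻¹ * u.1, QuotientGroup.eq.1 u.2.symm⟩
        invFun := fun c => ⟨u0 * c.1, (QuotientGroup.eq.2 (show u0⁻¹ * (u0 * c.1) ∈ commutator _ by
          rw [inv_mul_cancel_left]; exact c.2)).symm⟩
        left_inv := fun u => Subtype.ext (mul_inv_cancel_left _ _)
        right_inv := fun c => Subtype.ext (inv_mul_cancel_left _ _) }
  -- each coset containing a conjugate consists of conjugates
  have hfill : ∀ (g : G) (hg : g * t * g⁻¹ ∈ (P : Subgroup G)) (u : (P : Subgroup G)),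
      π u = π ⟨g * t * g⁻¹, hg⟩ → ∃ h : G, h * t * h⁻¹ = (u : G) := by
    intro g hg u hu
    set u0 : (P : Subgroup G) := ⟨g * t * g⁻¹, hg⟩
    set cls := Finset.univ.image (fun p : (P : Subgroup G) => p * u0 * p⁻¹)
    have hsub : cls ⊆ Finset.univ.filter (fun w => π w = π u0) := by
      intro w hw
      obtain ⟨p, -, rfl⟩ := Finset.mem_image.1 hw
      rw [Finset.mem_filter, map_mul, map_mul, map_inv, mul_comm (π p), mul_inv_cancel_right]
      exact ⟨Finset.mem_univ _, rfl⟩
    have hle : (Finset.univ.filter (fun w => π w = π u0)).card ≤ cls.card := by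
      rw [← Fintype.card_subtype, ← Nat.card_eq_fintype_card, hker]
      have h1 := Finset.card_le_mul_card_image (f := fun p : (P : Subgroup G) => p * u0 * p⁻¹) Finset.univ
        (3 ^ 2) (by
          intro b hb
          obtain ⟨p0, -, rfl⟩ := Finset.mem_image.1 hb
          rw [← Fintype.card_subtype, ← Nat.card_eq_fintype_card]
          refine le_trans (Nat.card_le_card_of_injective (fun p => (⟨p0⁻¹ * p.1, mem_centralizer_singleton_iff.2 ?_⟩ :
            centralizer ({u0} : Set (P : Subgroup G)))) fun p q e => Subtype.ext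
              (mul_left_cancel (congrArg Subtype.val e))) (hC g hg)
          calc p0⁻¹ * p.1 * u0 = p0⁻¹ * (p.1 * u0 * p.1⁻¹) * p.1 := by group
            _ = p0⁻¹ * (p0 * u0 * p0⁻¹) * p.1 := by rw [p.2]
            _ = u0 * (p0⁻¹ * p.1) := by group)
      have h2 := (commutator (P : Subgroup G)).card_mul_index
      rw [hidx, Nat.card_eq_fintype_card (α := (P : Subgroup G)), ← Finset.card_univ] at h2
      rw [← h2, mul_comm] at h1
      exact Nat.le_of_mul_le_mul_left h1 (by norm_num)
    have hmem : u ∈ cls := (Finset.eq_of_subset_of_card_le hsub hle).ge (Finset.mem_filter.2 ⟨Finset.mem_univ _, hu⟩)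
    obtain ⟨p, -, hp⟩ := Finset.mem_image.1 hmem
    refine ⟨(p : G) * g, ?_⟩
    rw [← hp]
    show (p : G) * g * t * ((p : G) * g)⁻¹ = (p : G) * (g * t * g⁻¹) * (p : G)⁻¹
    group
  -- the fixed cosets
  set Q := G ⧸ (P : Subgroup G)
  haveI := Fintype.ofFinite Q
  have hmem : ∀ g : G, t • (QuotientGroup.mk g : Q) = QuotientGroup.mk g ↔ g⁻¹ * t * g ∈ (P : Subgroup G) := by
    intro g
    show (QuotientGroup.mk (t * g) : Q) = _ ↔ _
    rw [QuotientGroup.eq, show (t * g)⁻¹ * g = (g⁻¹ * t * g)⁻¹ by group, inv_mem_iff]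
  have hout : ∀ q : Q, t • q = q → q.out⁻¹ * t * q.out ∈ (P : Subgroup G) := fun q hq =>
    (hmem q.out).1 (by rwa [QuotientGroup.out_eq'])
  let F : Q → A := fun q => if h : t • q = q then π ⟨_, hout q h⟩ else 1
  set Fs := Finset.univ.filter (fun q : Q => t • q = q)
  set X := Fs.image F
  have hXconj : ∀ v ∈ X, ∃ (g : G) (hg : g * t * g⁻¹ ∈ (P : Subgroup G)), π ⟨_, hg⟩ = v := by
    intro v hv
    obtain ⟨q, hq, rfl⟩ := Finset.mem_image.1 hv
    have hq := (Finset.mem_filter.1 hq).2
    refine ⟨q.out⁻¹, by simpa using hout q hq, ?_⟩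
    simp only [F, dif_pos hq, inv_inv]
  have ht1 : t ≠ 1 := fun e => hinv 1 (by rw [e]; simp)
  have h1 : ∀ v ∈ X, v ≠ 1 := by
    intro v hv e
    obtain ⟨g, hg, rfl⟩ := hXconj v hv
    obtain ⟨h, hh⟩ := hfill g hg 1 (by rw [e, map_one])
    exact ht1 (conj_eq_one_iff.1 hh)
  have h3 : ∀ v ∈ X, v ^ 3 = 1 := by
    intro v hv
    obtain ⟨g, hg, rfl⟩ := hXconj v hv
    rw [← map_pow, show (⟨g * t * g⁻¹, hg⟩ : (P : Subgroup G)) ^ 3 = 1 from
      Subtype.ext (show (g * t * g⁻¹) ^ 3 = 1 by rw [conj_pow, ht3, mul_one, mul_inv_cancel]), map_one]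
  have hpm : ∀ v ∈ X, v⁻¹ ∉ X := by
    intro v hv hv'
    obtain ⟨g, hg, rfl⟩ := hXconj v hv
    obtain ⟨g', hg', hgg⟩ := hXconj _ hv'
    obtain ⟨h, hh⟩ := hfill g' hg' (⟨g * t * g⁻¹, hg⟩ : (P : Subgroup G))⁻¹ (by rw [hgg, map_inv])
    have hh : h * t * h⁻¹ = (g * t * g⁻¹)⁻¹ := hh
    refine hinv (g⁻¹ * h) ?_
    calc g⁻¹ * h * t * (g⁻¹ * h)⁻¹ = g⁻¹ * (h * t * h⁻¹) * g := by group
      _ = t⁻¹ := by rw [hh]; group
  -- equal multiplicities
  have hmult : ∀ v ∈ X, (Fs.filter (fun q => F q = v)).card * Nat.card (P : Subgroup G) =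
      Nat.card (centralizer ({t} : Set G)) * Nat.card (commutator (P : Subgroup G)) := by
    intro v hv
    obtain ⟨g, hg, rfl⟩ := hXconj v hv
    set v := π ⟨g * t * g⁻¹, hg⟩ with hv'
    set W : Set G := {x | ∃ hx : x⁻¹ * t * x ∈ (P : Subgroup G), π ⟨_, hx⟩ = v}
    have hleft : W = QuotientGroup.mk ⁻¹' (↑(Fs.filter (fun q => F q = v)) : Set Q) := by
      ext x
      simp only [Set.mem_preimage, Finset.coe_filter, Finset.mem_univ, true_and, Set.mem_setOf_eq, Fs,
        Finset.mem_filter]
      have hpx : ((QuotientGroup.mk x : Q).out)⁻¹ * x ∈ (P : Subgroup G) :=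
        QuotientGroup.eq.1 (QuotientGroup.out_eq' _)
      have key : ∀ (hx : x⁻¹ * t * x ∈ (P : Subgroup G)) (hq : t • (QuotientGroup.mk x : Q) = QuotientGroup.mk x),
          F (QuotientGroup.mk x) = π ⟨_, hx⟩ := by
        intro hx hq
        simp only [F, dif_pos hq]
        have e : (⟨_, hout _ hq⟩ : (P : Subgroup G)) = ⟨_, hpx⟩ * ⟨_, hx⟩ * (⟨_, hpx⟩ : (P : Subgroup G))⁻¹ := by
          refine Subtype.ext ?_
          show _ = ((QuotientGroup.mk x : Q).out)⁻¹ * x * (x⁻¹ * t * x) * (((QuotientGroup.mk x : Q).out)⁻¹ * x)⁻¹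
          group
        rw [e, map_mul, map_mul, map_inv, mul_comm (π ⟨_, hpx⟩), mul_inv_cancel_right]
      constructor
      · rintro ⟨hx, e⟩
        exact ⟨(hmem x).2 hx, (key hx ((hmem x).2 hx)).trans e⟩
      · rintro ⟨hq, e⟩
        exact ⟨(hmem x).1 hq, (key _ hq).symm.trans e⟩
    have hright : Nat.card W = Nat.card (centralizer ({t} : Set G)) * Nat.card (commutator (P : Subgroup G)) := by
      choose c hc using fun u : {u : (P : Subgroup G) // π u = v} => hfill g hg u.1 u.2
      rw [← hker v, ← Nat.card_prod]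
      symm
      refine Nat.card_congr (Equiv.ofBijective (fun z => (⟨z.1.1 * (c z.2)⁻¹, ?_⟩ : W)) ⟨?_, ?_⟩)
      · have e : (z.1.1 * (c z.2)⁻¹)⁻¹ * t * (z.1.1 * (c z.2)⁻¹) = (z.2.1 : G) := by
          rw [← hc z.2]
          calc _ = c z.2 * (z.1.1⁻¹ * (t * z.1.1)) * (c z.2)⁻¹ := by group
            _ = _ := by rw [← mem_centralizer_singleton_iff.1 z.1.2, inv_mul_cancel_left]
        refine ⟨e ▸ z.2.1.2, ?_⟩
        rw [show (⟨_, _⟩ : (P : Subgroup G)) = z.2.1 from Subtype.ext e]
        exact z.2.2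
      · rintro ⟨a, u⟩ ⟨b, w⟩ e
        have e : a.1 * (c u)⁻¹ = b.1 * (c w)⁻¹ := congrArg Subtype.val e
        have huw : u = w := by
          refine Subtype.ext (Subtype.ext ?_)
          rw [← hc u, ← hc w]
          calc c u * t * (c u)⁻¹ = (a.1 * (c u)⁻¹)⁻¹ * t * (a.1 * (c u)⁻¹) := by
                rw [show (a.1 * (c u)⁻¹)⁻¹ * t * (a.1 * (c u)⁻¹) = c u * (a.1⁻¹ * (t * a.1)) * (c u)⁻¹ by group,
                  ← mem_centralizer_singleton_iff.1 a.2, inv_mul_cancel_left]
            _ = _ := by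
                rw [e, show (b.1 * (c w)⁻¹)⁻¹ * t * (b.1 * (c w)⁻¹) = c w * (b.1⁻¹ * (t * b.1)) * (c w)⁻¹ by group,
                  ← mem_centralizer_singleton_iff.1 b.2, inv_mul_cancel_left]
        subst huw
        exact Prod.ext (Subtype.ext (mul_right_cancel e)) rfl
      · rintro ⟨x, hx, e⟩
        set u : {u : (P : Subgroup G) // π u = v} := ⟨⟨_, hx⟩, e⟩ with hu
        have hcu : c u * t * (c u)⁻¹ = x⁻¹ * t * x := hc u
        refine ⟨(⟨x * c u, mem_centralizer_singleton_iff.2 ?_⟩, u), Subtype.ext (mul_inv_cancel_right x (c u))⟩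
        calc x * c u * t = x * (c u * t * (c u)⁻¹) * c u := by group
          _ = t * (x * c u) := by rw [hcu]; group
    rw [← hright, hleft, Nat.card_congr (QuotientGroup.preimageMkEquivSubgroupProdSet (P : Subgroup G) _),
      Nat.card_prod, mul_comm, Nat.card_coe_set_eq, Set.ncard_coe_finset]
  -- count the fixed cosets
  have hindex : ¬ 3 ∣ Fs.card := by
    have h := fix_modEq (G := G) (Ω := Q) (p := 3) ht3
    have e : (fixedBy Q t).ncard = Fs.card := by
      rw [← Set.ncard_coe_finset]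
      congr 1
      ext q
      simp [Fs]
    rw [e] at h
    intro hd
    exact P.not_dvd_index (Nat.modEq_zero_iff_dvd.1 (h.symm.trans (Nat.modEq_zero_iff_dvd.2 hd)))
  have hne : Fs.Nonempty := Finset.card_ne_zero.1 fun e => hindex (by rw [e]; exact dvd_zero 3)
  obtain ⟨q0, hq0⟩ := hne
  set m := (Fs.filter (fun q => F q = F q0)).card
  have hm : ∀ v ∈ X, (Fs.filter (fun q => F q = v)).card = m := fun v hv =>
    Nat.eq_of_mul_eq_mul_right (Nat.card_pos (α := (P : Subgroup G)))
      ((hmult v hv).trans (hmult _ (Finset.mem_image_of_mem F hq0)).symm)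
  have hcount : Fs.card = X.card * m := by
    rw [Finset.card_eq_sum_card_image F Fs, Finset.sum_congr rfl hm, Finset.sum_const, smul_eq_mul]
  -- transfer
  set V := MonoidHom.transfer π
  have hVt : V t = 1 := by
    rcases (Subgroup.Normal.eq_bot_or_eq_top (inferInstance : V.ker.Normal)) with h | h
    · exact absurd ⟨⟨fun a b => (MonoidHom.ker_eq_bot_iff V).1 h (by rw [map_mul, map_mul, mul_comm])⟩⟩ hna
    · exact MonoidHom.mem_ker.1 (h.symm ▸ mem_top t : t ∈ V.ker)
  have hVF : V t = ∏ q : Q, F q := by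
    letI := Fintype.ofFinite (Quotient (orbitRel (zpowers t) Q))
    letI : ∀ q : Quotient (orbitRel (zpowers t) Q), Fintype (orbit (zpowers t) q.out) := fun q => Fintype.ofFinite _
    rw [MonoidHom.transfer_eq_prod_quotient_orbitRel_zpowers_quot, ← Fintype.prod_equiv (selfEquivSigmaOrbits (zpowers t) Q).symm
      (fun z => F ((selfEquivSigmaOrbits (zpowers t) Q).symm z)) F (fun _ => rfl), Fintype.prod_sigma]
    refine Finset.prod_congr rfl fun q _ => ?_
    set L := Function.minimalPeriod (t • ·) q.out with hL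
    have hL3 : L ∣ 3 := by
      refine Function.IsPeriodicPt.minimalPeriod_dvd ?_
      show (t • ·)^[3] _ = _
      rw [smul_iterate_apply, ht3, one_smul]
    by_cases hfixq : t • q.out = q.out
    · have hL1 : L = 1 := Function.minimalPeriod_eq_one_iff_isFixedPt.2 hfixq
      have hsub : ∀ w : orbit (zpowers t) q.out, (w : Q) = q.out := by
        rintro ⟨_, ⟨⟨_, i, rfl⟩, rfl⟩⟩
        show t ^ i • q.out = q.out
        exact (zpow_mem (show t ∈ stabilizer G q.out from hfixq) i : _)
      letI : Unique (orbit (zpowers t) q.out) :=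
        ⟨⟨⟨q.out, mem_orbit_self _⟩⟩, fun w => Subtype.ext (hsub w)⟩
      rw [Fintype.prod_unique]
      show _ = F q.out
      simp only [F, dif_pos hfixq]
      refine congrArg π (Subtype.ext ?_)
      show q.out.out⁻¹ * t ^ L * q.out.out = _
      rw [hL1, pow_one]
    · have hL3' : L = 3 := ((Nat.dvd_prime Nat.prime_three).1 hL3).resolve_left fun e =>
        hfixq (Function.minimalPeriod_eq_one_iff_isFixedPt.1 e)
      rw [Finset.prod_eq_one fun w _ => ?_]
      · rw [show (⟨_, _⟩ : (P : Subgroup G)) = 1 from Subtype.ext (show q.out.out⁻¹ * t ^ L * q.out.out = 1 by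
          rw [hL3', ht3, mul_one, inv_mul_cancel]), map_one]
      · show F (w : Q) = 1
        have hw : t • (w : Q) ≠ (w : Q) := by
          obtain ⟨⟨_, i, rfl⟩, hi⟩ := w.2
          intro h
          refine hfixq ?_
          rw [← hi] at h
          have h : t • t ^ i • q.out = t ^ i • q.out := h
          rw [smul_smul, ← (Commute.refl t).zpow_left i |>.eq, mul_smul] at h
          exact smul_left_cancel _ h
        simp only [F, dif_neg hw]
  have hprod : ∏ q : Q, F q = (∏ v ∈ X, v) ^ m := by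
    rw [← Finset.prod_filter_mul_prod_filter_not Finset.univ (fun q : Q => t • q = q),
      Finset.prod_eq_one (s := Finset.univ.filter fun q : Q => ¬ t • q = q) (fun q hq => by
        simp only [F, dif_neg (Finset.mem_filter.1 hq).2]), mul_one, ← Finset.prod_pow]
    rw [← Finset.prod_fiberwise_of_maps_to (g := F) (t := X) (fun q hq => Finset.mem_image_of_mem F hq)]
    refine Finset.prod_congr rfl fun v hv => ?_
    rw [Finset.prod_congr rfl (fun q hq => (Finset.mem_filter.1 hq).2), Finset.prod_const, hm v hv]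
  have hX3 : (∏ v ∈ X, v) ^ 3 = 1 := by
    rw [← Finset.prod_pow]; exact Finset.prod_eq_one h3
  have hc : ¬ 3 ∣ X.card := fun h => hindex (hcount ▸ dvd_mul_of_dvd_left h m)
  have hm3 : ¬ 3 ∣ m := fun h => hindex (hcount ▸ dvd_mul_of_dvd_right h _)
  refine prod_ne_one hA.le X h1 h3 hpm hc ?_
  have hgm : (∏ v ∈ X, v) ^ m = 1 := by rw [← hprod, ← hVF, hVt]
  have := pow_gcd_eq_one.2 ⟨hX3, hgm⟩
  rwa [Nat.Coprime.gcd_eq_one ((Nat.prime_three.coprime_iff_not_dvd).2 hm3), pow_one] at this

end Cfsg.Lib.Fix4
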