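import Cfsg.Agent.Lib.Fix4.TwoRank
import Cfsg.Agent.Lib.PGroup.CyclicNormal
import Cfsg.Agent.Lib.PGroup.NormalStep
import Cfsg.Agent.Lib.Invol.AbelianCentralizers.Basic

/-!
# Normal subgroups without invariant four-subgroups
-/

set_option autoImplicit false
set_option linter.unusedSectionVars false
set_option linter.style.haveILetI false

namespace Cfsg.Lib.Fix4

open Subgroup

universe u

variable {S : Type u} [Group S] [Finite S]

/-- A normal subgroup `T` of a 2-group in which no four-subgroup is invariant has a cyclic subgroup of index two. -/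
theorem cyclic_of_no_fours (hS : IsPGroup 2 S) (T : Subgroup S) [hT : T.Normal]
    (h : ∀ W : Subgroup S, W.Normal → W ≤ T → Nat.card W = 4 → (∀ w ∈ W, w ^ 2 = 1) → False) :
    ∃ V : Subgroup S, IsCyclic V ∧ V.index ≤ 2 * T.index := by
  classical
  haveI : Fact (Nat.Prime 2) := ⟨Nat.prime_two⟩
  haveI : Group.IsNilpotent S := hS.isNilpotent
  have hbig : ∀ W : Subgroup S, W.Normal → W ≤ T → (∀ w ∈ W, w ^ 2 = 1) → ∀ a ∈ W, ∀ b ∈ W,
      a ≠ 1 → b ≠ 1 → a = b := by
    intro W hWn hWT hW2 a ha b hb ha1 hb1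
    by_contra hab
    haveI := hWn
    haveI := Fintype.ofFinite W
    have h3 : 2 < Nat.card W := by
      rw [Nat.card_eq_fintype_card, Fintype.two_lt_card_iff]
      refine ⟨1, ⟨a, ha⟩, ⟨b, hb⟩, fun e => ha1 ?_, fun e => hb1 ?_, fun e => hab (congrArg Subtype.val e)⟩ <;>
        exact (congrArg Subtype.val e).symm
    obtain ⟨k, hk⟩ := IsPGroup.iff_card.1 (hS.to_subgroup W)
    have hk2 : 2 ≤ k := by
      by_contra hlt
      have : 2 ^ k ≤ 2 ^ 1 := Nat.pow_le_pow_right two_pos (by omega)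
      omega
    obtain ⟨B, hBn, hBW, hBc⟩ := Cfsg.Lib.PGroup.NormalStep.exists_normal_le hS W 2 (hk ▸ pow_dvd_pow 2 hk2)
    exact h B hBn (hBW.trans hWT) (by rw [hBc]; norm_num) fun w hw => hW2 w (hBW hw)
  -- a maximal invariant abelian subgroup of `T`
  obtain ⟨A, ⟨hAn, hAc, hAT⟩, hmax⟩ := (Set.toFinite {A : Subgroup S | A.Normal ∧ IsMulCommutative A ∧ A ≤ T}).exists_maximal
    ⟨⊥, show (⊥ : Subgroup S).Normal ∧ IsMulCommutative (⊥ : Subgroup S) ∧ ⊥ ≤ T from ⟨inferInstance, inferInstance, bot_le⟩⟩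
  haveI := hAn
  haveI := hAc
  have hcyc : IsCyclic A := by
    letI : CommGroup A := { (inferInstance : Group A) with mul_comm := hAc.is_comm.comm }
    refine Cfsg.Lib.Invol.AC.isCyclic_of_unique_invol (hS.to_subgroup A) fun x y hx hy => ?_
    let W : Subgroup S := (powMonoidHom 2 : A →* A).ker.map A.subtype
    have hmem : ∀ w : S, w ∈ W ↔ w ∈ A ∧ w ^ 2 = 1 := fun w => by
      constructor
      · rintro ⟨⟨v, hv⟩, hv2, rfl⟩
        exact ⟨hv, congrArg Subtype.val hv2⟩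
      · exact fun hw => ⟨⟨w, hw.1⟩, Subtype.ext hw.2, rfl⟩
    have hWn : W.Normal := ⟨fun w hw g => (hmem _).2 ⟨hAn.conj_mem w ((hmem w).1 hw).1 g, by
      rw [conj_pow, ((hmem w).1 hw).2, mul_one, mul_inv_cancel]⟩⟩
    have hx2 : (x : S) ^ 2 = 1 := by rw [← hx, ← SubmonoidClass.coe_pow, pow_orderOf_eq_one]; rfl
    have hy2 : (y : S) ^ 2 = 1 := by rw [← hy, ← SubmonoidClass.coe_pow, pow_orderOf_eq_one]; rfl
    have hne : ∀ {x : A}, orderOf x = 2 → (x : S) ≠ 1 := fun {x} hx e => by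
      rw [show x = 1 from Subtype.ext e, orderOf_one] at hx; norm_num at hx
    exact Subtype.ext (hbig W hWn (fun w hw => hAT ((hmem w).1 hw).1) (fun w hw => ((hmem w).1 hw).2)
      x ((hmem _).2 ⟨x.2, hx2⟩) y ((hmem _).2 ⟨y.2, hy2⟩) (hne hx) (hne hy))
  -- it is self-centralizing in `T`
  have hself : ∀ x ∈ T, (∀ a ∈ A, a * x = x * a) → x ∈ A := by
    intro x hxT hx
    by_contra hxA
    set C : Subgroup S := T ⊓ centralizer (A : Set S) with hC
    set f := QuotientGroup.mk' A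
    have hs := QuotientGroup.mk'_surjective A
    haveI : (C.map f).Normal := (inferInstance : C.Normal).map f hs
    have hne : C.map f ≠ ⊥ := by
      rw [Ne, Subgroup.map_eq_bot_iff, QuotientGroup.ker_mk']
      exact fun hle => hxA (hle ⟨hxT, mem_centralizer_iff.2 hx⟩)
    obtain ⟨_, ⟨c, hc, rfl⟩, hcc, hco⟩ := Cfsg.Lib.PGroup.exists_mem_center_orderOf_eq (hS.to_quotient A) hne
    have hcA : c ∉ A := fun e => by
      rw [show f c = 1 from (QuotientGroup.eq_one_iff c).2 e] at hco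
      rw [orderOf_one] at hco; norm_num at hco
    set B := A ⊔ zpowers c
    have hBc : IsMulCommutative B := by
      have h1 : A ≤ centralizer (zpowers c : Set S) := le_centralizer_iff.2 (zpowers_le.2 hc.2)
      rw [← le_centralizer_iff_isMulCommutative]
      refine sup_le ?_ ?_ <;> rw [le_centralizer_iff] <;> refine sup_le ?_ ?_
      · exact le_centralizer A
      · exact le_centralizer_iff.1 h1
      · exact h1
      · exact le_centralizer _
    have hBn : B.Normal := ⟨fun m hm g => by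
      have hmc : f m ∈ center (S ⧸ A) := by
        have : B.map f ≤ center (S ⧸ A) := by
          rw [Subgroup.map_sup, MonoidHom.map_zpowers]
          exact sup_le (by simp [f, QuotientGroup.map_mk'_self]) (zpowers_le.2 hcc)
        exact this (mem_map_of_mem f hm)
      have h1 : f (g * m * g⁻¹ * m⁻¹) = 1 := by
        rw [map_mul, map_mul, map_mul, mem_center_iff.1 hmc (f g), map_inv, map_inv]
        group
      simpa using mul_mem ((le_sup_left : A ≤ B) ((QuotientGroup.eq_one_iff _).1 h1)) hm⟩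
    exact hcA (hmax (show B ∈ {A : Subgroup S | A.Normal ∧ IsMulCommutative A ∧ A ≤ T} from
      ⟨hBn, hBc, sup_le hAT (zpowers_le.2 hc.1)⟩) le_sup_left (le_sup_right (a := A) (mem_zpowers c)))
  haveI : (A.subgroupOf T).Normal := hAn.comap _
  have hU : IsCyclic (A.subgroupOf T) :=
    isCyclic_of_surjective (subgroupOfEquivOfLe hAT).symm.toMonoidHom (subgroupOfEquivOfLe hAT).symm.surjective
  obtain ⟨n, hn⟩ := IsPGroup.iff_card.1 ((hS.to_subgroup T).to_subgroup (A.subgroupOf T))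
  obtain ⟨u, hu, hd⟩ := Cfsg.Lib.CyclicNormal.exists_data (hS.to_subgroup T) (A.subgroupOf T) hU hn (fun x hx => by
    refine hself _ x.2 fun a ha => ?_
    exact congrArg Subtype.val (mem_centralizer_iff.1 hx ⟨a, hAT ha⟩ ha))
  by_cases hab : IsMulCommutative T
  · refine ⟨A, hcyc, ?_⟩
    have hTA : T ≤ A := fun x hx => hself x hx fun a ha =>
      congrArg Subtype.val (hab.is_comm.comm ⟨a, hAT ha⟩ ⟨x, hx⟩)
    rw [le_antisymm hAT hTA]; omega
  rcases hd.alternative hab with ⟨-, hcard, -⟩ | ⟨h3, m, hm, hmc⟩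
  · refine ⟨A, hcyc, ?_⟩
    have hi : A.relIndex T = 2 := by
      have h1 := (A.subgroupOf T).card_mul_index
      rw [hn, hcard, pow_succ] at h1
      exact Nat.eq_of_mul_eq_mul_left (pow_pos two_pos n) h1
    rw [← relIndex_mul_index hAT, hi]
  exfalso
  have hn2 := hd.two_le hab
  obtain ⟨y, hyu, hy2, hy⟩ := hd.exists_y hn2 h3 hm hmc
  set z := u ^ ((2 : ℤ) ^ (n - 1)) with hz
  have hy' : y * u * y⁻¹ = u * z := hy
  have hz2 : z ^ 2 = 1 := by
    rw [hz, ← zpow_natCast, ← zpow_mul, hd.zpow_eq_one_iff]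
    push_cast
    rw [← pow_succ, show n - 1 + 1 = n by omega]
  have hz1 : z ≠ 1 := fun e => by
    rw [hz, hd.zpow_eq_one_iff] at e
    have h1 := Int.le_of_dvd (pow_pos two_pos _) e
    push_cast at h1
    have : (2 : ℤ) ^ (n - 1) < 2 ^ n := pow_lt_pow_right₀ (by norm_num) (by omega)
    omega
  have hzu : z ∈ zpowers u := zpow_mem (mem_zpowers u) _
  have hcu : Commute z u := Cfsg.Lib.CyclicNormal.commute_of_mem_zpowers hzu
  have hyu2 : Commute y (u ^ 2) := by
    have e : y * u ^ 2 * y⁻¹ = u ^ 2 := by rw [← conj_pow, hy', hcu.symm.mul_pow, hz2, mul_one]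
    exact mul_inv_eq_iff_eq_mul.1 e
  have huA : (u : S) ∈ A := mem_subgroupOf.1 (hu ▸ mem_zpowers u)
  have hAu : ∀ w ∈ A, ∀ hw : w ∈ T, (⟨w, hw⟩ : T) ∈ zpowers u := fun w hwA hw => hu ▸ mem_subgroupOf.2 hwA
  -- the involutions commuting with all squares from `A`
  have hsol : ∀ g : T, Commute g (u ^ 2) → g ^ 2 = 1 → ∃ (a : ℤ) (e : ℕ), g = z ^ a * y ^ e := by
    intro g hg hg2
    obtain ⟨i, e, rfl⟩ := hd.exists_coord hn2 hy hg
    have hdiv := hd.dvd_of_pow hn2 h3 hy2 hy (i := i) (e := e) (j := 0) (by omega) (by rw [hg2, one_pow])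
    obtain ⟨a, rfl⟩ := hdiv
    exact ⟨a, e, by rw [zpow_mul]; rfl⟩
  have hzy : Commute z y := by
    obtain ⟨i, hi⟩ := mem_zpowers_iff.1 hzu
    have e : y * z * y⁻¹ = z := by
      rw [hz, ← conj_zpow, hy', hcu.symm.mul_zpow]
      have : z ^ ((2 : ℤ) ^ (n - 1)) = 1 := by
        obtain ⟨q, hq⟩ : ∃ q, n - 1 = q + 1 := ⟨n - 2, by omega⟩
        rw [hq, pow_succ', zpow_mul, zpow_ofNat, hz2, one_zpow]
      rw [this, mul_one]
    exact (mul_inv_eq_iff_eq_mul.1 e).symm
  have hW2 : ∀ (a : ℤ) (e : ℕ), (z ^ a * y ^ e) ^ 2 = 1 := fun a e => by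
    rw [((hzy.zpow_left a).pow_right e).mul_pow, ← pow_mul, mul_comm e, pow_mul, hy2, one_pow, mul_one,
      ← zpow_natCast, ← zpow_mul, mul_comm, zpow_mul, zpow_natCast, hz2, one_zpow]
  let W : Subgroup S :=
    { carrier := {g | ∃ hg : g ∈ T, Commute (⟨g, hg⟩ : T) (u ^ 2) ∧ g ^ 2 = 1}
      one_mem' := ⟨T.one_mem, Commute.one_left _, one_pow 2⟩
      mul_mem' := by
        rintro a b ⟨ha, hac, ha2⟩ ⟨hb, hbc, hb2⟩
        refine ⟨T.mul_mem ha hb, hac.mul_left hbc, ?_⟩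
        obtain ⟨i, e, he⟩ := hsol ⟨a, ha⟩ hac (Subtype.ext ha2)
        obtain ⟨j, f, hf⟩ := hsol ⟨b, hb⟩ hbc (Subtype.ext hb2)
        have hab' : Commute (⟨a, ha⟩ : T) ⟨b, hb⟩ := by
          rw [he, hf]
          exact (((Commute.refl z).zpow_zpow i j).mul_right ((hzy.zpow_left i).pow_right f)).mul_left
            ((((hzy.symm).zpow_right j).pow_left e).mul_right ((Commute.refl y).pow_pow e f))
        rw [Commute.mul_pow (congrArg Subtype.val hab'.eq : a * b = b * a), ha2, hb2, one_mul]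
      inv_mem' := by
        rintro a ⟨ha, hac, ha2⟩
        exact ⟨T.inv_mem ha, hac.inv_left, by rw [inv_pow, ha2, inv_one]⟩ }
  have hWn : W.Normal := ⟨by
    rintro w ⟨hw, hwc, hw2⟩ g
    refine ⟨hT.conj_mem w hw g, ?_, by rw [conj_pow, hw2, mul_one, mul_inv_cancel]⟩
    obtain ⟨i, hi⟩ := mem_zpowers_iff.1 (hAu _ (hAn.conj_mem _ huA g⁻¹) (hAT (hAn.conj_mem _ huA g⁻¹)))
    have hwi : Commute w ((g⁻¹ * (u : S) * g) ^ 2) := by
      have e := congrArg Subtype.val hi
      simp only [inv_inv, SubgroupClass.coe_zpow] at e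
      rw [← e, ← zpow_natCast, ← zpow_mul, mul_comm, zpow_mul, zpow_natCast]
      exact Commute.zpow_right (congrArg Subtype.val hwc.eq) i
    refine Subtype.ext ?_
    show g * w * g⁻¹ * (u : S) ^ 2 = (u : S) ^ 2 * (g * w * g⁻¹)
    calc g * w * g⁻¹ * (u : S) ^ 2 = g * (w * (g⁻¹ * (u : S) * g) ^ 2) * g⁻¹ := by simp only [pow_two]; group
      _ = g * ((g⁻¹ * (u : S) * g) ^ 2 * w) * g⁻¹ := by rw [hwi.eq]
      _ = (u : S) ^ 2 * (g * w * g⁻¹) := by simp only [pow_two]; group⟩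
  refine hyu ?_
  have e := hbig W hWn (fun w hw => hw.1) (fun w hw => hw.2.2) (y : S)
    ⟨y.2, hyu2, congrArg Subtype.val hy2⟩ (z : S)
    ⟨z.2, (Cfsg.Lib.CyclicNormal.commute_of_mem_zpowers hzu).pow_right 2, congrArg Subtype.val hz2⟩
    (fun e => hyu (by rw [show y = 1 from Subtype.ext e]; exact one_mem _))
    (fun e => hz1 (Subtype.ext e))
  exact (Subtype.ext e : y = z) ▸ hzu

end Cfsg.Lib.Fix4
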