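import Cfsg.Agent.Lib.Fix4.Setup
import Cfsg.Agent.S3390
import Cfsg.Prelude.Def_Involutions

/-!
# Involutions with at most three fixed points
-/

set_option autoImplicit false
set_option linter.unusedSectionVars false
set_option linter.style.haveILetI false

namespace Cfsg.Lib.Fix4

open MulAction Subgroup

universe u v

variable {G : Type u} {Ω : Type v} [Group G] [Finite G] [MulAction G Ω] [Finite Ω]

/-- A non-identity element of a 2-group has an involution among its powers. -/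
theorem exists_invol_pow {S : Subgroup G} (hS : IsPGroup 2 S) {y : G} (hy : y ∈ S) (hy1 : y ≠ 1) :
    ∃ k : ℕ, orderOf (y ^ k) = 2 := by
  haveI : Fact (Nat.Prime 2) := ⟨Nat.prime_two⟩
  obtain ⟨m, hm⟩ := hS ⟨y, hy⟩
  have hm : y ^ 2 ^ m = 1 := congrArg Subtype.val hm
  obtain ⟨j, -, hj⟩ := (Nat.dvd_prime_pow Nat.prime_two).1 (orderOf_dvd_of_pow_eq_one hm)
  rcases j with _ | j
  · exact absurd (orderOf_eq_one_iff.1 (by rw [hj, pow_zero])) hy1
  · refine ⟨2 ^ j, orderOf_eq_prime ?_ fun h => ?_⟩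
    · rw [← pow_mul, ← pow_succ, ← hj, pow_orderOf_eq_one]
    · have := Nat.le_of_dvd (pow_pos two_pos j) (hj ▸ orderOf_dvd_of_pow_eq_one h)
      rw [pow_succ] at this
      have := pow_pos (two_pos (α := ℕ)) j
      omega

/-- A subgroup acting faithfully on an invariant set embeds into its symmetric group. -/
theorem card_dvd_factorial {K : Subgroup G} {Δ : Set Ω} (hinv : ∀ k ∈ K, ∀ x ∈ Δ, k • x ∈ Δ)
    (h1 : ∀ k ∈ K, Δ ⊆ fixedBy Ω k → k = 1) : Nat.card K ∣ Δ.ncard.factorial := by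
  classical
  letI act : MulAction K Δ :=
    { smul := fun k x => ⟨(k : G) • x.1, hinv k k.2 x.1 x.2⟩
      one_smul := fun x => Subtype.ext (one_smul _ _)
      mul_smul := fun a b x => Subtype.ext (mul_smul _ _ _) }
  have hinj : Function.Injective (toPermHom K Δ) := by
    rw [injective_iff_map_eq_one]
    intro k hk
    refine Subtype.ext (h1 k k.2 fun x hx => ?_)
    exact congrArg Subtype.val (Equiv.ext_iff.1 hk ⟨x, hx⟩)
  rw [← Nat.card_coe_set_eq, ← Nat.card_perm]
  exact card_dvd_of_injective _ hinj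

variable [FaithfulSMul G Ω]

/-- The involutions of a Sylow subgroup having one fixed-point set give a strongly embedded subgroup. -/
theorem se_of_same (htr : IsPretransitive G Ω) (S : Sylow 2 G) {Δ : Set Ω} (hne : Δ.Nonempty) (h2 : 2 ∣ Nat.card G)
    (h : ∀ x ∈ (S : Subgroup G), orderOf x = 2 → fixedBy Ω x = Δ) : ∃ H : Subgroup G, Cfsg.IsStronglyEmbedded H := by
  haveI : Fact (Nat.Prime 2) := ⟨Nat.prime_two⟩
  obtain ⟨H, hH, hH2, hd⟩ := embedded_of_same htr S hne h2 h
  exact ⟨H, hH, even_iff_two_dvd.2 hH2, fun g hg =>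
    Nat.not_even_iff_odd.1 fun he => hd g hg (even_iff_two_dvd.1 he)⟩

/-- All involutions fixing one, two or three points. -/
theorem one_three (htr : IsPretransitive G Ω) (S : Sylow 2 G) {f : ℕ} (hf1 : 1 ≤ f) (hf3 : f ≤ 3)
    (hfix : ∀ g : G, orderOf g = 2 → (fixedBy Ω g).ncard = f) (h2 : 2 ∣ Nat.card G) :
    (∃ H : Subgroup G, Cfsg.IsStronglyEmbedded H) ∨
      ((∃ n : ℕ, Nonempty ((S : Subgroup G) ≃* DihedralGroup n)) ∨ Cfsg.IsQuasiDihedral (S : Subgroup G)) := by
  classical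
  haveI : Fact (Nat.Prime 2) := ⟨Nat.prime_two⟩
  have hS2 : 2 ∣ Nat.card (S : Subgroup G) := S.dvd_card_of_dvd_card h2
  haveI : Nontrivial (S : Subgroup G) := Finite.one_lt_card_iff_nontrivial.1
    (lt_of_lt_of_le one_lt_two (Nat.le_of_dvd Nat.card_pos hS2))
  obtain ⟨z, -, hzc, hzo⟩ := Cfsg.Lib.PGroup.exists_mem_center_orderOf_eq S.isPGroup'
    (show (⊤ : Subgroup (S : Subgroup G)) ≠ ⊥ from top_ne_bot)
  have hzo' : orderOf (z : G) = 2 := by rw [orderOf_coe, hzo]
  set Δ := fixedBy Ω (z : G) with hΔ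
  have hinv : ∀ k ∈ (S : Subgroup G), ∀ x ∈ Δ, k • x ∈ Δ := fun k hk x hx =>
    fix_comm (congrArg Subtype.val (Subgroup.mem_center_iff.1 hzc ⟨k, hk⟩) : k * z = z * k) hx
  have hne : Δ.Nonempty := Set.nonempty_of_ncard_ne_zero (by rw [hfix _ hzo']; omega)
  by_cases hall : ∀ x ∈ (S : Subgroup G), orderOf x = 2 → fixedBy Ω x = Δ
  · exact Or.inl (se_of_same htr S hne h2 hall)
  right
  push Not at hall
  obtain ⟨s, hs, hso, hsne⟩ := hall
  obtain ⟨d, hd, hdΔ⟩ := Set.not_subset.1 fun hle : fixedBy Ω s ⊆ Δ => hsne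
    (Set.eq_of_subset_of_ncard_le hle (by rw [hfix _ hso, hΔ, hfix _ hzo']) (Set.toFinite _))
  -- the stabilizer of `d` is faithful on `Δ`
  have hU : Nat.card (st (S : Subgroup G) d) ≤ 2 := by
    have hdvd := card_dvd_factorial (K := st (S : Subgroup G) d) (Δ := Δ) (fun k hk => hinv k hk.1) fun k hk hkΔ => by
      by_contra hk1
      obtain ⟨j, hj⟩ := exists_invol_pow S.isPGroup' hk.1 hk1
      have hsub : insert d Δ ⊆ fixedBy Ω (k ^ j) :=
        Set.insert_subset (fix_pow hk.2 j) fun x hx => fix_pow (hkΔ hx) j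
      have := Set.ncard_le_ncard hsub (Set.toFinite _)
      rw [Set.ncard_insert_of_notMem hdΔ, hΔ, hfix _ hzo', hfix _ hj] at this
      omega
    rw [hΔ, hfix _ hzo'] at hdvd
    obtain ⟨e, he⟩ := card_sub_pow S.isPGroup' (K := st (S : Subgroup G) d) inf_le_left
    rw [he] at hdvd ⊢
    have h4 : ¬ 4 ∣ f.factorial := by interval_cases f <;> decide
    have : e ≤ 1 := by
      by_contra hlt
      exact h4 ((show (4 : ℕ) = 2 ^ 2 by norm_num) ▸ (pow_dvd_pow 2 (by omega : 2 ≤ e)).trans hdvd)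
    calc 2 ^ e ≤ 2 ^ 1 := Nat.pow_le_pow_right two_pos this
      _ = 2 := pow_one 2
  have hC : Nat.card (cent (S : Subgroup G) s) ≤ 4 := by
    obtain ⟨o, ho1, ho, hod, hC⟩ := orbit_le (C := cent (S : Subgroup G) s) hd (cent_invariant s)
    rw [hfix _ hso] at ho
    obtain ⟨e, he⟩ := card_sub_pow S.isPGroup' (K := cent (S : Subgroup G) s) inf_le_left
    rw [he] at hod
    obtain ⟨i, -, rfl⟩ := (Nat.dvd_prime_pow Nat.prime_two).1 hod
    have hi : i ≤ 1 := by
      by_contra hlt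
      have : 2 ^ 2 ≤ 2 ^ i := Nat.pow_le_pow_right two_pos (by omega)
      omega
    rw [hC]
    refine le_trans (Nat.mul_le_mul (le_trans (Nat.pow_le_pow_right two_pos hi) (by norm_num) : 2 ^ i ≤ 2) (?_ : Nat.card (st (cent (S : Subgroup G) s) d) ≤ 2)) (by norm_num)
    refine le_trans (card_le_of_le ?_) hU
    exact fun x hx => ⟨hx.1.1, hx.2⟩
  refine Cfsg.Agent.S3390.dihedral_or_semidihedral S.isPGroup' (u := ⟨s, hs⟩) (t := z) (by rw [← orderOf_coe]; exact hso) hzo
    (fun e => hsne (by rw [hΔ, e])) (le_trans ?_ hC)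
  exact Nat.card_le_card_of_injective (fun c => (⟨c.1.1, mem_cent.2 ⟨c.1.2,
    congrArg Subtype.val (mem_centralizer_singleton_iff.1 c.2)⟩⟩ : cent (S : Subgroup G) s))
    fun a b e => Subtype.ext (Subtype.ext (congrArg (fun w : cent (S : Subgroup G) s => w.1) e))

end Cfsg.Lib.Fix4
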