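import Cfsg.Agent.Lib.Fix4.TwoRank

/-!
# A 2-group with a self-centralizing abelian subgroup of order sixteen of a special shape
-/

set_option autoImplicit false
set_option linter.unusedSectionVars false
set_option linter.style.haveILetI false

namespace Cfsg.Lib.Fix4

open Subgroup

universe u

variable {S : Type u} [Group S] [Finite S]

theorem comm_of_two {X : Subgroup S} (h2 : ∀ x ∈ X, x ^ 2 = 1) {a b : S} (ha : a ∈ X) (hb : b ∈ X) :
    Commute a b := by
  have hinv : ∀ a ∈ X, a⁻¹ = a := fun a ha => inv_eq_of_mul_eq_one_right (by rw [← pow_two]; exact h2 a ha)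
  show a * b = b * a
  rw [← hinv _ (X.mul_mem ha hb), mul_inv_rev, hinv a ha, hinv b hb]

theorem mem_normalizer_of_le {X : Subgroup S} {g : S} (h : ∀ x ∈ X, g * x * g⁻¹ ∈ X) :
    g ∈ normalizer (X : Set S) := by
  rw [mem_normalizer_iff_map_conj_eq]
  exact Subgroup.eq_of_le_of_card_ge (by rintro _ ⟨x, hx, rfl⟩; exact h x hx)
    (le_of_eq (card_map_of_injective (MulAut.conj g).injective).symm)

theorem conj_mem_of_normalizer {X : Subgroup S} {g x : S} (hg : g ∈ normalizer (X : Set S)) (hx : x ∈ X) :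
    g * x * g⁻¹ ∈ X := (mem_normalizer_iff.1 hg x).1 hx

theorem commute_of_sq {e x : S} (he : e ^ 2 = 1) (hx : x ^ 2 = 1) (hm : (e * x) ^ 2 = 1) : Commute e x := by
  have he' : e⁻¹ = e := inv_eq_of_mul_eq_one_right (by rw [← pow_two, he])
  have hx' : x⁻¹ = x := inv_eq_of_mul_eq_one_right (by rw [← pow_two, hx])
  have : (e * x)⁻¹ = e * x := inv_eq_of_mul_eq_one_right (by rw [← pow_two, hm])
  rw [mul_inv_rev, he', hx'] at this
  exact this.symm

variable (hS : IsPGroup 2 S)
include hS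

/-- An elementary abelian subgroup of order sixteen with a small normalizer. -/
theorem elem_sixteen (X : Subgroup S) (hX2 : ∀ x ∈ X, x ^ 2 = 1) (hX : Nat.card X = 16)
    (hM : Nat.card (normalizer (X : Set S)) ≤ 64)
    (hg : ∀ g ∈ normalizer (X : Set S), g ∉ X → Nat.card (X ⊓ centralizer ({g} : Set S) : Subgroup S) ≤ 4) :
    Cfsg.SectionalPRankLE 2 4 S := by
  classical
  haveI : Fact (Nat.Prime 2) := ⟨Nat.prime_two⟩
  haveI : Group.IsNilpotent S := hS.isNilpotent
  set M := normalizer (X : Set S) with hMdef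
  have hXM : X ≤ M := le_normalizer
  -- a second elementary subgroup of order sixteen
  have hinter : ∀ E : Subgroup S, (∀ e ∈ E, e ^ 2 = 1) → E ≤ M → ¬ E ≤ X →
      Nat.card (E ⊓ X : Subgroup S) ≤ 4 := by
    intro E hE2 hEM hEX
    obtain ⟨g, hgE, hgX⟩ := SetLike.not_le_iff_exists.1 hEX
    refine le_trans (card_le_of_le ?_) (hg g (hEM hgE) hgX)
    exact fun w hw => ⟨hw.2, mem_centralizer_singleton_iff.2 (comm_of_two hE2 hw.1 hgE)⟩
  have hwhole : ∀ E : Subgroup S, (∀ e ∈ E, e ^ 2 = 1) → E ≤ M → ¬ E ≤ X → Nat.card E = 16 →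
      (∀ e ∈ E, e ∉ X → X ⊓ centralizer ({e} : Set S) = E ⊓ X) ∧ Nat.card M = 64 ∧
        ∀ m ∈ M, ∃ e ∈ E, ∃ x ∈ X, m = e * x := by
    intro E hE2 hEM hEX hE16
    have h1 := card_mul_le (A := E) (B := X) (C := E ⊔ X) le_sup_left le_sup_right
    rw [hE16, hX] at h1
    have h2 := hinter E hE2 hEM hEX
    have h3 : Nat.card (E ⊔ X : Subgroup S) ≤ Nat.card M := card_le_of_le (sup_le hEM hXM)
    have h4 : Nat.card (E ⊓ X : Subgroup S) = 4 ∧ Nat.card (E ⊔ X : Subgroup S) = 64 := by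
      have h5 : 16 * 16 ≤ Nat.card (E ⊔ X : Subgroup S) * 4 := le_trans h1 (Nat.mul_le_mul_left _ h2)
      have h6 : Nat.card (E ⊔ X : Subgroup S) = 64 := by omega
      rw [h6] at h1
      exact ⟨by omega, h6⟩
    have hsup : E ⊔ X = M := Subgroup.eq_of_le_of_card_ge (sup_le hEM hXM) (by rw [h4.2]; exact hM)
    refine ⟨fun e he heX => (Subgroup.eq_of_le_of_card_ge ?_ ?_).symm, by rw [← hsup, h4.2], fun m hm => ?_⟩
    · exact fun w hw => ⟨hw.2, mem_centralizer_singleton_iff.2 (comm_of_two hE2 hw.1 he)⟩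
    · rw [h4.1]; exact hg e (hEM he) heX
    · rw [← hsup, ← SetLike.mem_coe, coe_mul_of_left_le_normalizer_right _ _ hEM, Set.mem_mul] at hm
      obtain ⟨e, he, x, hx, rfl⟩ := hm
      exact ⟨e, he, x, hx, rfl⟩
  have hinv : ∀ E : Subgroup S, (∀ e ∈ E, e ^ 2 = 1) → E ≤ M → ¬ E ≤ X → Nat.card E = 16 →
      ∀ m ∈ M, m ^ 2 = 1 → m ∈ X ∨ m ∈ E := by
    intro E hE2 hEM hEX hE16 m hm hm2
    obtain ⟨hF, -, hdec⟩ := hwhole E hE2 hEM hEX hE16
    obtain ⟨e, he, x, hx, rfl⟩ := hdec m hm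
    by_cases heX : e ∈ X
    · exact Or.inl (X.mul_mem heX hx)
    have hxe : x ∈ E ⊓ X := hF e he heX ▸
      ⟨hx, mem_centralizer_singleton_iff.2 (commute_of_sq (hE2 e he) (hX2 x hx) hm2).symm⟩
    exact Or.inr (E.mul_mem he hxe.1)
  have helem : ∀ E : Subgroup S, (∀ e ∈ E, e ^ 2 = 1) → E ≤ M → ¬ E ≤ X → Nat.card E = 16 →
      ∀ K : Subgroup S, (∀ k ∈ K, k ^ 2 = 1) → K ≤ M → K ≤ X ∨ K ≤ E := by
    intro E hE2 hEM hEX hE16 K hK2 hKM
    by_contra hne
    rw [not_or, SetLike.not_le_iff_exists, SetLike.not_le_iff_exists] at hne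
    obtain ⟨⟨b, hbK, hbX⟩, a, haK, haE⟩ := hne
    have haX := (hinv E hE2 hEM hEX hE16 a (hKM haK) (hK2 a haK)).resolve_right haE
    have hbE := (hinv E hE2 hEM hEX hE16 b (hKM hbK) (hK2 b hbK)).resolve_left hbX
    have hmem : a ∈ X ⊓ centralizer ({b} : Set S) :=
      ⟨haX, mem_centralizer_singleton_iff.2 (comm_of_two hK2 haK hbK)⟩
    rw [(hwhole E hE2 hEM hEX hE16).1 b hbE hbX] at hmem
    exact haE hmem.1
  by_cases hMtop : M = ⊤
  · -- order at most 64
    intro H N _ E _ hE2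
    by_contra hlt
    push Not at hlt
    set π := QuotientGroup.mk' N
    let L : Subgroup S := (E.comap π).map H.subtype
    let e := (E.comap π).equivMapOfInjective H.subtype H.subtype_injective
    let f : L →* E := (π.subgroupComap E).comp e.symm.toMonoidHom
    have hf : Function.Surjective f := by
      rintro ⟨y, hy⟩
      obtain ⟨x, rfl⟩ := QuotientGroup.mk'_surjective N y
      exact ⟨e ⟨x, hy⟩, Subtype.ext (congrArg (fun z : E.comap π => π z.1) (e.symm_apply_apply ⟨x, hy⟩))⟩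
    have hsq : ∀ x : L, f (x ^ 2) = 1 := fun x => by rw [map_pow]; exact Subtype.ext (hE2 _ (f x).2)
    have hLE := Subgroup.card_eq_card_quotient_mul_card_subgroup f.ker
    rw [Nat.card_congr (QuotientGroup.quotientKerEquivOfSurjective f hf).toEquiv] at hLE
    have hL64 : Nat.card L ≤ 64 := (Subgroup.card_le_card_group L).trans
      (le_trans (le_of_eq (by rw [hMtop, card_top])) hM)
    have hk3 : Nat.card f.ker ≤ 2 := by
      have h16 : (2 : ℕ) ^ 4 < Nat.card E := hlt
      by_contra hk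
      have : 17 * 3 ≤ Nat.card E * Nat.card f.ker := Nat.mul_le_mul h16 (by omega)
      obtain ⟨a, ha⟩ := IsPGroup.iff_card.1 (hS.to_subgroup L)
      have hLlt : Nat.card L = 64 := by
        rw [ha]
        refine pow_two_cases (b := 6) ⟨a, rfl⟩ (ha ▸ hL64) fun j hj e => ?_
        rw [ha, e] at hLE
        interval_cases j <;> omega
      rw [hLlt] at hLE
      have h17 : 17 ≤ Nat.card E := h16
      have hkle : Nat.card f.ker ≤ 3 := by
        by_contra h'
        have : 17 * 4 ≤ Nat.card E * Nat.card f.ker := Nat.mul_le_mul h17 (by omega)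
        omega
      obtain ⟨b, hb⟩ := IsPGroup.iff_card.1 ((hS.to_subgroup L).to_subgroup f.ker)
      have : Nat.card f.ker = 3 := by omega
      rw [this] at hb
      rcases b with _ | _ | b <;> simp [pow_succ] at hb
      omega
    have hcomm : ∀ g x : L, f (g * x * g⁻¹ * x⁻¹) = 1 := fun g x => by
      have h1 : f g * f x = f x * f g := by
        have hinv : ∀ q : E, q⁻¹ = q := fun q => inv_eq_of_mul_eq_one_right (Subtype.ext (by
          show (q : H ⧸ N) * q = 1
          rw [← pow_two]; exact hE2 _ q.2))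
        rw [← hinv (f g * f x), mul_inv_rev, hinv, hinv]
      rw [map_mul, map_mul, map_mul, map_inv, map_inv, h1, mul_inv_cancel_right, mul_inv_cancel]
    by_cases hbig : Nat.card L = 64
    · have hL : L = ⊤ := Subgroup.eq_top_of_card_eq L (le_antisymm (Subgroup.card_le_card_group L)
        (by rw [hbig]; exact le_trans (le_of_eq (by rw [hMtop, card_top])) hM))
      obtain ⟨g, hgX⟩ : ∃ g, g ∉ X := by
        by_contra hall
        push Not at hall
        have h1 := Subgroup.card_le_card_group L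
        rw [hbig, ← card_top (G := S), ← (eq_top_iff.2 fun x _ => hall x : X = ⊤), hX] at h1
        omega
      have hgM : g ∈ M := hMtop ▸ mem_top g
      let φ : X →* S := MonoidHom.mk' (fun x => g * x * g⁻¹ * (x : S)⁻¹) fun a b => by
        have hc : Commute (g * b * g⁻¹ * (b : S)⁻¹) (a : S) :=
          comm_of_two hX2 (X.mul_mem (conj_mem_of_normalizer hgM b.2) (X.inv_mem b.2)) a.2
        show g * (a * b : S) * g⁻¹ * (a * b : S)⁻¹ = _
        calc g * (a * b : S) * g⁻¹ * (a * b : S)⁻¹ = g * a * g⁻¹ * ((g * b * g⁻¹ * (b : S)⁻¹) * (a : S)⁻¹) := by group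
          _ = g * a * g⁻¹ * ((a : S)⁻¹ * (g * b * g⁻¹ * (b : S)⁻¹)) := by rw [hc.inv_right.eq]
          _ = _ := by group
      have h1 := card_map_inter φ ⊤
      rw [top_inf_eq, card_top, hX] at h1
      have h2 : Nat.card φ.ker ≤ 4 := by
        refine le_trans (Nat.card_le_card_of_injective (fun x => (⟨x.1.1, x.1.2,
          mem_centralizer_singleton_iff.2 ?_⟩ : (X ⊓ centralizer ({g} : Set S) : Subgroup S)))
          fun a b e => Subtype.ext (Subtype.ext (congrArg (fun w => w.1) e))) (hg g hgM hgX)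
        exact (mul_inv_eq_iff_eq_mul.1 (mul_inv_eq_one.1 x.2)).symm
      have h3 : Nat.card ((⊤ : Subgroup X).map φ) ≤ 2 := by
        refine le_trans (Nat.card_le_card_of_injective
          (fun w => (⟨⟨w.1, hL ▸ mem_top _⟩, ?_⟩ : f.ker))
          fun a b e => Subtype.ext (congrArg (fun v : f.ker => (v.1 : S)) e)) hk3
        obtain ⟨x, -, hx⟩ := w.2
        have he : (⟨w.1, hL ▸ mem_top _⟩ : L) =
            ⟨g, hL ▸ mem_top _⟩ * ⟨x.1, hL ▸ mem_top _⟩ * ⟨g, hL ▸ mem_top _⟩⁻¹ * ⟨x.1, hL ▸ mem_top _⟩⁻¹ :=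
          Subtype.ext hx.symm
        rw [MonoidHom.mem_ker, he]
        exact hcomm _ _
      have := Nat.mul_le_mul h3 h2
      omega
    · have hker : f.ker = ⊥ := by
        by_contra hne
        have h1 : 1 < Nat.card f.ker := (one_lt_card_iff_ne_bot _).2 hne
        obtain ⟨a, ha⟩ := IsPGroup.iff_card.1 (hS.to_subgroup L)
        have h2 : Nat.card f.ker = 2 := by omega
        rw [h2, ha] at hLE
        refine hbig ?_
        rw [ha]
        refine pow_two_cases (b := 6) ⟨a, rfl⟩ (ha ▸ hL64) fun j hj e => ?_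
        rw [e] at hLE
        interval_cases j <;> omega
      have hL2 : ∀ x ∈ L, x ^ 2 = 1 := fun x hx => by
        have : (⟨x, hx⟩ : L) ^ 2 ∈ f.ker := hsq _
        rw [hker, mem_bot] at this
        exact congrArg Subtype.val this
      rw [hker, card_bot, mul_one] at hLE
      have hLX : ¬ L ≤ X := fun hle => by
        have := card_le_of_le hle
        rw [hX, hLE] at this
        exact absurd this (by omega)
      have h1 := card_mul_le (A := L) (B := X) (C := ⊤) le_top le_top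
      have h2 := hinter L hL2 (hMtop ▸ le_top) hLX
      rw [card_top, hX, hLE] at h1
      have h3 : Nat.card S ≤ 64 := le_trans (le_of_eq (by rw [hMtop, card_top])) hM
      have h4 := Nat.mul_le_mul h3 h2
      omega
  -- the second subgroup
  have hlt : M < ⊤ := lt_top_iff_ne_top.2 hMtop
  obtain ⟨h, hhN, hhM⟩ := SetLike.exists_of_lt (normalizerCondition_of_isNilpotent M hlt)
  set E := X.map (MulAut.conj h).toMonoidHom with hE
  have hEmem : ∀ {x}, x ∈ X → h * x * h⁻¹ ∈ E := fun {x} hx => ⟨x, hx, rfl⟩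
  have hE2 : ∀ e ∈ E, e ^ 2 = 1 := by
    rintro _ ⟨x, hx, rfl⟩; rw [← map_pow, hX2 x hx, map_one]
  have hEM : E ≤ M := by
    rintro _ ⟨x, hx, rfl⟩; exact conj_mem_of_normalizer hhN (hXM hx)
  have hE16 : Nat.card E = 16 := by rw [hE, card_map_of_injective (MulAut.conj h).injective, hX]
  have hEX : ¬ E ≤ X := fun hle => hhM (mem_normalizer_of_le fun x hx => hle (hEmem hx))
  obtain ⟨hF, hM64, -⟩ := hwhole E hE2 hEM hEX hE16
  have hconjK : ∀ k ∈ normalizer (M : Set S), ∀ K : Subgroup S, K ≤ M → (∀ x ∈ K, x ^ 2 = 1) → Nat.card K = 16 →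
      K.map (MulAut.conj k).toMonoidHom = X ∨ K.map (MulAut.conj k).toMonoidHom = E := by
    intro k hk K hKM hK2 hK16
    have hc : Nat.card (K.map (MulAut.conj k).toMonoidHom) = 16 := by
      rw [card_map_of_injective (MulAut.conj k).injective, hK16]
    refine (helem E hE2 hEM hEX hE16 (K.map (MulAut.conj k).toMonoidHom) ?_ ?_).imp
      (fun hle => Subgroup.eq_of_le_of_card_ge hle (by rw [hX, hc]))
      (fun hle => Subgroup.eq_of_le_of_card_ge hle (by rw [hE16, hc]))
    · rintro _ ⟨x, hx, rfl⟩; rw [← map_pow, hK2 x hx, map_one]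
    · rintro _ ⟨x, hx, rfl⟩; exact conj_mem_of_normalizer hk (hKM hx)
  set M2 := normalizer (M : Set S)
  -- outside `M` the two subgroups are exchanged
  have hswap : ∀ k ∈ M2, k ∉ M → X.map (MulAut.conj k).toMonoidHom = E := fun k hk hkM =>
    (hconjK k hk X hXM hX2 hX).resolve_left fun e =>
      hkM (mem_normalizer_of_le fun x hx => e ▸ (⟨x, hx, rfl⟩ : k * x * k⁻¹ ∈ X.map (MulAut.conj k).toMonoidHom))
  have hidx : ∀ k ∈ M2, k ∉ M → h⁻¹ * k ∈ M := fun k hk hkM => mem_normalizer_of_le fun x hx => by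
    obtain ⟨y, hy, e⟩ : k * x * k⁻¹ ∈ E := hswap k hk hkM ▸ ⟨x, hx, rfl⟩
    have e : h * y * h⁻¹ = k * x * k⁻¹ := e
    rw [show h⁻¹ * k * x * (h⁻¹ * k)⁻¹ = h⁻¹ * (k * x * k⁻¹) * h by group, ← e,
      show h⁻¹ * (h * y * h⁻¹) * h = y by group]
    exact hy
  -- elementary subgroups of `M2` outside `M` are small
  have hout : ∀ K : Subgroup S, (∀ x ∈ K, x ^ 2 = 1) → K ≤ M2 → ¬ K ≤ M → Nat.card K ≤ 8 := by
    intro K hK2 hKM2 hKM
    obtain ⟨k, hkK, hkM⟩ := SetLike.not_le_iff_exists.1 hKM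
    have hsmall : Nat.card (K ⊓ M : Subgroup S) ≤ 4 := by
      refine le_trans (card_le_of_le fun w hw => ?_) (hinter E hE2 hEM hEX)
      have hfix : k * w * k⁻¹ = w := by rw [(comm_of_two hK2 hkK hw.1).eq, mul_inv_cancel_right]
      rcases hinv E hE2 hEM hEX hE16 w hw.2 (hK2 w hw.1) with hwX | hwE
      · refine ⟨?_, hwX⟩
        rw [← hfix, ← hswap k (hKM2 hkK) hkM]
        exact ⟨w, hwX, rfl⟩
      · refine ⟨hwE, ?_⟩
        rw [← hswap k (hKM2 hkK) hkM] at hwE
        obtain ⟨x, hx, e⟩ := hwE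
        have e : k * x * k⁻¹ = w := e
        rw [← hfix] at e
        exact mul_left_cancel (mul_right_cancel e) ▸ hx
    have hK' : Nat.card K ≤ 2 * Nat.card (K ⊓ M : Subgroup S) := by
      refine le_trans (Nat.card_le_card_of_injective
        (fun w : K => (if hw : (w : S) ∈ M then ((false, ⟨w.1, w.2, hw⟩) : Bool × (K ⊓ M : Subgroup S))
          else (true, ⟨k⁻¹ * w.1, K.mul_mem (K.inv_mem hkK) w.2, ?_⟩))) fun a b e => ?_) (le_of_eq ?_)
      · have h1 := hidx k (hKM2 hkK) hkM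
        have h2 := hidx w (hKM2 w.2) hw
        have := M.mul_mem (M.inv_mem h1) h2
        rwa [show (h⁻¹ * k)⁻¹ * (h⁻¹ * (w : S)) = k⁻¹ * w by group] at this
      · by_cases ha : (a : S) ∈ M <;> by_cases hb : (b : S) ∈ M <;> simp [ha, hb] at e
        · exact Subtype.ext (congrArg Subtype.val e :)
        · exact Subtype.ext (mul_left_cancel (congrArg Subtype.val e :))
      · rw [Nat.card_prod, Nat.card_eq_fintype_card (α := Bool), Fintype.card_bool]
    omega
  have hS2 : M2 = ⊤ := by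
    by_contra hne
    obtain ⟨k, hkN, hk⟩ := SetLike.exists_of_lt (normalizerCondition_of_isNilpotent M2 (lt_top_iff_ne_top.2 hne))
    refine hk (mem_normalizer_of_le fun m hm => ?_)
    -- both subgroups are mapped into `M`
    have hXk : ∀ K : Subgroup S, K ≤ M → (∀ x ∈ K, x ^ 2 = 1) → Nat.card K = 16 →
        K.map (MulAut.conj k).toMonoidHom ≤ M := by
      intro K hKM hK2 hK16
      by_contra hle
      have h8 := hout (K.map (MulAut.conj k).toMonoidHom)
        (by rintro _ ⟨x, hx, rfl⟩; rw [← map_pow, hK2 x hx, map_one])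
        (by rintro _ ⟨x, hx, rfl⟩; exact conj_mem_of_normalizer hkN (le_normalizer (hKM hx))) hle
      rw [card_map_of_injective (MulAut.conj k).injective, hK16] at h8
      omega
    obtain ⟨e, he, x, hx, rfl⟩ := (hwhole E hE2 hEM hEX hE16).2.2 m hm
    rw [show k * (e * x) * k⁻¹ = (k * e * k⁻¹) * (k * x * k⁻¹) by group]
    exact M.mul_mem (hXk E hEM hE2 hE16 ⟨e, he, rfl⟩) (hXk X hXM hX2 hX ⟨x, hx, rfl⟩)
  refine Cfsg.Agent.S0501.result hS fun A hAn _ hA2 => ?_
  have hAM : A ≤ M := by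
    intro e he
    refine by_contra fun heM => heM (mem_normalizer_of_le fun x hx => ?_)
    have he2 : e ∈ M2 := hS2 ▸ mem_top e
    have hmA : e * x * e⁻¹ * x⁻¹ ∈ A := by
      rw [show e * x * e⁻¹ * x⁻¹ = e * (x * e⁻¹ * x⁻¹) by group]
      exact A.mul_mem he (hAn.conj_mem _ (A.inv_mem he) x)
    have hmM : e * x * e⁻¹ * x⁻¹ ∈ M := M.mul_mem (conj_mem_of_normalizer he2 (hXM hx)) (M.inv_mem (hXM hx))
    -- the commutator is fixed by the exchange, hence lies in both
    have hfix : e * (e * x * e⁻¹ * x⁻¹) * e⁻¹ = e * x * e⁻¹ * x⁻¹ := by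
      rw [(comm_of_two hA2 he hmA).eq, mul_inv_cancel_right]
    have hmX : e * x * e⁻¹ * x⁻¹ ∈ X := by
      rcases hinv E hE2 hEM hEX hE16 _ hmM (hA2 _ hmA) with h' | h'
      · exact h'
      · rw [← hswap e he2 heM] at h'
        obtain ⟨y, hy, ey⟩ := h'
        have ey : e * y * e⁻¹ = e * x * e⁻¹ * x⁻¹ := ey
        conv_rhs at ey => rw [← hfix]
        exact mul_left_cancel (mul_right_cancel ey) ▸ hy
    have := X.mul_mem hmX hx
    rwa [inv_mul_cancel_right] at this
  have hkA : ∀ k, ∀ a ∈ A, k * a * k⁻¹ ∈ A := fun k a ha => hAn.conj_mem a ha k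
  refine le_trans (card_le_of_le fun a ha => ?_) (hinter E hE2 hEM hEX)
  have hh2 : h ∈ M2 := hhN
  rcases helem E hE2 hEM hEX hE16 A hA2 hAM with hAX | hAE
  · refine ⟨?_, hAX ha⟩
    have := hEmem (hAX (hkA h⁻¹ a ha))
    rwa [show h * (h⁻¹ * a * h⁻¹⁻¹) * h⁻¹ = a by group] at this
  · refine ⟨hAE ha, ?_⟩
    have := hAE (hkA h a ha)
    obtain ⟨y, hy, ey⟩ := this
    have ey : h * y * h⁻¹ = h * a * h⁻¹ := ey
    exact mul_left_cancel (mul_right_cancel ey) ▸ hy

theorem normalizer_top_of {N : Subgroup S} (h : ∀ g, (∀ x ∈ N, g * x * g⁻¹ ∈ N) → g ∈ N) : N = ⊤ := by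
  haveI : Fact (Nat.Prime 2) := ⟨Nat.prime_two⟩
  haveI : Group.IsNilpotent S := hS.isNilpotent
  by_contra hne
  obtain ⟨g, hgN, hg⟩ := SetLike.exists_of_lt (normalizerCondition_of_isNilpotent N (lt_top_iff_ne_top.2 hne))
  exact hg (h g fun x hx => conj_mem_of_normalizer hgN hx)

/-- A subgroup `P` of order four meeting no other conjugate, with `N = P × A` of order sixteen its centralizer. -/
theorem pair_sixteen (P A N : Subgroup S) (hP : Nat.card P = 4) (hA : Nat.card A = 4) (hN : Nat.card N = 16)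
    (hPN : P ≤ N) (hAN : A ≤ N) (hdisj : P ⊓ A = ⊥) (hcomm : ∀ p ∈ P, ∀ a ∈ A, Commute p a)
    (hTI : ∀ g : S, ∀ y ∈ P, y ≠ 1 → g * y * g⁻¹ ∈ P → g ∈ N) : Cfsg.SectionalPRankLE 2 4 S := by
  classical
  haveI : Fact (Nat.Prime 2) := ⟨Nat.prime_two⟩
  haveI hPc : IsMulCommutative P := IsPGroup.isMulCommutative_of_card_eq_prime_sq (p := 2) (by rw [hP]; norm_num)
  haveI hAc : IsMulCommutative A := IsPGroup.isMulCommutative_of_card_eq_prime_sq (p := 2) (by rw [hA]; norm_num)
  have hdec : ∀ n ∈ N, ∃ p ∈ P, ∃ a ∈ A, n = p * a := by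
    let j : P × A → N := fun x => ⟨x.1 * x.2, N.mul_mem (hPN x.1.2) (hAN x.2.2)⟩
    have hj : Function.Injective j := by
      rintro ⟨p, a⟩ ⟨p', a'⟩ e
      have e : (p : S) * a = p' * a' := congrArg Subtype.val e
      have h1 : (p' : S)⁻¹ * p ∈ P ⊓ A := ⟨P.mul_mem (P.inv_mem p'.2) p.2, by
        rw [show (p' : S)⁻¹ * p = a' * (a : S)⁻¹ by rw [eq_mul_inv_iff_mul_eq, mul_assoc, e, inv_mul_cancel_left]]
        exact A.mul_mem a'.2 (A.inv_mem a.2)⟩
      rw [hdisj, mem_bot, inv_mul_eq_one] at h1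
      obtain rfl : p' = p := Subtype.ext h1
      exact Prod.ext rfl (Subtype.ext (mul_left_cancel e))
    intro n hn
    obtain ⟨⟨p, a⟩, e⟩ := ((Nat.bijective_iff_injective_and_card j).2 ⟨hj, by rw [Nat.card_prod, hP, hA, hN]⟩).2 ⟨n, hn⟩
    exact ⟨p, p.2, a, a.2, (congrArg Subtype.val e).symm⟩
  have cP : ∀ {p q}, p ∈ P → q ∈ P → Commute p q := fun {p q} hp hq =>
    congrArg Subtype.val (hPc.is_comm.comm ⟨p, hp⟩ ⟨q, hq⟩)
  have cA : ∀ {p q}, p ∈ A → q ∈ A → Commute p q := fun {p q} hp hq =>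
    congrArg Subtype.val (hAc.is_comm.comm ⟨p, hp⟩ ⟨q, hq⟩)
  have cN : ∀ {m n}, m ∈ N → n ∈ N → Commute m n := by
    intro m n hm hn
    obtain ⟨p, hp, a, ha, rfl⟩ := hdec m hm
    obtain ⟨q, hq, b, hb, rfl⟩ := hdec n hn
    exact ((cP hp hq).mul_right (hcomm p hp b hb)).mul_left (((hcomm q hq a ha).symm).mul_right (cA ha hb))
  have hcent : ∀ g : S, ∀ y ∈ P, y ≠ 1 → Commute g y → g ∈ N := fun g y hy hy1 hg =>
    hTI g y hy hy1 (by rw [hg.eq, mul_inv_cancel_right]; exact hy)
  obtain ⟨s, hsP, hs⟩ := exists_order_prime (H := P) (p := 2) (by rw [hP]; norm_num)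
  have hs1 : s ≠ 1 := ne_one_of_prime Nat.prime_two hs
  let W : Subgroup S :=
    { carrier := {x | x ∈ N ∧ x ^ 2 = 1}
      one_mem' := ⟨N.one_mem, one_pow 2⟩
      mul_mem' := fun {a b} ha hb => ⟨N.mul_mem ha.1 hb.1, by rw [(cN ha.1 hb.1).mul_pow, ha.2, hb.2, one_mul]⟩
      inv_mem' := fun {a} ha => ⟨N.inv_mem ha.1, by rw [inv_pow, ha.2, inv_one]⟩ }
  have hWN : W ≤ N := fun x hx => hx.1
  obtain ⟨k, hk, hW⟩ := (Nat.dvd_prime_pow Nat.prime_two).1
    ((show (16 : ℕ) = 2 ^ 4 by norm_num) ▸ hN ▸ card_dvd_of_le hWN : Nat.card W ∣ 2 ^ 4)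
  by_cases hW4 : Nat.card W ≤ 4
  · refine few_involutions hS hs (le_trans (Nat.card_le_card_of_injective
      (fun x : {x : S // Commute x s ∧ x ^ 2 = 1} => (⟨x.1, hcent x.1 s hsP hs1 x.2.1, x.2.2⟩ : W))
      fun a b e => Subtype.ext (congrArg (fun w : W => w.1) e)) hW4)
  by_cases hP2 : ∀ p ∈ P, p ^ 2 = 1
  · by_cases hW16 : Nat.card W = 16
    · have hWe : W = N := Subgroup.eq_of_le_of_card_ge hWN (by rw [hN, hW16])
      have hN2 : ∀ x ∈ N, x ^ 2 = 1 := fun x hx => by rw [← hWe] at hx; exact hx.2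
      refine elem_sixteen hS N hN2 hN ?_ fun g hgM hgN => ?_
      · -- conjugates of `P` in `N` meet trivially
        set M := normalizer (N : Set S) with hMdef
        let Nm := N.subgroupOf M
        let j : (M ⧸ Nm) × {y : S // y ∈ P ∧ y ≠ 1} → {y : S // y ∈ N ∧ y ≠ 1} := fun x =>
          ⟨(x.1.out : S) * x.2.1 * (x.1.out : S)⁻¹, conj_mem_of_normalizer x.1.out.2 (hPN x.2.2.1),
            fun e => x.2.2.2 (conj_eq_one_iff.1 e)⟩
        have hj : Function.Injective j := by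
          rintro ⟨c, y⟩ ⟨c', y'⟩ e
          have e : (c.out : S) * y.1 * (c.out : S)⁻¹ = (c'.out : S) * y'.1 * (c'.out : S)⁻¹ := congrArg Subtype.val e
          have e' : ((c'.out : S)⁻¹ * c.out) * y.1 * ((c'.out : S)⁻¹ * c.out)⁻¹ = y'.1 := by
            rw [show ((c'.out : S)⁻¹ * c.out) * y.1 * ((c'.out : S)⁻¹ * c.out)⁻¹ =
              (c'.out : S)⁻¹ * ((c.out : S) * y.1 * (c.out : S)⁻¹) * c'.out by group, e]
            group
          have hm := hTI _ y.1 y.2.1 y.2.2 (by rw [e']; exact y'.2.1)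
          have hc : c' = c := by
            rw [← QuotientGroup.out_eq' c', ← QuotientGroup.out_eq' c, QuotientGroup.eq]
            exact mem_subgroupOf.2 hm
          subst hc
          exact Prod.ext rfl (Subtype.ext (mul_left_cancel (mul_right_cancel e)))
        have h1 := Nat.card_le_card_of_injective j hj
        have hnz : ∀ Q : Subgroup S, Nat.card {y : S // y ∈ Q ∧ y ≠ 1} = Nat.card Q - 1 := fun Q => by
          rw [show Nat.card {y : S // y ∈ Q ∧ y ≠ 1} = Nat.card ↥((Q : Set S) \ {1}) from rfl, Nat.card_coe_set_eq,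
            Set.ncard_sdiff_singleton_of_mem Q.one_mem, ← Nat.card_coe_set_eq]
          rfl
        rw [Nat.card_prod, hnz, hnz, hP, hN] at h1
        have h2 := Subgroup.card_eq_card_quotient_mul_card_subgroup Nm
        rw [Nat.card_congr (subgroupOfEquivOfLe (le_normalizer : N ≤ M)).toEquiv, hN] at h2
        obtain ⟨a, ha⟩ := IsPGroup.iff_card.1 (hS.to_subgroup M)
        have ha6 : a ≤ 6 := by
          by_contra hlt
          have : 2 ^ 7 ≤ Nat.card M := ha ▸ Nat.pow_le_pow_right two_pos (by omega)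
          omega
        rw [ha]
        exact le_trans (Nat.pow_le_pow_right two_pos ha6) (by norm_num)
      · have h1 := card_mul_le (A := N ⊓ centralizer ({g} : Set S)) (B := P) (C := N) inf_le_left hPN
        have h0 : N ⊓ centralizer ({g} : Set S) ⊓ P = ⊥ := (eq_bot_iff_forall _).2 fun y hy => by
          by_contra hy1
          exact hgN (hcent g y hy.2 hy1 (mem_centralizer_singleton_iff.1 hy.1.2).symm)
        rw [h0, card_bot, hP, hN, mul_one] at h1
        omega
    · have hW8 : Nat.card W = 8 := by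
        rw [hW] at hW4 hW16 ⊢
        interval_cases k <;> simp_all
      have htop : N = ⊤ := normalizer_top_of hS fun g hg => by
        set P' := P.map (MulAut.conj g).toMonoidHom with hP'
        have hP'W : P' ≤ W := by
          rintro _ ⟨y, hy, rfl⟩
          exact ⟨hg y (hPN hy), by rw [← map_pow, hP2 y hy, map_one]⟩
        have hne : P' ⊓ P ≠ ⊥ := fun h0 => by
          have h1 := card_mul_le (A := P') (B := P) hP'W (fun y hy => (⟨hPN hy, hP2 y hy⟩ : y ∈ W))
          rw [h0, card_bot, hP', card_map_of_injective (MulAut.conj g).injective, hP, hW8] at h1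
          omega
        obtain ⟨w, hw, hw1⟩ : ∃ w ∈ P' ⊓ P, w ≠ 1 := by
          by_contra hno
          push Not at hno
          exact hne ((eq_bot_iff_forall _).2 hno)
        obtain ⟨y, hy, rfl⟩ := hw.1
        exact hTI g y hy (fun e => hw1 (by rw [e, map_one])) hw.2
      exact small (by rw [← card_top, ← htop, hN])
  · push Not at hP2
    obtain ⟨p, hp, hp2⟩ := hP2
    -- the unique square of `N` is `s`
    have hA2 : ∀ a ∈ A, a ^ 2 = 1 := by
      by_contra hA2
      push Not at hA2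
      obtain ⟨a, ha, ha2⟩ := hA2
      refine hW4 ?_
      have hcyc : ∀ (Q : Subgroup S) (q : S), Nat.card Q = 4 → q ∈ Q → q ^ 2 ≠ 1 →
          ∀ x ∈ Q, x ^ 2 = 1 → x = 1 ∨ x = q ^ 2 := by
        intro Q q hQ hq hq2 x hx hx2
        have hq4 : q ^ 4 = 1 := by
          rw [← hQ]; exact congrArg Subtype.val (pow_card_eq_one' (x := (⟨q, hq⟩ : Q)))
        have ho : orderOf q = 2 ^ 2 := orderOf_eq_prime_pow (by simpa using hq2) (by simpa using hq4)
        have htop : zpowers q = Q := Subgroup.eq_of_le_of_card_ge (zpowers_le.2 hq) (by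
          rw [hQ, Nat.card_zpowers, ho]; norm_num)
        rw [← htop, ← mem_powers_iff_mem_zpowers] at hx
        obtain ⟨i, rfl⟩ := hx
        have hi : i % 4 = 0 ∨ i % 4 = 2 := by
          have : orderOf q ∣ i * 2 := orderOf_dvd_of_pow_eq_one (by rw [pow_mul]; exact hx2)
          rw [ho] at this
          omega
        show q ^ i = 1 ∨ q ^ i = q ^ 2
        rw [← pow_mod_orderOf, ho]
        rcases hi with e | e <;> norm_num [e]
      have hsub : ∀ w : W, ∃ i j : Bool, (w : S) = cond i (p ^ 2) 1 * cond j (a ^ 2) 1 := by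
        intro w
        obtain ⟨q, hq, b, hb, e⟩ := hdec w w.2.1
        have e2 : q ^ 2 * b ^ 2 = 1 := by rw [← (hcomm q hq b hb).mul_pow, ← e]; exact w.2.2
        have hmem : q ^ 2 ∈ P ⊓ A := ⟨P.pow_mem hq 2, eq_inv_of_mul_eq_one_left e2 ▸ A.inv_mem (A.pow_mem hb 2)⟩
        rw [hdisj, mem_bot] at hmem
        rw [hmem, one_mul] at e2
        rcases hcyc P p hP hp hp2 q hq hmem with rfl | rfl <;> rcases hcyc A a hA ha ha2 b hb e2 with rfl | rfl
        exacts [⟨false, false, e⟩, ⟨false, true, e⟩, ⟨true, false, e⟩, ⟨true, true, e⟩]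
      choose i j hij using hsub
      refine le_trans (Nat.card_le_card_of_injective (fun w => (i w, j w)) fun a b e => Subtype.ext ?_)
        (le_of_eq (by rw [Nat.card_prod, Nat.card_eq_fintype_card (α := Bool), Fintype.card_bool]))
      simp only [Prod.mk.injEq] at e
      rw [hij a, hij b, e.1, e.2]
    have hsq : ∀ n ∈ N, n ^ 2 ∈ P := fun n hn => by
      obtain ⟨q, hq, b, hb, rfl⟩ := hdec n hn
      rw [(hcomm q hq b hb).mul_pow, hA2 b hb, mul_one]
      exact P.pow_mem hq 2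
    have htop : N = ⊤ := normalizer_top_of hS fun g hg => hTI g _ (P.pow_mem hp 2) hp2 (by
      rw [← conj_pow]; exact hsq _ (hg p (hPN hp)))
    exact small (by rw [← card_top, ← htop, hN])

end Cfsg.Lib.Fix4
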