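import Cfsg.Agent.Lib.Fix4.Basic
import Cfsg.Agent.Lib.Fix4.NoFours
import Cfsg.Agent.Lib.Fix4.Sixteen

/-!
# Parity of fixed-point numbers and criteria stated for subgroups
-/

set_option autoImplicit false
set_option linter.unusedSectionVars false
set_option linter.style.haveILetI false

namespace Cfsg.Lib.Fix4

open MulAction Subgroup

universe u v

/-- Each permutation of a non-abelian simple group is even. -/
theorem sign_eq_one {G : Type u} {Ω : Type v} [Group G] [IsSimpleGroup G] [MulAction G Ω] [Fintype Ω] [DecidableEq Ω]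
    (hna : ¬ IsMulCommutative G) (g : G) : Equiv.Perm.sign (toPermHom G Ω g) = 1 := by
  set f : G →* ℤˣ := Equiv.Perm.sign.comp (toPermHom G Ω) with hf
  rcases (Subgroup.Normal.eq_bot_or_eq_top (inferInstance : f.ker.Normal)) with h | h
  · refine absurd ⟨⟨fun a b => ?_⟩⟩ hna
    exact (MonoidHom.ker_eq_bot_iff f).1 h (by rw [map_mul, map_mul, mul_comm])
  · exact MonoidHom.mem_ker.1 (h.symm ▸ mem_top g : g ∈ f.ker)

/-- The fixed-point number of an involution is congruent to the degree modulo four. -/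
theorem fix_four {G : Type u} {Ω : Type v} [Group G] [IsSimpleGroup G] [MulAction G Ω] [Finite Ω]
    (hna : ¬ IsMulCommutative G) {g : G} (hg : g ^ 2 = 1) :
    Nat.card Ω % 4 = (fixedBy Ω g).ncard % 4 := by
  classical
  letI := Fintype.ofFinite Ω
  set σ := toPermHom G Ω g with hσ
  have h2 : σ ^ 2 = 1 := by rw [hσ, ← map_pow, hg, map_one]
  have hall : ∀ l ∈ σ.cycleType, l = 2 := fun l hl => by
    have h1 := Equiv.Perm.dvd_of_mem_cycleType hl
    have h3 := Equiv.Perm.two_le_of_mem_cycleType hl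
    have := Nat.le_of_dvd two_pos (h1.trans (orderOf_dvd_of_pow_eq_one h2))
    omega
  have hsum : σ.support.card = 2 * Multiset.card σ.cycleType := by
    rw [← Equiv.Perm.sum_cycleType, Multiset.eq_replicate_of_mem hall, Multiset.sum_replicate, Multiset.card_replicate,
      smul_eq_mul, mul_comm]
  have hsign := sign_eq_one (Ω := Ω) hna g
  rw [← hσ, Equiv.Perm.sign_of_cycleType, Equiv.Perm.sum_cycleType, hsum] at hsign
  have heven : Even (Multiset.card σ.cycleType) := by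
    by_contra hodd
    rw [Odd.neg_one_pow (Nat.not_even_iff_odd.1 (fun h => hodd ((Nat.even_add.1 h).1 (even_two_mul _))))] at hsign
    exact absurd hsign (by decide)
  have hfix : (fixedBy Ω g).ncard + σ.support.card = Nat.card Ω := by
    rw [Nat.card_eq_fintype_card, Set.ncard_eq_toFinset_card', ← Finset.card_compl_add_card σ.support]
    congr 2
    ext x
    simp [hσ]
  obtain ⟨m, hm⟩ := heven
  omega

/-- In a transitive action, a stabilizer of even order gives an involution fixing any given point. -/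
theorem exists_invol_fix {G : Type u} {Ω : Type v} [Group G] [Finite G] [MulAction G Ω]
    [Finite Ω] (htr : IsPretransitive G Ω)
    {a : Ω} (h : 2 ∣ Nat.card (stabilizer G a)) (b : Ω) : ∃ g : G, orderOf g = 2 ∧ b ∈ fixedBy Ω g := by
  haveI : Fact (Nat.Prime 2) := ⟨Nat.prime_two⟩
  haveI := htr
  obtain ⟨x, hx, hxo⟩ := exists_order_prime h
  obtain ⟨g, rfl⟩ := exists_smul_eq G a b
  exact ⟨g * x * g⁻¹, by rw [← hxo]; exact (MulAut.conj g).orderOf_eq x, mem_conj.2 (by simpa using hx)⟩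

/-! ### Criteria inside a subgroup -/

variable {G : Type u} [Group G] [Finite G] {S : Subgroup G} (hS : IsPGroup 2 S)
include hS

theorem card_sub_pow {K : Subgroup G} (hK : K ≤ S) : ∃ k, Nat.card K = 2 ^ k := by
  haveI : Fact (Nat.Prime 2) := ⟨Nat.prime_two⟩
  exact IsPGroup.iff_card.1 (hS.to_le hK)

theorem sub_cent_eight {s : G} (hsS : s ∈ S) (hs : orderOf s = 2) (h : Nat.card (cent S s) ≤ 8) :
    Cfsg.SectionalPRankLE 2 4 S := by
  refine cent_eight hS (s := ⟨s, hsS⟩) (by rw [← orderOf_coe]; exact hs) (le_trans ?_ h)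
  exact Nat.card_le_card_of_injective (fun c => (⟨c.1.1, mem_cent.2 ⟨c.1.2,
    congrArg Subtype.val (mem_centralizer_singleton_iff.1 c.2)⟩⟩ : cent S s))
    fun a b e => Subtype.ext (Subtype.ext (congrArg (fun w : cent S s => w.1) e))

theorem sub_few {s : G} (hsS : s ∈ S) (hs : orderOf s = 2)
    (h : Nat.card {x : G // x ∈ S ∧ Commute x s ∧ x ^ 2 = 1} ≤ 4) : Cfsg.SectionalPRankLE 2 4 S := by
  refine few_involutions hS (s := ⟨s, hsS⟩) (by rw [← orderOf_coe]; exact hs) (le_trans ?_ h)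
  exact Nat.card_le_card_of_injective (fun x => (⟨x.1.1, x.1.2, congrArg Subtype.val x.2.1.eq,
    congrArg Subtype.val x.2.2⟩ : {x : G // x ∈ S ∧ Commute x s ∧ x ^ 2 = 1}))
    fun a b e => Subtype.ext (Subtype.ext (congrArg (fun w => w.1) e))

theorem sub_self_eight {A : Subgroup G} (hA : A ≤ S) (h2 : ∀ a ∈ A, a ^ 2 = 1) (hcard : Nat.card A = 8)
    (hC : ∀ g ∈ S, (∀ a ∈ A, Commute g a) → g ∈ A) : Cfsg.SectionalPRankLE 2 4 S := by
  refine self_eight hS (A := A.subgroupOf S) (fun a ha => Subtype.ext (h2 _ ha))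
    (by rw [Nat.card_congr (subgroupOfEquivOfLe hA).toEquiv, hcard]) fun g hg => ?_
  exact hC g g.2 fun a ha => congrArg Subtype.val (hg ⟨a, hA ha⟩ ha).eq

theorem sub_self_four {A : Subgroup G} (hA : A ≤ S) (hcard : Nat.card A = 4)
    (hC : ∀ g ∈ S, (∀ a ∈ A, Commute g a) → g ∈ A) : Cfsg.SectionalPRankLE 2 4 S := by
  haveI : Fact (Nat.Prime 2) := ⟨Nat.prime_two⟩
  have hc : Nat.card (A.subgroupOf S) = 4 := by rw [Nat.card_congr (subgroupOfEquivOfLe hA).toEquiv, hcard]
  haveI : IsMulCommutative (A.subgroupOf S) :=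
    IsPGroup.isMulCommutative_of_card_eq_prime_sq (p := 2) (by rw [hc]; norm_num)
  refine self_four hS hc (le_antisymm (fun g hg => ?_) (le_centralizer _))
  exact hC g g.2 fun a ha => congrArg Subtype.val (mem_centralizer_iff.1 hg ⟨a, hA ha⟩ ha).symm

omit hS in
theorem sub_cyclic_index {V : Subgroup G} (hV : V ≤ S) (hc : IsCyclic V) (hi : Nat.card S ≤ 8 * Nat.card V) :
    Cfsg.SectionalPRankLE 2 4 S := by
  refine cyclic_index (V.subgroupOf S)
    (isCyclic_of_surjective (subgroupOfEquivOfLe hV).symm.toMonoidHom (subgroupOfEquivOfLe hV).symm.surjective) ?_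
  have h1 := (V.subgroupOf S).card_mul_index
  rw [Nat.card_congr (subgroupOfEquivOfLe hV).toEquiv] at h1
  exact Nat.le_of_mul_le_mul_left (by rw [h1, mul_comm]; exact hi) Nat.card_pos

theorem sub_pair_sixteen (P A N : Subgroup G) (hNS : N ≤ S) (hP : Nat.card P = 4) (hA : Nat.card A = 4)
    (hN : Nat.card N = 16) (hPN : P ≤ N) (hAN : A ≤ N) (hdisj : P ⊓ A = ⊥)
    (hcomm : ∀ p ∈ P, ∀ a ∈ A, Commute p a)
    (hTI : ∀ g ∈ S, ∀ y ∈ P, y ≠ 1 → g * y * g⁻¹ ∈ P → g ∈ N) : Cfsg.SectionalPRankLE 2 4 S := by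
  refine pair_sixteen hS (P.subgroupOf S) (A.subgroupOf S) (N.subgroupOf S)
    (by rw [Nat.card_congr (subgroupOfEquivOfLe (hPN.trans hNS)).toEquiv, hP])
    (by rw [Nat.card_congr (subgroupOfEquivOfLe (hAN.trans hNS)).toEquiv, hA])
    (by rw [Nat.card_congr (subgroupOfEquivOfLe hNS).toEquiv, hN]) (fun x hx => hPN hx) (fun x hx => hAN hx) ?_ ?_ ?_
  · refine (eq_bot_iff_forall _).2 fun x hx => Subtype.ext ?_
    have h : (x : G) ∈ P ⊓ A := hx
    rw [hdisj] at h
    exact h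
  · exact fun p hp a ha => Subtype.ext (hcomm _ hp _ ha).eq
  · exact fun g y hy hy1 h => hTI g g.2 y hy (fun e => hy1 (Subtype.ext e)) h

/-- A normal subgroup of index at most four without invariant four-subgroups. -/
theorem sub_no_fours {T : Subgroup G} (hT : T ≤ S) (hn : ∀ g ∈ S, ∀ t ∈ T, g * t * g⁻¹ ∈ T)
    (hi : Nat.card S ≤ 4 * Nat.card T)
    (h : ∀ W : Subgroup G, W ≤ T → (∀ g ∈ S, ∀ w ∈ W, g * w * g⁻¹ ∈ W) → Nat.card W = 4 →
      (∀ w ∈ W, w ^ 2 = 1) → False) : Cfsg.SectionalPRankLE 2 4 S := by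
  haveI : (T.subgroupOf S).Normal := ⟨fun t ht g => hn g g.2 t ht⟩
  obtain ⟨V, hV, hVi⟩ := cyclic_of_no_fours hS (T.subgroupOf S) fun W hWn hWT hW4 hW2 => by
    refine h (W.map S.subtype) ?_ ?_ ?_ ?_
    · rintro _ ⟨w, hw, rfl⟩; exact hWT hw
    · rintro g hg _ ⟨w, hw, rfl⟩; exact ⟨_, hWn.conj_mem w hw ⟨g, hg⟩, rfl⟩
    · rw [card_map_of_injective S.subtype_injective, hW4]
    · rintro _ ⟨w, hw, rfl⟩; exact congrArg Subtype.val (hW2 w hw)
  refine cyclic_index V hV (hVi.trans ?_)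
  have h1 := (T.subgroupOf S).card_mul_index
  rw [Nat.card_congr (subgroupOfEquivOfLe hT).toEquiv] at h1
  have : (T.subgroupOf S).index ≤ 4 := Nat.le_of_mul_le_mul_left (by rw [h1, mul_comm]; exact hi) Nat.card_pos
  omega

end Cfsg.Lib.Fix4
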