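import Cfsg.Agent.Lib.Fix4.Four

/-!
# The largest stabilizer does not fix the four points of its central involution: a further fixed point
-/

set_option autoImplicit false
set_option linter.unusedSectionVars false
set_option linter.style.haveILetI false

namespace Cfsg.Lib.Fix4

open MulAction Subgroup
open scoped Pointwise

universe u v

variable {G : Type u} {Ω : Type v} [Group G] [Finite G] [MulAction G Ω] [Finite Ω] {S : Subgroup G}

/-- The largest stabilizer `st S a` fixes `a` and `b` and exchanges the other two fixed points of its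
central involution `t`. -/
structure Swap {G : Type u} {Ω : Type v} [Group G] [MulAction G Ω] (S : Subgroup G) (a b c c' : Ω) (t : G) :
    Prop where
  base : Four Ω S
  mem : t ∈ st S a
  ord : orderOf t = 2
  centre : ∀ y ∈ st S a, Commute y t
  fix : fixedBy Ω t = {a, b, c, c'}
  top : ∀ d : Ω, Nat.card (st S d) ≤ Nat.card (st S a)
  fix_b : ∀ y ∈ st S a, y • b = b
  moved : ∃ y ∈ st S a, y • c ≠ c
  ab : a ≠ b
  ac : a ≠ c
  ac' : a ≠ c'
  bc : b ≠ c
  bc' : b ≠ c'
  cc' : c ≠ c'

namespace Swap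

variable {a b c c' : Ω} {t : G} (A : Swap S a b c c' t)
include A

theorem t_ne : t ≠ 1 := ne_one_of_prime Nat.prime_two A.ord

theorem inv : ∀ y ∈ st S a, ∀ x ∈ ({a, b, c, c'} : Set Ω), y • x ∈ ({a, b, c, c'} : Set Ω) := fun y hy x hx => by
  rw [← A.fix] at hx ⊢
  exact fix_comm (A.centre y hy) hx

theorem ncard_four : ({a, b, c, c'} : Set Ω).ncard = 4 := by
  rw [Set.ncard_insert_of_notMem (by simp [A.ab, A.ac, A.ac']),
    Set.ncard_insert_of_notMem (by simp [A.bc, A.bc']), Set.ncard_pair A.cc']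

theorem st_b : st S b = st S a := by
  have h : st S a ≤ st S b := fun y hy => ⟨hy.1, A.fix_b y hy⟩
  exact (eq_of_le_of_card_ge h (A.top b)).symm

theorem all_fix {y : G} (hy : y ∈ st S a) (hc : y • c = c) :
    ({a, b, c, c'} : Set Ω) ⊆ fixedBy Ω y := by
  intro x hx
  rcases hx with rfl | rfl | rfl | rfl
  · exact hy.2
  · exact A.fix_b y hy
  · exact hc
  · by_contra hne
    exact A.cc' ((hc.symm.trans (swap_two (c := x) (c' := c) (fun z hz => by
      have := A.inv y hy z (by simp only [Set.mem_insert_iff, Set.mem_singleton_iff] at hz ⊢; tauto)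
      simp only [Set.mem_insert_iff, Set.mem_singleton_iff] at this ⊢; tauto)
      A.ac' A.bc' A.ac A.bc A.cc'.symm hy.2 (A.fix_b y hy) hne).2))

theorem kernel_card : Nat.card (st (st S a) c) * 2 = Nat.card (st S a) := by
  have h1 := st_bound (C := st S a) (d := c) (Δ := ({c, c'} : Set Ω)) (by simp) fun y hy x hx => by
    by_cases hc : y • c = c
    · rw [show y • x = x from A.all_fix hy hc (by rcases hx with rfl | rfl <;> simp)]
      exact hx
    · obtain ⟨h1, h2⟩ := swap_two (A.inv y hy) A.ac A.bc A.ac' A.bc' A.cc' hy.2 (A.fix_b y hy) hc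
      rcases hx with rfl | rfl
      · simp [h1]
      · simp [h2]
  rw [Set.ncard_pair A.cc'] at h1
  obtain ⟨y, hy, hyc⟩ := A.moved
  have h2 : 2 * Nat.card (st (st S a) c) ≤ Nat.card (st S a) :=
    card_le_half inf_le_left fun e => hyc (e.ge hy).2
  omega

theorem t_kernel : t ∈ st (st S a) c := ⟨A.mem, (A.fix.ge (by simp) : c ∈ fixedBy Ω t)⟩

/-- Some element of the largest stabilizer fixes a fifth point. -/
theorem extra_point {e : Ω} (he : e ∉ ({a, b, c, c'} : Set Ω)) {s : G} (hs : s ∈ st S a) (hs1 : s ≠ 1)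
    (hse : s • e = e) : False := by
  classical
  have F := A.base
  have hTe : Nat.card (st (st S a) e) ≤ 2 := by
    have h1 := card_mul_le (A := st (st S a) e) (B := st (st S a) c) (C := st S a) inf_le_left inf_le_left
    have h0 : (st (st S a) e ⊓ st (st S a) c : Subgroup G) = ⊥ := (eq_bot_iff_forall _).2 fun y hy =>
      eq_one_of_five F.fixity (A.all_fix hy.2.1 hy.2.2) A.ncard_four.ge hy.1.2 he
    rw [h0, card_bot, mul_one, ← A.kernel_card] at h1
    exact Nat.le_of_mul_le_mul_right (le_of_le_of_eq h1 (mul_comm _ 2)) Nat.card_pos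
  have hsmem : s ∈ st (st S a) e := ⟨hs, hse⟩
  have hTe' : ∀ {x : G}, x ∈ st S a → x • e = e → x = 1 ∨ x = s := fun hx hxe =>
    two_of_card hTe hsmem hs1 ⟨hx, hxe⟩
  have hs2 : s ^ 2 = 1 := (hTe' (pow_mem hs 2) (fix_pow (hse : e ∈ fixedBy Ω s) 2)).resolve_right fun h =>
    hs1 (by rw [pow_two] at h; exact mul_eq_right.1 h)
  have hso : orderOf s = 2 := orderOf_eq_prime (hp := ⟨Nat.prime_two⟩) hs2 hs1
  have hst : s ≠ t := fun h => he (A.fix.le (h ▸ hse : e ∈ fixedBy Ω t))
  have hcs : Commute s t := A.centre s hs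
  have hD4 : (fixedBy Ω s).ncard = 4 := F.inv s hso e hse
  have hae : a ≠ e := fun h => he (by simp [← h])
  have hbe : b ≠ e := fun h => he (by simp [← h])
  obtain ⟨e', hea', heb', hee', hD⟩ := fourth hD4 (show a ∈ fixedBy Ω s from hs.2) (A.fix_b s hs) hse A.ab hae hbe
  set C := cent S s with hC
  have hCinv : ∀ g ∈ C, ∀ x ∈ fixedBy Ω s, g • x ∈ fixedBy Ω s := cent_invariant s
  set X := st C a with hX
  have hXT : ∀ {x : G}, x ∈ X → x ∈ st S a := fun hx => ⟨hx.1.1, hx.2⟩
  have hXswap : ∀ x ∈ X, ∀ z ∈ ({e, e'} : Set Ω), x • z ∈ ({e, e'} : Set Ω) := by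
    intro x hx z hz
    have hz' : z ∈ fixedBy Ω s := hD ▸ (by rcases hz with rfl | rfl <;> simp)
    rcases hD.le (hCinv x hx.1 z hz') with h | h | h | h
    · have := smul_left_cancel x (h.trans (show x • a = a from hx.2).symm)
      rcases hz with rfl | rfl
      exacts [absurd this.symm hae, absurd this hea']
    · have := smul_left_cancel x (h.trans (A.fix_b x (hXT hx)).symm)
      rcases hz with rfl | rfl
      exacts [absurd this.symm hbe, absurd this heb']
    · exact Or.inl h
    · exact Or.inr h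
  have hX4 : Nat.card X ≤ 4 := by
    refine (st_bound (C := X) (d := e) (by simp) hXswap).trans ?_
    rw [Set.ncard_pair hee'.symm]
    have hle : st X e ≤ st (st S a) e := fun x hx => ⟨hXT hx.1, hx.2⟩
    exact le_trans (Nat.mul_le_mul_left 2 ((card_le_of_le hle).trans hTe)) (by norm_num)
  have hC1 : Nat.card C ≤ 4 * Nat.card X := by
    have := st_bound (C := C) (d := a) (Δ := fixedBy Ω s) hs.2 hCinv
    rwa [hD4] at this
  have hC8 := F.not_cent_eight hs.1 hso
  change ¬ Nat.card C ≤ 8 at hC8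
  have hC16 : Nat.card C = 16 := card_eq_of_pow (K := C) (b := 4) F.two inf_le_left (by omega) (by omega)
  have hX4' : Nat.card X = 4 := by omega
  have htX : t ∈ X := ⟨mem_cent.2 ⟨A.mem.1, hcs.symm⟩, A.mem.2⟩
  have hsX : s ∈ X := ⟨mem_cent.2 ⟨hs.1, Commute.refl s⟩, hs.2⟩
  have hte : t • e = e' := by
    rcases hXswap t htX e (by simp) with h | h
    · exact absurd (A.fix.le (show e ∈ fixedBy Ω t from h)) he
    · exact h
  have he'Δ : e' ∉ ({a, b, c, c'} : Set Ω) := fun h => hee' (smul_left_cancel t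
    ((show t • e' = e' from A.fix.ge h).trans hte.symm))
  have hXlist : ∀ x ∈ X, x = 1 ∨ x = s ∨ x = t ∨ x = s * t := fun x hx => by
    have := mem_of_card_le (K := X) (s := {1, s, t, s * t}) (fun y hy => by
      simp only [Finset.mem_insert, Finset.mem_singleton] at hy
      rcases hy with rfl | rfl | rfl | rfl
      exacts [one_mem _, hsX, htX, mul_mem hsX htX]) (by
      have h1 : s * t ≠ 1 := fun h => hst (by
        rw [← mul_one s, ← (show t * t = 1 by rw [← pow_two, ← A.ord, pow_orderOf_eq_one]), ← mul_assoc, h, one_mul])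
      rw [Finset.card_insert_of_notMem (by simp [hs1.symm, A.t_ne.symm, h1.symm]),
        Finset.card_insert_of_notMem (by simp [hst, A.t_ne]),
        Finset.card_pair (fun h => hs1 (mul_eq_right.1 h.symm)), hX4']) hx
    simpa using this
  obtain ⟨k, hkC, hka⟩ := trans_of_card (C := C) (d := a) (Δ := fixedBy Ω s) hs.2 hCinv (by rw [hD4, ← hX, hX4', hC16])
    (show e ∈ fixedBy Ω s from hse)
  set p := k * t * k⁻¹ with hp
  have hpC : p ∈ C := C.mul_mem (C.mul_mem hkC htX.1) (C.inv_mem hkC)
  have hpx : ∀ {x : Ω}, t • x = x → p • (k • x) = k • x := fun {x} hx => by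
    rw [hp, mul_smul, inv_smul_smul, mul_smul, hx]
  have hpe : p • e = e := hka ▸ hpx A.mem.2
  have hpne : p ≠ 1 := fun h => A.t_ne (conj_eq_one_iff.1 h)
  have hps : p ≠ s := fun h => hst (mul_left_cancel (a := k) (mul_right_cancel (b := k⁻¹)
    ((mul_inv_eq_iff_eq_mul.2 (mem_cent.1 hkC).2.eq).trans h.symm)))
  have hpa : p • a ≠ a := fun h => (hTe' ⟨hpC.1, h⟩ hpe).elim hpne hps
  have hkb : k • b = e' := by
    have h := A.fix_b t A.mem
    rcases hD.le (hCinv k hkC b (A.fix_b s hs)) with h' | h' | h' | h'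
    · exact absurd (h' ▸ hpx h : p • a = a) hpa
    · have : p ∈ st S a := A.st_b ▸ (⟨hpC.1, (h' ▸ hpx h : p • b = b)⟩ : p ∈ st S b)
      exact absurd this.2 hpa
    · exact absurd (smul_left_cancel k (h'.trans hka.symm)) A.ab.symm
    · exact h'
  have hpe' : p • e' = e' := hkb ▸ hpx (A.fix_b t A.mem)
  have hpab : p • a = b := by
    rcases hD.le (hCinv p hpC a hs.2) with h | h | h | h
    · exact absurd h hpa
    · exact h
    · exact absurd (smul_left_cancel p (h.trans hpe.symm)) hae
    · exact absurd (smul_left_cancel p (h.trans hpe'.symm)) hea'.symm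
  -- the stabilizer of the pair in the centralizer
  set E := C ⊓ stabilizer G ({a, b} : Set Ω) with hE
  have hXE : X ≤ E := fun x hx => ⟨hx.1, stab_of_maps fun z hz => by
    rcases hz with rfl | rfl
    · exact Or.inl hx.2
    · exact Or.inr (A.fix_b x (hXT hx))⟩
  have hEa : ∀ g ∈ E, g ∈ X ∨ p⁻¹ * g ∈ X := fun g hg => by
    rcases stab_smul_mem hg.2 (show a ∈ ({a, b} : Set Ω) by simp) with h | h
    · exact Or.inl ⟨hg.1, h⟩
    · exact Or.inr ⟨C.mul_mem (C.inv_mem hpC) hg.1, by
        show (p⁻¹ * g) • a = a; rw [mul_smul, show g • a = b from h, inv_smul_eq_iff, hpab]⟩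
  have hpb : p • b = a := by
    rcases hD.le (hCinv p hpC b (A.fix_b s hs)) with h | h | h | h
    · exact h
    · exact absurd (smul_left_cancel p (hpab.trans h.symm)) A.ab
    · exact absurd (smul_left_cancel p (h.trans hpe.symm)) hbe
    · exact absurd (smul_left_cancel p (h.trans hpe'.symm)) heb'.symm
  have hpE : p ∈ E := ⟨hpC, stab_of_maps fun z hz => by
    rcases hz with rfl | rfl <;> simp [hpab, hpb]⟩
  have hself : ∀ g ∈ S, Commute g s → Commute g t → g ∈ E := fun g hg h1 h2 => by
    refine ⟨mem_cent.2 ⟨hg, h1⟩, stab_of_maps fun z hz => ?_⟩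
    have hzt : z ∈ fixedBy Ω t := A.fix.ge (by rcases hz with rfl | rfl <;> simp)
    have hzs : z ∈ fixedBy Ω s := hD.ge (by rcases hz with rfl | rfl <;> simp)
    have h3 := A.fix.le (fix_comm h2 hzt)
    rcases hD.le (fix_comm h1 hzs) with h | h | h | h
    · exact Or.inl h
    · exact Or.inr h
    · exact absurd (h ▸ h3) he
    · exact absurd ((show g • z = e' from h) ▸ h3) he'Δ
  by_cases hpt : Commute p t
  · have hps' : Commute p s := (mem_cent.1 hpC).2
    have ht2 : t ^ 2 = 1 := by rw [← A.ord, pow_orderOf_eq_one]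
    have hX2 : ∀ x ∈ X, x ^ 2 = 1 ∧ Commute p x := fun x hx => by
      rcases hXlist x hx with rfl | rfl | rfl | rfl
      exacts [⟨one_pow 2, Commute.one_right p⟩, ⟨hs2, hps'⟩, ⟨ht2, hpt⟩,
        ⟨by rw [hcs.mul_pow, hs2, ht2, one_mul], hps'.mul_right hpt⟩]
    refine F.big (sub_self_eight F.two (A := E) (inf_le_left.trans inf_le_left) (fun g hg => ?_) ?_
      fun g hg h => hself g hg (h s (hXE hsX)) (h t (hXE htX)))
    · rcases hEa g hg with h | h
      · exact (hX2 g h).1
      · have h2 := hX2 _ h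
        rw [show g = p * (p⁻¹ * g) by group, h2.2.mul_pow, h2.1, mul_one, hp, conj_pow, ht2, mul_one, mul_inv_cancel]
    · have h1 := st_bound (C := E) (d := a) (Δ := ({a, b} : Set Ω)) (by simp) fun g hg z hz => stab_smul_mem hg.2 hz
      rw [Set.ncard_pair A.ab] at h1
      have h2 : Nat.card (st E a) ≤ Nat.card X := card_le_of_le fun g hg => ⟨hg.1.1, hg.2⟩
      have h3 := card_le_half hXE fun h => hpa (h.ge hpE).2
      omega
  · refine F.big (sub_self_four F.two (A := X) (inf_le_left.trans inf_le_left) hX4' fun g hg h => ?_)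
    have hgt := h t htX
    rcases hEa g (hself g hg (h s hsX) hgt) with hh | hh
    · exact hh
    · exfalso
      refine hpt ?_
      have hxt : Commute (p⁻¹ * g) t := A.centre _ (hXT hh)
      have := hgt.mul_left hxt.inv_left
      rwa [show g * (p⁻¹ * g)⁻¹ = p by group] at this

end Swap

end Cfsg.Lib.Fix4
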