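import Cfsg.Agent.Lib.Fix4.SwapA

/-!
# The largest stabilizer does not fix the four points of its central involution: the semiregular case
-/

set_option autoImplicit false
set_option linter.unusedSectionVars false
set_option linter.style.haveILetI false

namespace Cfsg.Lib.Fix4

open MulAction Subgroup
open scoped Pointwise

universe u v

variable {G : Type u} {Ω : Type v} [Group G] [Finite G] [MulAction G Ω] [Finite Ω] {S : Subgroup G}

/-- A subgroup acting semiregularly off an invariant set has order dividing the number of points off it. -/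
theorem dvd_compl {T : Subgroup G} {Δ : Set Ω} (hinv : ∀ y ∈ T, ∀ x ∈ Δ, y • x ∈ Δ)
    (hfree : ∀ x ∉ Δ, ∀ y ∈ T, y • x = x → y = 1) : Nat.card T ∣ Δᶜ.ncard := by
  classical
  letI act : MulAction T {x // x ∉ Δ} :=
    { smul := fun g x => ⟨(g : G) • x.1, fun h => x.2 (by simpa using hinv _ (T.inv_mem g.2) _ h)⟩
      one_smul := fun x => Subtype.ext (one_smul _ _)
      mul_smul := fun g h x => Subtype.ext (mul_smul _ _ _) }
  haveI := Fintype.ofFinite (orbitRel.Quotient T {x // x ∉ Δ})
  have hd : Nat.card T ∣ Nat.card {x // x ∉ Δ} := by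
    rw [Nat.card_congr (selfEquivSigmaOrbits T {x // x ∉ Δ}), Nat.card_sigma]
    refine Finset.dvd_sum fun o _ => dvd_of_eq ?_
    have hb : stabilizer T o.out = ⊥ := by
      rw [Subgroup.eq_bot_iff_forall]
      intro g hg
      exact Subtype.ext (hfree _ o.out.2 _ g.2 (congrArg Subtype.val hg))
    rw [Nat.card_congr (orbitEquivQuotientStabilizer _ _), ← Subgroup.index_eq_card, hb, Subgroup.index_bot]
  rw [← Nat.card_coe_set_eq]
  exact hd

namespace Swap

variable {a b c c' : Ω} {t : G} (A : Swap S a b c c' t)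
include A

/-- A semiregular largest stabilizer is cyclic. -/
theorem cyclic [IsSimpleGroup G] (hna : ¬ IsMulCommutative G) (h4 : 4 ∣ Nat.card Ω)
    (hfree : ∀ x ∉ ({a, b, c, c'} : Set Ω), ∀ y ∈ st S a, y • x = x → y = 1) :
    ∃ x ∈ st S a, x • c ≠ c ∧ zpowers x = st S a := by
  classical
  letI := Fintype.ofFinite Ω
  obtain ⟨x, hx, hxc⟩ := A.moved
  obtain ⟨h1, h2⟩ := swap_two (A.inv x hx) A.ac A.bc A.ac' A.bc' A.cc' hx.2 (A.fix_b x hx) hxc
  set Δ : Set Ω := {a, b, c, c'} with hΔ
  set σ : Equiv.Perm Ω := Equiv.swap c c' * toPermHom G Ω x with hσ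
  have hout : ∀ z ∉ Δ, ∀ y ∈ st S a, y • z ∉ Δ := fun z hz y hy h => hz (by
    have := A.inv _ (inv_mem hy) _ h
    rwa [inv_smul_smul] at this)
  have hσfix : ∀ z ∈ Δ, σ z = z := by
    intro z hz
    rw [hσ, Equiv.Perm.mul_apply]
    change Equiv.swap c c' (x • z) = z
    rcases hz with rfl | rfl | rfl | rfl
    · rw [show x • z = z from hx.2, Equiv.swap_apply_of_ne_of_ne A.ac A.ac']
    · rw [A.fix_b x hx, Equiv.swap_apply_of_ne_of_ne A.bc A.bc']
    · rw [h1, Equiv.swap_apply_right]
    · rw [h2, Equiv.swap_apply_left]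
  have hσout : ∀ z ∉ Δ, σ z = x • z := fun z hz => by
    rw [hσ, Equiv.Perm.mul_apply]
    change Equiv.swap c c' (x • z) = x • z
    exact Equiv.swap_apply_of_ne_of_ne (fun h => hout z hz x hx (h ▸ by simp [hΔ]))
      (fun h => hout z hz x hx (h ▸ by simp [hΔ]))
  have hpow : ∀ i : ℕ, ∀ z : Ω, (σ ^ i) z = if z ∈ Δ then z else x ^ i • z := by
    intro i
    induction i with
    | zero => intro z; split <;> simp
    | succ i ih =>
      intro z
      rw [pow_succ', Equiv.Perm.mul_apply, ih]
      by_cases hz : z ∈ Δ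
      · rw [if_pos hz, if_pos hz, hσfix z hz]
      · rw [if_neg hz, if_neg hz, hσout _ (hout z hz _ (pow_mem hx i)), ← mul_smul, ← pow_succ']
  have hone : ∀ i : ℕ, x ^ i = 1 → σ ^ i = 1 := fun i hi => Equiv.ext fun z => by
    rw [hpow, hi, one_smul, ite_self, Equiv.Perm.one_apply]
  obtain ⟨k, hk, hsign⟩ := Cfsg.Agent.S3390.sign_semiregular σ (by
    intro i z hz hiz
    have hzΔ : z ∉ Δ := fun h => hz (hσfix z h)
    rw [hpow, if_neg hzΔ] at hiz
    exact hone i (hfree z hzΔ _ (pow_mem hx i) hiz))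
  rw [hσ, map_mul, Equiv.Perm.sign_swap A.cc', sign_eq_one (Ω := Ω) hna x, mul_one, ← hσ] at hsign
  have hsupp : σ.support.card = Δᶜ.ncard := by
    rw [Set.ncard_eq_toFinset_card']
    congr 1
    ext z
    simp only [Equiv.Perm.mem_support, Set.mem_toFinset, Set.mem_compl_iff]
    refine ⟨fun hz h => hz (hσfix z h), fun hz h => hxc ?_⟩
    rw [hσout z hz] at h
    rw [hfree z hz x hx h, one_smul]
  have hn : Δ.ncard + Δᶜ.ncard = Nat.card Ω := Set.ncard_add_ncard_compl Δ
  rw [hΔ, A.ncard_four, ← hΔ] at hn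
  have hodd : Odd k := by
    by_contra hev
    have he : Even (σ.support.card + k) := by
      rw [hsupp]
      exact Even.add (by obtain ⟨q, hq⟩ := h4; rw [even_iff_two_dvd]; omega) (Nat.not_odd_iff_even.1 hev)
    rw [Even.neg_one_pow he] at hsign
    exact absurd hsign (by decide)
  have hdvd : Nat.card (st S a) ∣ orderOf x := by
    have h := dvd_compl (T := st S a) A.inv hfree
    rw [← hsupp, hk] at h
    obtain ⟨j, hj⟩ := card_sub_pow A.base.two (K := st S a) inf_le_left
    rw [hj] at h ⊢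
    exact ((Nat.Coprime.pow_left j (Nat.coprime_two_left.2 hodd)).dvd_of_dvd_mul_left h).trans
      (orderOf_dvd_of_pow_eq_one (hone _ (pow_orderOf_eq_one x)))
  refine ⟨x, hx, hxc, eq_of_le_of_card_ge (zpowers_le.2 hx) ?_⟩
  rw [Nat.card_zpowers]
  exact Nat.le_of_dvd (orderOf_pos x) hdvd

/-- The semiregular case does not occur. -/
theorem no_free [IsSimpleGroup G] (hna : ¬ IsMulCommutative G) (h4 : 4 ∣ Nat.card Ω)
    (hfree : ∀ x ∉ ({a, b, c, c'} : Set Ω), ∀ y ∈ st S a, y • x = x → y = 1) : False := by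
  classical
  haveI : Fact (Nat.Prime 2) := ⟨Nat.prime_two⟩
  have F := A.base
  obtain ⟨x, hx, hxc, hxT⟩ := A.cyclic hna h4 hfree
  set Δ : Set Ω := {a, b, c, c'} with hΔ
  set C := cent S t with hC
  have hCinv : ∀ g ∈ C, ∀ z ∈ Δ, g • z ∈ Δ := fun g hg z hz => by
    rw [hΔ, ← A.fix] at hz ⊢
    exact fix_comm (mem_cent.1 hg).2 hz
  have hTC : st C a = st S a := le_antisymm (fun g hg => ⟨hg.1.1, hg.2⟩)
    fun g hg => ⟨mem_cent.2 ⟨hg.1, A.centre g hg⟩, hg.2⟩
  have hC4 : Nat.card C ≤ 4 * Nat.card (st S a) := by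
    have h := st_bound (C := C) (d := a) (Δ := Δ) (by simp [hΔ]) hCinv
    rwa [A.ncard_four, hTC] at h
  have hT4 : 4 ≤ Nat.card (st S a) := F.st_four A.mem.1 A.t_ne A.mem.2
  obtain ⟨j, hj⟩ := card_sub_pow F.two (K := st S a) inf_le_left
  have ho : orderOf x = 2 ^ j := by rw [← Nat.card_zpowers, hxT, hj]
  by_cases h8 : 8 ≤ Nat.card (st S a)
  · -- the centralizer is everything
    have hj3 : 3 ≤ j := by
      by_contra hlt
      have : 2 ^ j ≤ 2 ^ 2 := Nat.pow_le_pow_right two_pos (by omega)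
      omega
    have hCtop : C = S := by
      have hn : (C.subgroupOf S) = ⊤ := normalizer_top_of F.two fun g hg => by
        have h1 : ((g * ⟨x, hx.1⟩ * g⁻¹ : S) : G) ∈ C := hg ⟨x, hx.1⟩ (hTC.ge hx).1
        have h1 : (g : G) * x * (g : G)⁻¹ ∈ C := h1
        have h2 : (g : G) * x ^ 4 * (g : G)⁻¹ ∈ st S a := by
          rw [← conj_pow]
          exact ⟨S.pow_mem h1.1 4, F.pow_four_fix (C := C) inf_le_left hCinv A.ncard_four.le h1 (x := a) (by simp [hΔ])⟩
        have h3 : (g : G) * t * (g : G)⁻¹ ∈ st S a := by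
          obtain ⟨i, hi⟩ := mem_zpowers_iff.1 (hxT.ge A.mem)
          obtain ⟨q, hq⟩ : (4 : ℤ) ∣ i := by
            have ht2 : x ^ (i * 2) = 1 := by
              rw [zpow_mul, hi, zpow_two, ← pow_two, ← A.ord, pow_orderOf_eq_one]
            rw [← orderOf_dvd_iff_zpow_eq_one, ho] at ht2
            obtain ⟨r, hr⟩ := (pow_dvd_pow (2 : ℤ) hj3).trans (by exact_mod_cast ht2)
            exact ⟨r, by omega⟩
          rw [← hi, hq, zpow_mul, show x ^ (4 : ℤ) = x ^ (4 : ℕ) by rw [← zpow_natCast]; rfl, ← conj_zpow]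
          exact zpow_mem h2 q
        have h4 : orderOf ((g : G) * t * (g : G)⁻¹) = 2 := by
          rw [← A.ord]; exact (MulAut.conj (g : G)).orderOf_eq t
        have h5 : (g : G) * t * (g : G)⁻¹ = t := by
          haveI hcyc : IsCyclic (st S a) := hxT ▸ inferInstance
          haveI := Fintype.ofFinite (st S a)
          by_contra hne
          have hle := IsCyclic.card_pow_eq_one_le (α := st S a) (n := 2) two_pos
          have hsub : ({1, ⟨t, A.mem⟩, ⟨_, h3⟩} : Finset (st S a)) ⊆ Finset.univ.filter (fun w : st S a => w ^ 2 = 1) := by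
            intro w hw
            simp only [Finset.mem_insert, Finset.mem_singleton] at hw
            rw [Finset.mem_filter]
            refine ⟨Finset.mem_univ _, ?_⟩
            rcases hw with rfl | rfl | rfl
            · exact one_pow 2
            · exact Subtype.ext (by rw [SubmonoidClass.coe_pow, ← A.ord, pow_orderOf_eq_one]; rfl)
            · exact Subtype.ext (by rw [SubmonoidClass.coe_pow, ← h4, pow_orderOf_eq_one]; rfl)
          have := Finset.card_le_card hsub
          rw [Finset.card_insert_of_notMem, Finset.card_pair] at this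
          · omega
          · exact fun h => hne (congrArg Subtype.val h).symm
          · simp only [Finset.mem_insert, Finset.mem_singleton, not_or]
            exact ⟨fun h => A.t_ne (congrArg Subtype.val h).symm,
              fun h => ne_one_of_prime Nat.prime_two h4 (congrArg Subtype.val h).symm⟩
        exact mem_subgroupOf.2 (mem_cent.2 ⟨g.2, (mul_inv_eq_iff_eq_mul.1 h5 : _)⟩)
      exact le_antisymm inf_le_left fun g hg => mem_subgroupOf.1 (hn.ge (mem_top (⟨g, hg⟩ : S)))
    rw [hCtop] at hC4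
    exact F.big (sub_cyclic_index inf_le_left (hxT ▸ inferInstance : IsCyclic (st S a)) (hC4.trans (Nat.mul_le_mul_right _ (by norm_num))))
  -- the largest stabilizer has order four
  have hj2 : Nat.card (st S a) = 4 := by
    rw [hj] at hT4 h8 ⊢
    have hlo : 2 ≤ j := by
      by_contra hlt
      have : 2 ^ j ≤ 2 ^ 1 := Nat.pow_le_pow_right two_pos (by omega)
      omega
    have hhi : j ≤ 2 := by
      by_contra hlt
      have : 2 ^ 3 ≤ 2 ^ j := Nat.pow_le_pow_right two_pos (by omega)
      omega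
    rw [le_antisymm hhi hlo]; norm_num
  have hker : ∀ {g : G}, g ∈ st S a → g • c = c → g = 1 ∨ g = t := fun hg hgc =>
    two_of_card (K := st (st S a) c) (by have := A.kernel_card; omega) A.t_kernel A.t_ne ⟨hg, hgc⟩
  have hC8 := F.not_cent_eight A.mem.1 A.ord
  change ¬ Nat.card C ≤ 8 at hC8
  have hC16 : Nat.card C = 16 := card_eq_of_pow (K := C) (b := 4) F.two inf_le_left (by omega) (by omega)
  have htrans : ∀ z ∈ Δ, ∃ g ∈ C, g • a = z := fun z hz =>
    trans_of_card (d := a) (Δ := Δ) (by simp [hΔ]) hCinv (by rw [A.ncard_four, hTC, hj2, hC16]) hz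
  have hinvol : ∀ {y : G}, y ∈ C → y ^ 2 = 1 → ∀ z ∈ Δ, y • z = z → y = 1 ∨ y = t := by
    intro y hy hy2 z hz hyz
    obtain ⟨g, hg, rfl⟩ := htrans z hz
    have h1 : g⁻¹ * y * g ∈ st S a := ⟨S.mul_mem (S.mul_mem (S.inv_mem hg.1) hy.1) hg.1, by
      show (g⁻¹ * y * g) • a = a
      rw [mul_smul, mul_smul, hyz, inv_smul_smul]⟩
    have h2 : (g⁻¹ * y * g) • c = c := by
      by_contra hne
      obtain ⟨i, hi⟩ := mem_zpowers_iff.1 (hxT.ge h1)
      obtain ⟨r, rfl⟩ | ⟨r, rfl⟩ := Int.even_or_odd i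
      · apply hne
        rw [← hi, ← two_mul, zpow_mul]
        have h3 : x ^ (2 : ℤ) ∈ st (st S a) c := ⟨zpow_mem hx 2, by
          show x ^ (2 : ℤ) • c = c
          obtain ⟨h1, h2⟩ := swap_two (A.inv x hx) A.ac A.bc A.ac' A.bc' A.cc' hx.2 (A.fix_b x hx) hxc
          rw [zpow_two, mul_smul, h1, h2]⟩
        exact (zpow_mem h3 r).2
      · have h4 : x ^ ((2 * r + 1) * 2) = 1 := by
          rw [zpow_mul, hi, zpow_two, ← pow_two, show g⁻¹ * y * g = g⁻¹ * y * g⁻¹⁻¹ by rw [inv_inv], conj_pow, hy2,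
            mul_one, mul_inv_cancel]
        rw [← orderOf_dvd_iff_zpow_eq_one, ← Nat.card_zpowers, hxT, hj2] at h4
        omega
    rcases hker h1 h2 with h | h
    · exact Or.inl (by have := congrArg (fun w => g * w * g⁻¹) h; simpa [mul_assoc] using this)
    · refine Or.inr ?_
      calc y = g * (g⁻¹ * y * g) * g⁻¹ := by group
        _ = t := by rw [h, (mem_cent.1 hg).2.eq, mul_inv_cancel_right]
  have ht2 : t ^ 2 = 1 := by rw [← A.ord, pow_orderOf_eq_one]
  have hct : ∀ {y : G}, y ∈ C → Commute y t := fun hy => (mem_cent.1 hy).2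
  have htfix : ∀ z ∈ Δ, t • z = z := fun z hz => A.fix.ge hz
  by_cases hall : ∀ y ∈ C, y ^ 2 = 1 → y ≠ 1 → y ≠ t → y • a = b
  · refine F.big (sub_few F.two A.mem.1 A.ord ?_)
    by_cases hex : ∃ y ∈ C, y ^ 2 = 1 ∧ y ≠ 1 ∧ y ≠ t
    swap
    · push Not at hex
      refine le_trans (Nat.card_le_card_of_injective (fun w : {w : G // w ∈ S ∧ Commute w t ∧ w ^ 2 = 1} =>
        decide (w.1 = 1)) ?_) (by rw [Nat.card_eq_fintype_card, Fintype.card_bool]; norm_num)
      intro v w e
      simp only [decide_eq_decide] at e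
      refine Subtype.ext ?_
      by_cases h : v.1 = 1
      · rw [h, e.1 h]
      · rw [hex v.1 (mem_cent.2 ⟨v.2.1, v.2.2.1⟩) v.2.2.2 h,
          hex w.1 (mem_cent.2 ⟨w.2.1, w.2.2.1⟩) w.2.2.2 (fun h' => h (e.2 h'))]
    obtain ⟨y, hy, hy2, hy1, hyt⟩ := hex
    have hfour : ∀ w : G, w ∈ C → w ^ 2 = 1 → w ∈ ({1, t, y, y * t} : Finset G) := by
      intro w hw hw2
      simp only [Finset.mem_insert, Finset.mem_singleton]
      by_cases h1 : w = 1
      · exact Or.inl h1
      by_cases h2 : w = t
      · exact Or.inr (Or.inl h2)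
      have hyw : y⁻¹ * w ∈ st S a := ⟨S.mul_mem (S.inv_mem hy.1) hw.1, by
        show (y⁻¹ * w) • a = a
        rw [mul_smul, hall w hw hw2 h1 h2, inv_smul_eq_iff, hall y hy hy2 hy1 hyt]⟩
      have hyw' : (y⁻¹ * w) • c = c := by
        have key : ∀ {v : G}, v ∈ C → v ^ 2 = 1 → v ≠ 1 → v ≠ t → v • c = c' := fun {v} hv hv2 hv1 hvt => by
          have hva := hall v hv hv2 hv1 hvt
          rcases hCinv v hv c (by simp [hΔ]) with h | h | h | h
          · have : v • a = c := by rw [← h, smul_smul, ← pow_two, hv2, one_smul]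
            exact absurd (hva.symm.trans this) A.bc
          · exact absurd (smul_left_cancel v (h.trans hva.symm)) A.ac.symm
          · exact ((hinvol hv hv2 c (by simp [hΔ]) h).elim hv1 hvt).elim
          · exact h
        rw [mul_smul, key hw hw2 h1 h2, inv_smul_eq_iff, key hy hy2 hy1 hyt]
      rcases hker hyw hyw' with h | h
      · exact Or.inr (Or.inr (Or.inl (inv_mul_eq_one.1 h).symm))
      · exact Or.inr (Or.inr (Or.inr (inv_mul_eq_iff_eq_mul.1 h)))
    refine le_trans (Nat.card_le_card_of_injective (fun w : {w : G // w ∈ S ∧ Commute w t ∧ w ^ 2 = 1} =>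
      (⟨w.1, hfour w.1 (mem_cent.2 ⟨w.2.1, w.2.2.1⟩) w.2.2.2⟩ : {v // v ∈ ({1, t, y, y * t} : Finset G)}))
      fun v w e => Subtype.ext (congrArg (fun q => q.1) e :)) ?_
    rw [Nat.card_eq_fintype_card, Fintype.card_coe]
    exact Finset.card_le_four
  push Not at hall
  obtain ⟨y, hy, hy2, hy1, hyt, hyb⟩ := hall
  have hyy : ∀ z : Ω, y • y • z = z := fun z => by rw [smul_smul, ← pow_two, hy2, one_smul]
  have hyfree : ∀ z ∈ Δ, y • z ≠ z := fun z hz h => (hinvol hy hy2 z hz h).elim hy1 hyt
  obtain ⟨hxc', hxc''⟩ := swap_two (A.inv x hx) A.ac A.bc A.ac' A.bc' A.cc' hx.2 (A.fix_b x hx) hxc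
  set u := x * y * x⁻¹ with hu
  have hxC : x ∈ C := (hTC.ge hx).1
  have huC : u ∈ C := C.mul_mem (C.mul_mem hxC hy) (C.inv_mem hxC)
  have hu2 : u ^ 2 = 1 := by rw [hu, conj_pow, hy2, mul_one, mul_inv_cancel]
  have huapp : ∀ z : Ω, u • (x • z) = x • (y • z) := fun z => by rw [hu, mul_smul, inv_smul_smul, mul_smul]
  have hua : u • a = x • (y • a) := by
    have := huapp a
    rwa [show x • a = a from hx.2] at this
  -- the images of `a` and `b`
  have himg : (y • a = c ∧ y • b = c' ∧ x • (y • a) = c') ∨ (y • a = c' ∧ y • b = c ∧ x • (y • a) = c) := by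
    have hne : ∀ {z z' : Ω}, y • z = z' → y • z' = z := fun {z z'} e => by rw [← e, hyy]
    rcases hCinv y hy a (by simp [hΔ]) with h | h | h | h
    · exact absurd h (hyfree a (by simp [hΔ]))
    · exact absurd h hyb
    · have h : y • a = c := h
      refine Or.inl ⟨h, ?_, by rw [h, hxc']⟩
      rcases hCinv y hy b (by simp [hΔ]) with g | g | g | g
      · exact absurd (hne g) hyb
      · exact absurd g (hyfree b (by simp [hΔ]))
      · exact absurd (smul_left_cancel y (g.trans h.symm)) A.ab.symm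
      · exact g
    · have h : y • a = c' := h
      refine Or.inr ⟨h, ?_, by rw [h, hxc'']⟩
      rcases hCinv y hy b (by simp [hΔ]) with g | g | g | g
      · exact absurd (hne g) hyb
      · exact absurd g (hyfree b (by simp [hΔ]))
      · exact g
      · exact absurd (smul_left_cancel y ((show y • b = c' from g).trans h.symm)) A.ab.symm
  set D := cent C y with hD
  have hDinv : ∀ g ∈ D, ∀ z ∈ Δ, g • z ∈ Δ := fun g hg => hCinv g hg.1
  have hxD : x ∉ D := fun h => by
    have hxy := (mem_cent.1 h).2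
    have : x • (y • a) = y • a := by rw [← mul_smul, hxy.eq, mul_smul, show x • a = a from hx.2]
    rcases himg with ⟨h1, -, h3⟩ | ⟨h1, -, h3⟩ <;> rw [this, h1] at h3
    exacts [A.cc' h3, A.cc' h3.symm]
  have hyD : y ∈ D := mem_cent.2 ⟨hy, Commute.refl y⟩
  have htD : t ∈ D := mem_cent.2 ⟨(hTC.ge A.mem).1, (hct hy).symm⟩
  have hDa : ∀ g ∈ D, g • a = a → g = 1 ∨ g = t := fun g hg hga => by
    refine two_of_card (K := st D a) ?_ ⟨htD, A.mem.2⟩ A.t_ne ⟨hg, hga⟩
    have h1 : st D a ≤ st S a := fun w hw => ⟨hw.1.1.1, hw.2⟩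
    have h2 := card_le_half h1 fun e => hxD (e.ge hx).1
    omega
  have hySS : y ∈ S := hy.1
  by_cases huy : Commute u y
  · have huD : u ∈ D := mem_cent.2 ⟨huC, huy⟩
    have hyu : y • (u • a) = b := by
      rw [hua]
      rcases himg with ⟨-, h2, h3⟩ | ⟨-, h2, h3⟩ <;> rw [h3, ← h2, hyy]
    -- every element of `D` is a product of commuting involutions
    have hDsq : ∀ g ∈ D, g ^ 2 = 1 := by
      intro g hg
      have hut : Commute u t := hct huC
      have hgut : Commute (y * u) t := (hct hy).mul_left hut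
      have hyu2 : (y * u) ^ 2 = 1 := by rw [huy.symm.mul_pow, hy2, hu2, one_mul]
      have key : ∀ w ∈ D, w ^ 2 = 1 → Commute w t → w • a = g • a → g ^ 2 = 1 := by
        intro w hw hw2 hwt he
        rcases hDa (w⁻¹ * g) (D.mul_mem (D.inv_mem hw) hg) (by rw [mul_smul, ← he, inv_smul_smul]) with h | h
        · rw [← inv_mul_eq_one.1 h, hw2]
        · rw [inv_mul_eq_iff_eq_mul.1 h, hwt.mul_pow, hw2, ht2, one_mul]
      rcases hDinv g hg a (by simp [hΔ]) with h | h | h | h
      · exact key 1 D.one_mem (one_pow 2) (Commute.one_left t) (by rw [one_smul]; exact h.symm)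
      · exact key (y * u) (D.mul_mem hyD huD) hyu2 hgut (by rw [mul_smul, hyu]; exact h.symm)
      · rcases himg with ⟨h1, -, -⟩ | ⟨-, -, h3⟩
        · exact key y hyD hy2 (hct hy) (h1.trans (show g • a = c from h).symm)
        · exact key u huD hu2 hut ((hua.trans h3).trans (show g • a = c from h).symm)
      · rcases himg with ⟨-, -, h3⟩ | ⟨h1, -, -⟩
        · exact key u huD hu2 hut ((hua.trans h3).trans (show g • a = c' from h).symm)
        · exact key y hyD hy2 (hct hy) (h1.trans (show g • a = c' from h).symm)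
    have hD8 : Nat.card D = 8 := by
      have h1 : 2 * Nat.card D ≤ Nat.card C := card_le_half inf_le_left fun e => hxD (e.ge hxC)
      refine card_eq_of_pow (K := D) (b := 3) F.two (inf_le_left.trans inf_le_left) (by omega) ?_
      have h5 : ({1, t, y, u, y * t} : Finset G).card ≤ Nat.card D := by
        rw [← Set.ncard_coe_finset, ← SetLike.coe_sort_coe, Nat.card_coe_set_eq]
        refine Set.ncard_le_ncard (fun w hw => ?_) (Set.toFinite _)
        simp only [Finset.coe_insert, Finset.coe_singleton, Set.mem_insert_iff, Set.mem_singleton_iff] at hw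
        rcases hw with rfl | rfl | rfl | rfl | rfl
        exacts [D.one_mem, htD, hyD, huD, D.mul_mem hyD htD]
      have hfa := hyfree a (by simp [hΔ])
      have huy' : u • a ≠ y • a := by
        rw [hua]
        rcases himg with ⟨h1, -, h3⟩ | ⟨h1, -, h3⟩ <;> rw [h3, h1]
        exacts [A.cc'.symm, A.cc']
      have hua' : u • a ≠ a := by
        rw [hua]
        rcases himg with ⟨-, -, h3⟩ | ⟨-, -, h3⟩ <;> rw [h3]
        exacts [A.ac'.symm, A.ac.symm]
      have hta : t • a = a := A.mem.2
      have hyta : (y * t) • a = y • a := by rw [mul_smul, hta]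
      have n1 : u ≠ 1 := fun h => hua' (by rw [h, one_smul])
      have n2 : u ≠ t := fun h => hua' (by rw [h, hta])
      have n3 : u ≠ y := fun h => huy' (by rw [h])
      have n4 : y * t ≠ 1 := fun h => hfa (by rw [← hyta, h, one_smul])
      have n5 : y * t ≠ t := fun h => hy1 (mul_eq_right.1 h)
      have n6 : y * t ≠ u := fun h => huy' (by rw [← h, hyta])
      have n7 : y * t ≠ y := fun h => A.t_ne (mul_eq_left.1 h)
      rw [Finset.card_insert_of_notMem, Finset.card_insert_of_notMem, Finset.card_insert_of_notMem,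
        Finset.card_pair n6.symm] at h5
      · omega
      all_goals simp only [Finset.mem_insert, Finset.mem_singleton, not_or]
      · exact ⟨n3.symm, n7.symm⟩
      · exact ⟨hyt.symm, n2.symm, n5.symm⟩
      · exact ⟨A.t_ne.symm, hy1.symm, n1.symm, n4.symm⟩
    exact F.big (sub_self_eight F.two (A := D) (inf_le_left.trans inf_le_left) hDsq hD8 fun g hg h =>
      mem_cent.2 ⟨mem_cent.2 ⟨hg, h t htD⟩, h y hyD⟩)
  · have hDorb : ∀ g ∈ D, g • a = a ∨ g • a = y • a := by
      intro g hg
      by_contra hno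
      rw [not_or] at hno
      obtain ⟨g', hg', hg'a⟩ : ∃ g' ∈ D, g' • a = u • a := by
        rcases himg with ⟨h1, h2, h3⟩ | ⟨h1, h2, h3⟩ <;> rcases hDinv g hg a (by simp [hΔ]) with h | h | h | h
        · exact absurd h hno.1
        · exact ⟨y * g, D.mul_mem hyD hg, by rw [mul_smul, h, h2, hua, h3]⟩
        · exact absurd ((show g • a = c from h).trans h1.symm) hno.2
        · exact ⟨g, hg, by rw [show g • a = c' from h, hua, h3]⟩
        · exact absurd h hno.1
        · exact ⟨y * g, D.mul_mem hyD hg, by rw [mul_smul, h, h2, hua, h3]⟩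
        · exact ⟨g, hg, by rw [show g • a = c from h, hua, h3]⟩
        · exact absurd ((show g • a = c' from h).trans h1.symm) hno.2
      have hk : u⁻¹ * g' ∈ st S a := ⟨S.mul_mem (S.inv_mem huC.1) hg'.1.1, by
        show (u⁻¹ * g') • a = a
        rw [mul_smul, hg'a, inv_smul_smul]⟩
      have hyua : y • (u • a) = b := by
        rw [hua]
        rcases himg with ⟨-, h2, h3⟩ | ⟨-, h2, h3⟩ <;> rw [h3, ← h2, hyy]
      have hk' : (u⁻¹ * g') • (y • a) = y • a := by
        rw [mul_smul, ← mul_smul g', (mem_cent.1 hg').2.eq, mul_smul, hg'a, inv_smul_eq_iff, hyua]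
        rcases himg with ⟨h1, -, h3⟩ | ⟨h1, -, h3⟩
        · rw [h1, show u • c = u • (x • c') by rw [hxc''], huapp]
          rw [show y • c' = b from (by rw [← h3, ← hua]; exact hyua), A.fix_b x hx]
        · rw [h1, show u • c' = u • (x • c) by rw [hxc'], huapp]
          rw [show y • c = b from (by rw [← h3, ← hua]; exact hyua), A.fix_b x hx]
      have hkc : (u⁻¹ * g') • c = c := by
        by_contra hne
        obtain ⟨g1, g2⟩ := swap_two (A.inv _ hk) A.ac A.bc A.ac' A.bc' A.cc' hk.2 (A.fix_b _ hk) hne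
        rcases himg with ⟨h1, -, -⟩ | ⟨h1, -, -⟩ <;> rw [h1] at hk'
        exacts [hne hk', A.cc' (g2.symm.trans hk')]
      refine huy ?_
      have hg'y := (mem_cent.1 hg').2
      rcases hker hk hkc with h | h
      · rwa [← inv_mul_eq_one.1 h] at hg'y
      · have := hg'y.mul_left ((hct hy).symm.inv_left)
        rwa [show g' * t⁻¹ = u by rw [← h]; group] at this
    have hD4 : Nat.card D = 4 := by
      refine card_eq_of_pow (K := D) (b := 2) F.two (inf_le_left.trans inf_le_left) ?_ ?_
      · have h1 := st_bound (C := D) (d := a) (Δ := ({a, y • a} : Set Ω)) (by simp) fun g hg z hz => by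
          rcases hz with rfl | rfl
          · exact hDorb g hg
          · have := hDorb (g * y) (D.mul_mem hg hyD)
            rwa [mul_smul] at this
        rw [Set.ncard_pair (hyfree a (by simp [hΔ])).symm] at h1
        refine h1.trans (le_trans (Nat.mul_le_mul_left 2 (?_ : Nat.card (st D a) ≤ 2)) (by norm_num))
        rw [show (2 : ℕ) = ({1, t} : Finset G).card from (Finset.card_pair A.t_ne.symm).symm,
          ← Set.ncard_coe_finset, ← SetLike.coe_sort_coe, Nat.card_coe_set_eq]
        exact Set.ncard_le_ncard (fun g hg => by simpa using hDa g hg.1 hg.2) (Set.toFinite _)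
      · have h5 : ({1, t, y} : Finset G).card ≤ Nat.card D := by
          rw [← Set.ncard_coe_finset, ← SetLike.coe_sort_coe, Nat.card_coe_set_eq]
          refine Set.ncard_le_ncard (fun w hw => ?_) (Set.toFinite _)
          simp only [Finset.coe_insert, Finset.coe_singleton, Set.mem_insert_iff, Set.mem_singleton_iff] at hw
          rcases hw with rfl | rfl | rfl
          exacts [D.one_mem, htD, hyD]
        rw [Finset.card_insert_of_notMem (by simp [A.t_ne.symm, hy1.symm]), Finset.card_pair hyt.symm] at h5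
        omega
    exact F.big (sub_self_four F.two (A := D) (inf_le_left.trans inf_le_left) hD4 fun g hg h =>
      mem_cent.2 ⟨mem_cent.2 ⟨hg, h t htD⟩, h y hyD⟩)

end Swap

end Cfsg.Lib.Fix4
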