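import Cfsg.Agent.Lib.Fix4.Basic
import Cfsg.Agent.Lib.PGroup.Basic
import Mathlib.GroupTheory.GroupAction.FixingSubgroup

/-!
# Elements of order three in an action of fixity four with stabilizers of odd order
-/

set_option autoImplicit false
set_option linter.unusedSectionVars false
set_option linter.style.haveILetI false

namespace Cfsg.Lib.Fix4

open MulAction Subgroup
open scoped Pointwise

universe u v

/-- An element of order three fixing at least three points. -/
def Big {G : Type u} (Ω : Type v) [Group G] [MulAction G Ω] (z : G) : Prop :=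
  z ^ 3 = 1 ∧ z ≠ 1 ∧ 3 ≤ (fixedBy Ω z).ncard

/-- Fixity four and elements with fixed points of odd order. -/
structure Tri (G : Type u) (Ω : Type v) [Group G] [MulAction G Ω] : Prop where
  fixity : Fixity G Ω
  odd : ∀ (g : G) (e : Ω), g • e = e → Odd (orderOf g)

theorem three_pow_cases {m : ℕ} (h : ∃ k, m = 3 ^ k) (hm : m ≤ 26) : m = 1 ∨ m = 3 ∨ m = 9 := by
  obtain ⟨k, rfl⟩ := h
  rcases (by omega : k = 0 ∨ k = 1 ∨ k = 2 ∨ 3 ≤ k) with rfl | rfl | rfl | h3
  · exact Or.inl rfl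
  · exact Or.inr (Or.inl rfl)
  · exact Or.inr (Or.inr rfl)
  · have : 3 ^ 3 ≤ 3 ^ k := Nat.pow_le_pow_right (by norm_num) h3
    omega

variable {G : Type u} {Ω : Type v} [Group G] [Finite G] [MulAction G Ω] [Finite Ω]

theorem three_le_pow {P : Subgroup G} (hP : IsPGroup 3 P) {K : Subgroup G} (hK : K ≤ P) : ∃ k, Nat.card K = 3 ^ k := by
  haveI : Fact (Nat.Prime 3) := ⟨Nat.prime_three⟩
  exact IsPGroup.iff_card.1 (hP.to_le hK)

/-- A non-identity element of a 3-group has a power of order three. -/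
theorem exists_three_pow {P : Subgroup G} (hP : IsPGroup 3 P) {y : G} (hy : y ∈ P) (hy1 : y ≠ 1) :
    ∃ k : ℕ, (y ^ k) ^ 3 = 1 ∧ y ^ k ≠ 1 := by
  haveI : Fact (Nat.Prime 3) := ⟨Nat.prime_three⟩
  obtain ⟨m, hm⟩ := hP ⟨y, hy⟩
  have hm : y ^ 3 ^ m = 1 := congrArg Subtype.val hm
  obtain ⟨j, -, hj⟩ := (Nat.dvd_prime_pow Nat.prime_three).1 (orderOf_dvd_of_pow_eq_one hm)
  rcases j with _ | j
  · exact absurd (orderOf_eq_one_iff.1 (by rw [hj, pow_zero])) hy1
  · refine ⟨3 ^ j, by rw [← pow_mul, ← pow_succ, ← hj, pow_orderOf_eq_one], fun h => ?_⟩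
    have := Nat.le_of_dvd (pow_pos (by norm_num) j) (hj ▸ orderOf_dvd_of_pow_eq_one h)
    rw [pow_succ] at this
    have := pow_pos (show 0 < 3 by norm_num) j
    omega

theorem big_conj {z : G} (h : Big Ω z) (g : G) : Big Ω (g * z * g⁻¹) :=
  ⟨by rw [conj_pow, h.1, mul_one, mul_inv_cancel], fun e => h.2.1 (conj_eq_one_iff.1 e), by
    rw [ncard_conj]; exact h.2.2⟩

/-- A three-cycle on at most four points: every permutation of the set returns one point of the cycle to it. -/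
theorem meet {Δ : Set Ω} (hΔ : Δ.ncard ≤ 4) {x : G} (hx3 : x ^ 3 = 1) (hxΔ : x ∈ stabilizer G Δ) {d : Ω}
    (hd : d ∈ Δ) (hxd : x • d ≠ d) {g : G} (hgstab : g ∈ stabilizer G Δ) :
    ∃ i j : Fin 3, g • (x ^ (i : ℕ) • d) = x ^ (j : ℕ) • d := by
  classical
  -- the orbit of `d` under `x`
  have hmem : ∀ i : ℕ, x ^ i • d ∈ Δ := fun i => stab_smul_mem (pow_mem hxΔ i) hd
  have hinj : ∀ i j : Fin 3, x ^ (i : ℕ) • d = x ^ (j : ℕ) • d → i = j := by
    have hxxd : x ^ 2 • d ≠ d := fun e => hxd (by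
      conv_rhs => rw [← one_smul G d, ← hx3, pow_succ', mul_smul, e])
    intro i j e
    have hx12 : x ^ 2 • d ≠ x • d := fun e => hxd (smul_left_cancel x (by rw [smul_smul, ← pow_two]; exact e))
    fin_cases i <;> fin_cases j <;> simp only [pow_zero, one_smul, pow_one] at e ⊢ <;>
      first
        | rfl
        | exact absurd e hxd
        | exact absurd e.symm hxd
        | exact absurd e hxxd
        | exact absurd e.symm hxxd
        | exact absurd e hx12
        | exact absurd e.symm hx12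
  -- two of the three points are carried into the orbit
  have hex : ∃ i j : Fin 3, g • (x ^ (i : ℕ) • d) = x ^ (j : ℕ) • d := by
    by_contra hno
    push Not at hno
    set f : Fin 3 ⊕ Fin 3 → Δ := Sum.elim (fun i => ⟨g • (x ^ (i : ℕ) • d), stab_smul_mem hgstab (hmem i)⟩)
      (fun j => ⟨x ^ (j : ℕ) • d, hmem j⟩)
    have hf : Function.Injective f := by
      rintro (i | i) (j | j) e <;> have e := congrArg Subtype.val e <;> simp only [f, Sum.elim_inl, Sum.elim_inr] at e
      · exact congrArg Sum.inl (hinj _ _ (smul_left_cancel g e))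
      · exact absurd e (hno i j)
      · exact absurd e.symm (hno j i)
      · exact congrArg Sum.inr (hinj _ _ e)
    have h1 := Nat.card_le_card_of_injective f hf
    rw [Nat.card_sum, Nat.card_eq_fintype_card (α := Fin 3), Fintype.card_fin, Nat.card_coe_set_eq] at h1
    omega
  exact hex

namespace Tri

variable (T : Tri G Ω)
include T

theorem big_le_four {z : G} (hz : Big Ω z) : (fixedBy Ω z).ncard ≤ 4 := T.fixity z hz.2.1

theorem big_card {z w : G} (hz : Big Ω z) (hw : Big Ω w) : (fixedBy Ω z).ncard = (fixedBy Ω w).ncard := by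
  haveI : Fact (Nat.Prime 3) := ⟨Nat.prime_three⟩
  have h1 : _ ≡ _ [MOD 3] := (fix_modEq (Ω := Ω) (p := 3) hz.1).trans (fix_modEq (Ω := Ω) (p := 3) hw.1).symm
  have h2 := T.big_le_four hz
  have h3 := T.big_le_four hw
  have h4 := hz.2.2
  have h5 := hw.2.2
  simp only [Nat.ModEq] at h1
  omega

theorem big_max {z w : G} (hz : Big Ω z) (hw : w ^ 3 = 1) (hw1 : w ≠ 1) (h : fixedBy Ω z ⊆ fixedBy Ω w) :
    fixedBy Ω w = fixedBy Ω z := by
  have hwb : Big Ω w := ⟨hw, hw1, le_trans hz.2.2 (Set.ncard_le_ncard h (Set.toFinite _))⟩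
  exact (Set.eq_of_subset_of_ncard_le h (le_of_eq (T.big_card hwb hz)) (Set.toFinite _)).symm

/-- A 3-element fixing the fixed points of a big element fixes no other point. -/
theorem semi {P : Subgroup G} (hP : IsPGroup 3 P) {z y : G} (hz : Big Ω z) (hy : y ∈ P) (hy1 : y ≠ 1)
    (h : fixedBy Ω z ⊆ fixedBy Ω y) {e : Ω} (he : y • e = e) : e ∈ fixedBy Ω z := by
  obtain ⟨k, hk, hk1⟩ := exists_three_pow hP hy hy1
  exact (T.big_max hz hk hk1 fun x hx => fix_pow (h hx) k).le (fix_pow (show e ∈ fixedBy Ω y from he) k)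

omit T in
/-- A 3-group on at most four points has a pointwise kernel of index at most three. -/
theorem kernel_bound {K : Subgroup G} (hK : IsPGroup 3 K) {Δ : Set Ω} (hΔ : Δ.ncard ≤ 4)
    (hinv : ∀ k ∈ K, k ∈ stabilizer G Δ) :
    Nat.card K ≤ 3 * Nat.card (K ⊓ fixingSubgroup G Δ : Subgroup G) := by
  classical
  haveI : Fact (Nat.Prime 3) := ⟨Nat.prime_three⟩
  letI act : MulAction K Δ :=
    { smul := fun k x => ⟨(k : G) • x.1, stab_smul_mem (hinv k k.2) x.2⟩
      one_smul := fun x => Subtype.ext (one_smul _ _)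
      mul_smul := fun a b x => Subtype.ext (mul_smul _ _ _) }
  set φ := toPermHom K Δ
  have h1 := Subgroup.card_eq_card_quotient_mul_card_subgroup φ.ker
  rw [Nat.card_congr (QuotientGroup.quotientKerEquivRange φ).toEquiv] at h1
  have h2 : Nat.card φ.range ∣ Δ.ncard.factorial := by
    rw [← Nat.card_coe_set_eq, ← Nat.card_perm]
    exact card_subgroup_dvd_card _
  obtain ⟨i, hi⟩ := IsPGroup.iff_card.1 (IsPGroup.of_surjective hK φ.rangeRestrict φ.rangeRestrict_surjective)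
  have h3 : Nat.card φ.range ≤ 3 := by
    have h24 : Δ.ncard.factorial ∣ 24 :=
      (Nat.factorial_dvd_factorial hΔ).trans (dvd_of_eq (by rfl))
    have hd := h2.trans h24
    rw [hi] at hd ⊢
    have hi1 : i ≤ 1 := by
      by_contra hlt
      exact absurd ((pow_dvd_pow 3 (by omega : 2 ≤ i)).trans hd) (by norm_num)
    calc 3 ^ i ≤ 3 ^ 1 := Nat.pow_le_pow_right (by norm_num) hi1
      _ = 3 := pow_one 3
  rw [h1]
  refine Nat.mul_le_mul h3 (Nat.card_le_card_of_injective (fun k => (⟨k.1.1, k.1.2, ?_⟩ :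
    (K ⊓ fixingSubgroup G Δ : Subgroup G))) fun a b e => Subtype.ext (Subtype.ext (congrArg Subtype.val e :)))
  show k.1.1 ∈ fixingSubgroup G Δ
  rw [mem_fixingSubgroup_iff]
  intro x hx
  exact congrArg Subtype.val (Equiv.ext_iff.1 k.2 ⟨x, hx⟩)

/-- No element inverts a big element centralized by a further element of order three. -/
theorem no_inverter {t x : G} (ht : Big Ω t) (hx : Commute x t) (hx3 : x ^ 3 = 1)
    (hmove : ¬ fixedBy Ω t ⊆ fixedBy Ω x) (g : G) : g * t * g⁻¹ ≠ t⁻¹ := by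
  classical
  intro hg
  have hfix0 : ∀ h : G, h * t * h⁻¹ = t⁻¹ → ∀ d : Ω, h • d = d → False := by
    intro h hh d hd
    obtain ⟨r, hr⟩ := T.odd h d hd
    have h2 : Commute (h ^ 2) t := by
      refine mul_inv_eq_iff_eq_mul.1 ?_
      rw [show h ^ 2 * t * (h ^ 2)⁻¹ = h * (h * t * h⁻¹) * h⁻¹ by rw [pow_two]; group, hh, ← conj_inv, hh, inv_inv]
    have hc : Commute h t := by
      have : h = (h ^ 2) ^ (r + 1) := by
        rw [← pow_mul, show 2 * (r + 1) = orderOf h + 1 by omega, pow_succ, pow_orderOf_eq_one, one_mul]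
      rw [this]; exact h2.pow_left _
    rw [hc.eq, mul_inv_cancel_right] at hh
    have : t * t = 1 := mul_eq_one_iff_eq_inv.2 hh
    exact ht.2.1 (calc t = t ^ 3 := by rw [pow_succ, pow_two, this, one_mul]
      _ = 1 := ht.1)
  obtain ⟨d, hd, hxd⟩ := Set.not_subset.1 hmove
  have hxd : x • d ≠ d := hxd
  have hgstab : g ∈ stabilizer G (fixedBy Ω t) := stab_fix_of_normalize (by rw [hg, fixedBy_inv])
  have hex := meet (T.big_le_four ht) hx3 (stab_fix_of_comm hx) hd hxd hgstab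
  have hmem : ∀ i : ℕ, x ^ i • d ∈ fixedBy Ω t := fun i => fix_comm (hx.pow_left i) hd
  obtain ⟨i, j, hij⟩ := hex
  have hxc : Commute (x ^ (i : ℕ) * (x ^ (j : ℕ))⁻¹) t := (hx.pow_left _).mul_left (hx.pow_left _).inv_left
  refine hfix0 (x ^ (i : ℕ) * (x ^ (j : ℕ))⁻¹ * g) ?_ (x ^ (i : ℕ) • d) ?_
  · rw [mul_inv_rev, show x ^ (i : ℕ) * (x ^ (j : ℕ))⁻¹ * g * t * (g⁻¹ * (x ^ (i : ℕ) * (x ^ (j : ℕ))⁻¹)⁻¹) =
      x ^ (i : ℕ) * (x ^ (j : ℕ))⁻¹ * (g * t * g⁻¹) * (x ^ (i : ℕ) * (x ^ (j : ℕ))⁻¹)⁻¹ by group, hg,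
      hxc.inv_right.eq, mul_inv_cancel_right]
  · rw [mul_smul, hij, mul_smul, inv_smul_smul]

end Tri

end Cfsg.Lib.Fix4
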