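import Cfsg.Agent.Lib.Fix4.Three
import Mathlib.GroupTheory.Transfer

/-!
# Transfer to the three pairings of at most four points
-/

set_option autoImplicit false
set_option linter.unusedSectionVars false
set_option linter.style.haveILetI false

namespace Cfsg.Lib.Fix4

open MulAction Subgroup
open scoped Pointwise

universe u v

/-- The shift of the three pairings of four points under an even permutation. -/
def pairShift (p : Equiv.Perm (Fin 4)) : ZMod 3 :=
  if p 0 = 0 then ((p 1).val : ZMod 3) - 1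
  else if p 1 = 0 then ((p 0).val : ZMod 3) - 1
  else (6 - (p 0).val - (p 1).val : ℕ) - 1

set_option maxHeartbeats 1000000 in
theorem pairShift_mul : ∀ p q : Equiv.Perm (Fin 4), Equiv.Perm.sign p = 1 → Equiv.Perm.sign q = 1 →
    pairShift (p * q) = pairShift p + pairShift q := by decide +kernel

theorem pairShift_ne : ∀ p : Equiv.Perm (Fin 4), Equiv.Perm.sign p = 1 → p * p * p = 1 → p ≠ 1 →
    pairShift p ≠ 0 := by decide +kernel

/-- An invariant product under a permutation of order three with a single fixed point. -/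
theorem prod_eq_fixed {α A : Type*} [Fintype α] [CommGroup A] (hA : ∀ a : A, a ^ 3 = 1) (σ : Equiv.Perm α)
    (hσ : σ ^ 3 = 1) (f : α → A) (hf : ∀ q, f (σ q) = f q) {q0 : α} (h0 : σ q0 = q0)
    (huniq : ∀ q, σ q = q → q = q0) : ∏ q, f q = f q0 := by
  classical
  haveI : Fact (Nat.Prime 3) := ⟨Nat.prime_three⟩
  rw [← Finset.prod_fiberwise_of_maps_to (g := f) (t := Finset.univ.image f)
    (fun q _ => Finset.mem_image_of_mem f (Finset.mem_univ q))]
  have hcong : ∀ v : A, (Finset.univ.filter (fun q => f q = v)).card ≡ (if f q0 = v then 1 else 0) [MOD 3] := by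
    intro v
    let σv : Equiv.Perm {q : α // f q = v} := σ.subtypePerm fun q => by rw [hf]
    have hpow : σv ^ 3 ^ 1 = 1 := by
      ext q
      rw [pow_one, Equiv.Perm.subtypePerm_pow]
      simp [hσ]
    have h := Equiv.Perm.card_compl_support_modEq hpow
    rw [Fintype.card_subtype] at h
    refine h.symm.trans ?_
    have hc : σv.supportᶜ = Finset.univ.filter (fun q : {q : α // f q = v} => q.1 = q0) := by
      ext q
      simp only [Finset.mem_compl, Equiv.Perm.mem_support, not_not, Finset.mem_filter, Finset.mem_univ, true_and]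
      refine ⟨fun e => huniq _ (congrArg Subtype.val e), fun e => Subtype.ext ?_⟩
      show σ q.1 = q.1
      rw [e, h0]
    rw [hc]
    by_cases hv : f q0 = v
    · rw [if_pos hv]
      refine congrArg (· % 3) ?_
      rw [Finset.card_eq_one]
      exact ⟨⟨q0, hv⟩, by ext q; simp [Subtype.ext_iff]⟩
    · rw [if_neg hv]
      refine congrArg (· % 3) ?_
      rw [Finset.card_eq_zero, Finset.filter_eq_empty_iff]
      exact fun q _ e => hv (e ▸ q.2)
  rw [Finset.prod_congr rfl (g := fun v => if f q0 = v then v else 1) fun v _ => ?_, Finset.prod_ite_eq,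
    if_pos (Finset.mem_image_of_mem f (Finset.mem_univ q0))]
  rw [Finset.prod_congr rfl (fun q hq => (Finset.mem_filter.1 hq).2), Finset.prod_const]
  have key : ∀ {a b : ℕ}, a ≡ b [MOD 3] → v ^ a = v ^ b := by
    intro a b h
    rw [← Nat.mod_add_div a 3, ← Nat.mod_add_div b 3, pow_add, pow_add, pow_mul, pow_mul, hA, one_pow, one_pow, h]
  rw [key (hcong v)]
  split <;> simp

variable {G : Type u} {Ω : Type v} [Group G] [Finite G] [MulAction G Ω] [Finite Ω]

namespace Tri

variable (T : Tri G Ω)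
include T

/-- If the big elements of a Sylow 3-subgroup share their fixed points with a central one, while some other
element of order three does not fix them, the group is not simple. -/
theorem no_transfer [IsSimpleGroup G] (hna : ¬ IsMulCommutative G) (P : Sylow 3 G) {z x : G}
    (hz : Big Ω z) (hzc : ∀ p ∈ (P : Subgroup G), Commute z p) (hzP : z ∈ (P : Subgroup G))
    (hxP : x ∈ (P : Subgroup G)) (hx3 : x ^ 3 = 1) (hmove : ¬ fixedBy Ω z ⊆ fixedBy Ω x)
    (hall : ∀ w ∈ (P : Subgroup G), Big Ω w → fixedBy Ω w = fixedBy Ω z) : False := by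
  classical
  haveI : Fact (Nat.Prime 3) := ⟨Nat.prime_three⟩
  set Δ := fixedBy Ω z with hΔ
  set H := stabilizer G Δ with hH
  have hPH : (P : Subgroup G) ≤ H := fun p hp => stab_fix_of_comm (hzc p hp).symm
  obtain ⟨d, hd, hxd⟩ := Set.not_subset.1 hmove
  have hxd : x • d ≠ d := hxd
  letI := Fintype.ofFinite Δ
  obtain ⟨ι⟩ : Nonempty (Δ ↪ Fin 4) := Function.Embedding.nonempty_of_card_le (by
    rw [Fintype.card_fin, ← Nat.card_eq_fintype_card, Nat.card_coe_set_eq]
    exact T.big_le_four hz)
  letI act : MulAction H Δ :=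
    { smul := fun k x => ⟨(k : G) • x.1, stab_smul_mem k.2 x.2⟩
      one_smul := fun x => Subtype.ext (one_smul _ _)
      mul_smul := fun a b x => Subtype.ext (mul_smul _ _ _) }
  set ρ : H →* Equiv.Perm (Fin 4) := (Equiv.Perm.viaEmbeddingHom ι).comp (toPermHom H Δ) with hρ
  have hρa : ∀ (h : H) (e : Δ), ρ h (ι e) = ι ⟨(h : G) • e.1, stab_smul_mem h.2 e.2⟩ := fun h e =>
    Equiv.Perm.viaEmbedding_apply _ ι e
  -- all permutations induced are even
  have hodd : ∀ (h : H) (e : Ω), (h : G) • e = e → Equiv.Perm.sign (ρ h) = 1 := by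
    intro h e he
    obtain ⟨r, hr⟩ := T.odd _ e he
    have h1 : Equiv.Perm.sign (ρ h) ^ orderOf (h : G) = 1 := by
      rw [← map_pow, ← map_pow, show h ^ orderOf (h : G) = 1 from Subtype.ext (pow_orderOf_eq_one _), map_one,
        map_one]
    rw [hr, pow_succ, pow_mul, Int.units_sq, one_pow, one_mul] at h1
    exact h1
  set xH : H := ⟨x, hPH hxP⟩ with hxH
  have hsx : Equiv.Perm.sign (ρ xH) = 1 := by
    have h1 : Equiv.Perm.sign (ρ xH) ^ 3 = 1 := by
      rw [← map_pow, ← map_pow, show xH ^ 3 = 1 from Subtype.ext hx3, map_one, map_one]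
    rw [pow_succ, Int.units_sq, one_mul] at h1
    exact h1
  have heven : ∀ h : H, Equiv.Perm.sign (ρ h) = 1 := by
    intro h
    obtain ⟨i, j, hij⟩ := meet (T.big_le_four hz) hx3 (hPH hxP) hd hxd h.2
    have h1 := hodd (xH ^ (i : ℕ) * (xH ^ (j : ℕ))⁻¹ * h) (x ^ (i : ℕ) • d) (by
      show (x ^ (i : ℕ) * (x ^ (j : ℕ))⁻¹ * (h : G)) • (x ^ (i : ℕ) • d) = _
      rw [mul_smul, hij, mul_smul, inv_smul_smul])
    simpa [map_mul, map_inv, map_pow, hsx] using h1
  set φ : H →* Multiplicative (ZMod 3) := MonoidHom.mk' (fun h => Multiplicative.ofAdd (pairShift (ρ h)))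
    (fun a b => by rw [map_mul, pairShift_mul _ _ (heven a) (heven b), ofAdd_add]) with hφ
  have hA : ∀ v : Multiplicative (ZMod 3), v ^ 3 = 1 := fun v => by
    refine Multiplicative.toAdd.injective ?_
    rw [toAdd_pow, toAdd_one]
    rw [nsmul_eq_mul, ZMod.natCast_self, zero_mul]
  have hφx : φ xH ≠ 1 := by
    intro e
    refine pairShift_ne _ hsx ?_ ?_ (congrArg Multiplicative.toAdd e)
    · rw [← map_mul, ← map_mul, show xH * xH * xH = 1 from Subtype.ext (by
        show x * x * x = 1
        rw [← pow_two, ← pow_succ, hx3]), map_one]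
    · intro e1
      have := hρa xH ⟨d, hd⟩
      rw [e1, Equiv.Perm.one_apply] at this
      exact hxd (congrArg Subtype.val (ι.injective this)).symm
  -- elements stabilizing a translate
  have hstar : ∀ g : G, z ∈ stabilizer G (g • Δ) → g ∈ H := by
    intro g hg
    have hw : g⁻¹ * z * g ∈ H := by
      rw [hH, mem_stab_set, mul_smul, mul_smul, mem_stab_set.1 hg, inv_smul_smul]
    obtain ⟨h, hh, hh'⟩ := conj_elem P (H := H) hPH hw ⟨1, by
      rw [pow_one, show g⁻¹ * z * g = g⁻¹ * z * g⁻¹⁻¹ by rw [inv_inv], conj_pow, hz.1, mul_one, mul_inv_cancel]⟩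
    have hb : Big Ω (h * (g⁻¹ * z * g) * h⁻¹) := by
      have := big_conj (big_conj hz g⁻¹) h
      rwa [inv_inv] at this
    have e := hall _ hh' hb
    have e' : h * (g⁻¹ * z * g) * h⁻¹ = (h * g⁻¹) * z * (h * g⁻¹)⁻¹ := by group
    rw [e', ← smul_fixedBy, ← hΔ, mul_smul] at e
    rw [hH, mem_stab_set]
    have e2 := congrArg (h⁻¹ • ·) e
    simp only [inv_smul_smul] at e2
    rw [mem_stab_set.1 (inv_mem hh), inv_smul_eq_iff] at e2
    exact e2.symm
  -- transfer
  set Q := G ⧸ H
  haveI := Fintype.ofFinite Q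
  set V := MonoidHom.transfer φ
  have hVx : V x = 1 := by
    rcases (Subgroup.Normal.eq_bot_or_eq_top (inferInstance : V.ker.Normal)) with h | h
    · exact absurd ⟨⟨fun a b => (MonoidHom.ker_eq_bot_iff V).1 h (by rw [map_mul, map_mul, mul_comm])⟩⟩ hna
    · exact MonoidHom.mem_ker.1 (h.symm ▸ mem_top x : x ∈ V.ker)
  have hmem : ∀ g : G, x • (QuotientGroup.mk g : Q) = QuotientGroup.mk g ↔ g⁻¹ * x * g ∈ H := by
    intro g
    show (QuotientGroup.mk (x * g) : Q) = _ ↔ _
    rw [QuotientGroup.eq, show (x * g)⁻¹ * g = (g⁻¹ * x * g)⁻¹ by group, inv_mem_iff]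
  have hout : ∀ q : Q, x • q = q → q.out⁻¹ * x * q.out ∈ H := fun q hq =>
    (hmem q.out).1 (by rwa [QuotientGroup.out_eq'])
  let F : Q → Multiplicative (ZMod 3) := fun q => if h : x • q = q then φ ⟨_, hout q h⟩ else 1
  have hFmk : ∀ (g : G) (hg : g⁻¹ * x * g ∈ H), F (QuotientGroup.mk g) = φ ⟨_, hg⟩ := by
    intro g hg
    have hq := (hmem g).2 hg
    simp only [F, dif_pos hq]
    have hpx : ((QuotientGroup.mk g : Q).out)⁻¹ * g ∈ H := QuotientGroup.eq.1 (QuotientGroup.out_eq' _)
    have e : (⟨_, hout _ hq⟩ : H) = ⟨_, hpx⟩ * ⟨_, hg⟩ * (⟨_, hpx⟩ : H)⁻¹ := by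
      refine Subtype.ext ?_
      show _ = ((QuotientGroup.mk g : Q).out)⁻¹ * g * (g⁻¹ * x * g) * (((QuotientGroup.mk g : Q).out)⁻¹ * g)⁻¹
      group
    rw [e, map_mul, map_mul, map_inv, mul_comm (φ ⟨_, hpx⟩), mul_inv_cancel_right]
  have hVF : V x = ∏ q : Q, F q := by
    letI := Fintype.ofFinite (Quotient (orbitRel (zpowers x) Q))
    letI : ∀ q : Quotient (orbitRel (zpowers x) Q), Fintype (orbit (zpowers x) q.out) := fun q => Fintype.ofFinite _
    rw [MonoidHom.transfer_eq_prod_quotient_orbitRel_zpowers_quot, ← Fintype.prod_equiv (selfEquivSigmaOrbits (zpowers x) Q).symm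
      (fun w => F ((selfEquivSigmaOrbits (zpowers x) Q).symm w)) F (fun _ => rfl), Fintype.prod_sigma]
    refine Finset.prod_congr rfl fun q _ => ?_
    set L := Function.minimalPeriod (x • ·) q.out with hL
    have hL3 : L ∣ 3 := by
      refine Function.IsPeriodicPt.minimalPeriod_dvd ?_
      show (x • ·)^[3] _ = _
      rw [smul_iterate_apply, hx3, one_smul]
    by_cases hfixq : x • q.out = q.out
    · have hL1 : L = 1 := Function.minimalPeriod_eq_one_iff_isFixedPt.2 hfixq
      have hsub : ∀ w : orbit (zpowers x) q.out, (w : Q) = q.out := by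
        rintro ⟨_, ⟨⟨_, i, rfl⟩, rfl⟩⟩
        show x ^ i • q.out = q.out
        exact (zpow_mem (show x ∈ stabilizer G q.out from hfixq) i : _)
      letI : Unique (orbit (zpowers x) q.out) :=
        ⟨⟨⟨q.out, mem_orbit_self _⟩⟩, fun w => Subtype.ext (hsub w)⟩
      rw [Fintype.prod_unique]
      show _ = F q.out
      simp only [F, dif_pos hfixq]
      refine congrArg φ (Subtype.ext ?_)
      show q.out.out⁻¹ * x ^ L * q.out.out = _
      rw [hL1, pow_one]
    · have hL3' : L = 3 := ((Nat.dvd_prime Nat.prime_three).1 hL3).resolve_left fun e =>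
        hfixq (Function.minimalPeriod_eq_one_iff_isFixedPt.1 e)
      rw [Finset.prod_eq_one fun w _ => ?_]
      · rw [show (⟨_, _⟩ : H) = 1 from Subtype.ext (show q.out.out⁻¹ * x ^ L * q.out.out = 1 by
          rw [hL3', hx3, mul_one, inv_mul_cancel]), map_one]
      · show F (w : Q) = 1
        have hw : x • (w : Q) ≠ (w : Q) := by
          obtain ⟨⟨_, i, rfl⟩, hi⟩ := w.2
          intro h
          refine hfixq ?_
          rw [← hi] at h
          have h : x • x ^ i • q.out = x ^ i • q.out := h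
          rw [smul_smul, ← (Commute.refl x).zpow_left i |>.eq, mul_smul] at h
          exact smul_left_cancel _ h
        simp only [F, dif_neg hw]
  have hzx : Commute z x := hzc x hxP
  have hF : ∀ q : Q, F (z • q) = F q := by
    intro q
    by_cases hq : x • q = q
    · have hg := hout q hq
      have hg' : (z * q.out)⁻¹ * x * (z * q.out) ∈ H := by
        rwa [show (z * q.out)⁻¹ * x * (z * q.out) = q.out⁻¹ * (z⁻¹ * (x * z)) * q.out by group, ← hzx.eq,
          inv_mul_cancel_left]
      calc F (z • q) = F (QuotientGroup.mk (z * q.out)) := by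
            conv_lhs => rw [← QuotientGroup.out_eq' q]
            rfl
        _ = φ ⟨_, hg'⟩ := hFmk _ hg'
        _ = φ ⟨_, hg⟩ := by
            refine congrArg φ (Subtype.ext ?_)
            show (z * q.out)⁻¹ * x * (z * q.out) = _
            rw [show (z * q.out)⁻¹ * x * (z * q.out) = q.out⁻¹ * (z⁻¹ * (x * z)) * q.out by group, ← hzx.eq,
              inv_mul_cancel_left]
        _ = F q := by simp only [F, dif_pos hq]
    · have hq' : ¬ x • z • q = z • q := fun e => hq (smul_left_cancel z (by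
        rw [smul_smul, hzx.eq, mul_smul]; exact e))
      simp only [F, dif_neg hq, dif_neg hq']
  have hσ : (toPermHom G Q z) ^ 3 = 1 := by rw [← map_pow, hz.1, map_one]
  have hzH : z ∈ H := hPH hzP
  have hfix0 : (toPermHom G Q z) (QuotientGroup.mk 1 : Q) = QuotientGroup.mk 1 := by
    show (QuotientGroup.mk (z * 1) : Q) = _
    rw [QuotientGroup.eq, mul_one, mul_one]
    exact inv_mem hzH
  have h0 := prod_eq_fixed hA (toPermHom G Q z) hσ F hF hfix0 fun q hq => by
    have hq : z • q = q := hq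
    rw [← QuotientGroup.out_eq' q, QuotientGroup.eq, mul_one]
    refine inv_mem (hstar q.out ?_)
    rw [mem_stab_set, ← mul_smul]
    have e : (QuotientGroup.mk (z * q.out) : Q) = QuotientGroup.mk q.out := by
      conv_rhs => rw [QuotientGroup.out_eq', ← hq, ← QuotientGroup.out_eq' q]
      rfl
    have e' := mem_stab_set.1 (QuotientGroup.eq.1 e.symm)
    rw [mul_smul, inv_smul_eq_iff] at e'
    exact e'
  rw [← hVF, hVx, hFmk 1 (by simpa using hPH hxP)] at h0
  exact hφx ((congrArg φ (Subtype.ext (show (1 : G)⁻¹ * x * 1 = x by group))).symm.trans h0.symm)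

end Tri

end Cfsg.Lib.Fix4
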