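import Cfsg.Agent.Lib.Fix4.ThreeHom
import Cfsg.Agent.Lib.Fix4.MaxClass

/-!
# The Sylow 3-subgroup in an action of fixity four with stabilizers of odd order
-/

set_option autoImplicit false
set_option linter.unusedSectionVars false
set_option linter.style.haveILetI false

namespace Cfsg.Lib.Fix4

open MulAction Subgroup
open scoped Pointwise

universe u v

variable {G : Type u} [Group G] [Finite G]

/-- The elements of a small 3-group containing two independent elements of order three. -/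
theorem nine {P C : Subgroup G} (hP : IsPGroup 3 P) (hCP : C ≤ P) (hC : Nat.card C ≤ 9) {z s : G} (hz : z ∈ C)
    (hs : s ∈ C) (hz3 : z ^ 3 = 1) (hs3 : s ^ 3 = 1) (hz1 : z ≠ 1) (hsz : s ∉ zpowers z) :
    Nat.card C = 9 ∧ (∀ a ∈ C, ∀ b ∈ C, Commute a b) ∧ (∀ g ∈ C, g ^ 3 = 1) ∧
      ∀ g ∈ C, ∃ i j : Fin 3, g = z ^ (i : ℕ) * s ^ (j : ℕ) := by
  classical
  haveI : Fact (Nat.Prime 3) := ⟨Nat.prime_three⟩
  have hzo : orderOf z = 3 := orderOf_eq_prime hz3 hz1
  have hle : zpowers z ≤ C := zpowers_le.2 hz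
  have hlt : Nat.card (zpowers z) < Nat.card C := by
    refine lt_of_le_of_ne (card_le_of_le hle) fun e => hsz ?_
    rw [eq_of_le_of_card_ge hle e.ge]
    exact hs
  rw [Nat.card_zpowers, hzo] at hlt
  have hC9 : Nat.card C = 9 := by
    rcases three_pow_cases (three_le_pow hP hCP) (by omega) with h | h | h <;> omega
  haveI : IsMulCommutative C := IsPGroup.isMulCommutative_of_card_eq_prime_sq (p := 3) (by rw [hC9]; norm_num)
  have hcomm : ∀ a ∈ C, ∀ b ∈ C, Commute a b := fun a ha b hb =>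
    congrArg Subtype.val (mul_comm' (⟨a, ha⟩ : C) ⟨b, hb⟩)
  let f : Fin 3 × Fin 3 → C := fun ij => ⟨z ^ (ij.1 : ℕ) * s ^ (ij.2 : ℕ), C.mul_mem (C.pow_mem hz _) (C.pow_mem hs _)⟩
  have hzinj : ∀ i j : Fin 3, z ^ (i : ℕ) = z ^ (j : ℕ) → i = j := fun i j e =>
    Fin.ext (pow_injOn_Iio_orderOf (show (i : ℕ) < orderOf z by rw [hzo]; exact i.2)
      (show (j : ℕ) < orderOf z by rw [hzo]; exact j.2) e)
  have hs2 : s ^ 2 ∉ zpowers z := fun h => hsz (by
    have := mul_mem h h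
    rwa [← pow_add, show 2 + 2 = 3 + 1 from rfl, pow_succ, hs3, one_mul] at this)
  have hf : Function.Injective f := by
    rintro ⟨i, j⟩ ⟨i', j'⟩ e
    have e : z ^ (i : ℕ) * s ^ (j : ℕ) = z ^ (i' : ℕ) * s ^ (j' : ℕ) := congrArg Subtype.val e
    have hjj : j = j' := by
      by_contra hne
      have h : (z ^ (i' : ℕ))⁻¹ * z ^ (i : ℕ) = s ^ (j' : ℕ) * (s ^ (j : ℕ))⁻¹ := by
        rw [eq_mul_inv_iff_mul_eq, mul_assoc, e, inv_mul_cancel_left]
      have hm : s ^ (j' : ℕ) * (s ^ (j : ℕ))⁻¹ ∈ zpowers z :=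
        h ▸ mul_mem (inv_mem (npow_mem_zpowers z _)) (npow_mem_zpowers z _)
      fin_cases j <;> fin_cases j' <;> simp only [pow_zero, pow_one, one_mul, mul_one, inv_one] at hm hne ⊢
      all_goals first
        | exact hne rfl
        | exact hne trivial
        | exact hsz hm
        | exact hsz (inv_mem_iff.1 hm)
        | exact hs2 hm
        | exact hs2 (inv_mem_iff.1 hm)
        | (rw [pow_two, mul_inv_cancel_right] at hm; exact hsz hm)
        | (rw [pow_two, mul_inv_rev, mul_inv_cancel_left] at hm; exact hsz (inv_mem_iff.1 hm))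
    subst hjj
    rw [hzinj i i' (mul_right_cancel e)]
  have hfs : Function.Surjective f := (Nat.bijective_iff_injective_and_card f).2 ⟨hf, by
    rw [Nat.card_prod, Nat.card_eq_fintype_card (α := Fin 3), Fintype.card_fin, hC9]⟩ |>.2
  refine ⟨hC9, hcomm, fun g hg => ?_, fun g hg => ?_⟩
  · obtain ⟨⟨i, j⟩, e⟩ := hfs ⟨g, hg⟩
    have e : z ^ (i : ℕ) * s ^ (j : ℕ) = g := congrArg Subtype.val e
    rw [← e, ((hcomm z hz s hs).pow_pow _ _).mul_pow, ← pow_mul, ← pow_mul, mul_comm (i : ℕ), mul_comm (j : ℕ), pow_mul,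
      pow_mul, hz3, hs3, one_pow, one_pow, one_mul]
  · obtain ⟨⟨i, j⟩, e⟩ := hfs ⟨g, hg⟩
    exact ⟨i, j, (congrArg Subtype.val e).symm⟩

/-- An element of odd order fixing `s` and moving `z` inside `⟨z, s⟩` gives a shear. -/
theorem shear {r z s : G} (hr : Odd (orderOf r)) (hzs : Commute z s) (hz3 : z ^ 3 = 1) (hs3 : s ^ 3 = 1)
    (hrs : Commute r s) (hrz : ¬ Commute r z) (hzS : z ∉ zpowers s) (i j : Fin 3)
    (h : r * z * r⁻¹ = z ^ (i : ℕ) * s ^ (j : ℕ)) :
    ∃ r' : G, (r' = r ∨ r' = r⁻¹) ∧ r' * z * r'⁻¹ = z * s := by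
  have hsr : ∀ k : ℕ, r * s ^ k * r⁻¹ = s ^ k := fun k => by rw [(hrs.pow_right k).eq, mul_inv_cancel_right]
  have hne : r * z * r⁻¹ ≠ z := fun e => hrz (mul_inv_eq_iff_eq_mul.1 e)
  fin_cases i <;> simp only [pow_zero, pow_one, one_mul] at h
  · exfalso
    refine hzS ?_
    have hz : z = r⁻¹ * s ^ (j : ℕ) * r := by rw [← h]; group
    rw [hz, show r⁻¹ * s ^ (j : ℕ) * r = r⁻¹ * (s ^ (j : ℕ) * r) by group, ← (hrs.pow_right _).eq, inv_mul_cancel_left]
    exact npow_mem_zpowers s _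
  · fin_cases j <;> simp only [pow_zero, pow_one, mul_one] at h
    · exact absurd h hne
    · exact ⟨r, Or.inl rfl, h⟩
    · refine ⟨r⁻¹, Or.inr rfl, ?_⟩
      have h1 : z = r⁻¹ * (z * s ^ 2) * r := by rw [← h]; group
      have h2 : r⁻¹ * (z * s ^ 2) * r = (r⁻¹ * z * r) * s ^ 2 := by
        rw [show r⁻¹ * (z * s ^ 2) * r = r⁻¹ * z * (s ^ 2 * r) by group, ← (hrs.pow_right 2).eq]; group
      rw [h2] at h1
      rw [inv_inv, ← mul_inv_eq_of_eq_mul h1]
      rw [show (s ^ 2)⁻¹ = s from inv_eq_of_mul_eq_one_right (by rw [← pow_succ, hs3])]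
  · exfalso
    obtain ⟨q, hq⟩ := hr
    have h2 : Commute (r ^ 2) z := by
      refine mul_inv_eq_iff_eq_mul.1 ?_
      have hconj : r * z ^ 2 * r⁻¹ = (z ^ 2 * s ^ (j : ℕ)) ^ 2 := by rw [← conj_pow, h]
      calc r ^ 2 * z * (r ^ 2)⁻¹ = r * (r * z * r⁻¹) * r⁻¹ := by rw [pow_two]; group
        _ = (r * z ^ 2 * r⁻¹) * (r * s ^ (j : ℕ) * r⁻¹) := by rw [h]; group
        _ = z := by
          rw [hconj, hsr, ((hzs.pow_pow 2 _)).mul_pow, mul_assoc, ← pow_mul, ← pow_mul, ← pow_add,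
            show (j : ℕ) * 2 + (j : ℕ) = 3 * (j : ℕ) by ring, pow_mul s 3, hs3, one_pow, mul_one,
            show 2 * 2 = 3 + 1 from rfl, pow_succ, hz3, one_mul]
    refine hrz ?_
    have : r = (r ^ 2) ^ (q + 1) := by
      rw [← pow_mul, show 2 * (q + 1) = orderOf r + 1 by omega, pow_succ, pow_orderOf_eq_one, one_mul]
    rw [this]
    exact h2.pow_left _

theorem odd_of_pgroup {P : Subgroup G} (hP : IsPGroup 3 P) {r : G} (hr : r ∈ P) : Odd (orderOf r) := by
  obtain ⟨m, hm⟩ := hP ⟨r, hr⟩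
  have hm : r ^ 3 ^ m = 1 := congrArg Subtype.val hm
  exact Odd.of_dvd_nat (Odd.pow (by decide)) (orderOf_dvd_of_pow_eq_one hm)

variable {Ω : Type v} [MulAction G Ω] [Finite Ω]

namespace Tri

variable (T : Tri G Ω)
include T

/-- A central big element bounds the centralizers of the others. -/
theorem cent_small (P : Sylow 3 G) {z s : G} (hz : Big Ω z) (hzc : ∀ p ∈ (P : Subgroup G), Commute z p)
    (hs : s ∈ (P : Subgroup G)) (hsb : Big Ω s) (hne : fixedBy Ω s ≠ fixedBy Ω z) :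
    Nat.card (cent (P : Subgroup G) s) ≤ 9 := by
  obtain ⟨e, he, heΔ⟩ := Set.not_subset.1 fun h : fixedBy Ω s ⊆ fixedBy Ω z =>
    hne (T.big_max hsb hz.1 hz.2.1 h).symm
  set U := (P : Subgroup G) ⊓ fixingSubgroup G (fixedBy Ω z)
  have hU := T.big_le_four hz |> fun h => kernel_bound P.isPGroup' h fun k hk => stab_fix_of_comm (hzc k hk).symm
  have hdis : st (P : Subgroup G) e ⊓ U = ⊥ := (eq_bot_iff_forall _).2 fun u hu => by
    by_contra hu1
    exact heΔ (T.semi P.isPGroup' hz hu.1.1 hu1 (fun x hx => (mem_fixingSubgroup_iff G).1 hu.2.2 x hx) hu.1.2)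
  have h1 := card_mul_le (A := st (P : Subgroup G) e) (B := U) (C := (P : Subgroup G)) inf_le_left inf_le_left
  rw [hdis, card_bot, mul_one] at h1
  have he3 : Nat.card (st (P : Subgroup G) e) ≤ 3 :=
    Nat.le_of_mul_le_mul_right (h1.trans hU) Nat.card_pos
  obtain ⟨o, ho1, ho, hod, hC⟩ := orbit_le (C := cent (P : Subgroup G) s) he (cent_invariant s)
  obtain ⟨k, hk⟩ := three_le_pow P.isPGroup' (K := cent (P : Subgroup G) s) inf_le_left
  have ho4 := ho.trans (T.big_le_four hsb)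
  rw [hk] at hod
  obtain ⟨j, -, hj⟩ := (Nat.dvd_prime_pow Nat.prime_three).1 hod
  have ho3 : o ≤ 3 := by
    rcases three_pow_cases ⟨j, hj⟩ (by omega) with h | h | h <;> omega
  have hle : st (cent (P : Subgroup G) s) e ≤ st (P : Subgroup G) e := fun x hx => ⟨hx.1.1, hx.2⟩
  rw [hC]
  exact (Nat.mul_le_mul ho3 ((card_le_of_le hle).trans he3)).trans (by norm_num)

/-- Without a central big element, big elements have small centralizers and are moved by the centre. -/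
theorem cent_small_none (P : Sylow 3 G) (hnone : ∀ z ∈ (P : Subgroup G),
    (∀ p ∈ (P : Subgroup G), Commute z p) → ¬ Big Ω z) {t : G} (ht : t ∈ (P : Subgroup G)) (htb : Big Ω t) :
    Nat.card (cent (P : Subgroup G) t) ≤ 9 ∧ ∃ z ∈ (P : Subgroup G), z ^ 3 = 1 ∧ z ≠ 1 ∧ Commute z t ∧
      (∀ p ∈ (P : Subgroup G), Commute z p) ∧ ¬ fixedBy Ω t ⊆ fixedBy Ω z := by
  haveI : Fact (Nat.Prime 3) := ⟨Nat.prime_three⟩
  haveI : Group.IsNilpotent (P : Subgroup G) := P.isPGroup'.isNilpotent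
  have hcen : ∀ W : Subgroup G, W ≤ (P : Subgroup G) → W ≠ ⊥ →
      (∀ g ∈ (P : Subgroup G), ∀ w ∈ W, g * w * g⁻¹ ∈ W) →
      ∃ z ∈ W, z ^ 3 = 1 ∧ z ≠ 1 ∧ ∀ p ∈ (P : Subgroup G), Commute z p := by
    intro W hW hne hn
    haveI : (W.subgroupOf (P : Subgroup G)).Normal := ⟨fun w hw g => hn g g.2 w hw⟩
    have hne' : W.subgroupOf (P : Subgroup G) ≠ ⊥ := fun h => hne ((eq_bot_iff_forall _).2 fun w hw =>
      congrArg Subtype.val (mem_bot.1 (h.le (mem_subgroupOf.2 hw : (⟨w, hW hw⟩ : (P : Subgroup G)) ∈ _))))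
    obtain ⟨z, hz, hzc, hzo⟩ := Cfsg.Lib.PGroup.exists_mem_center_orderOf_eq P.isPGroup' hne'
    have hzo' : orderOf (z : G) = 3 := by rw [orderOf_coe, hzo]
    exact ⟨z, hz, by have := pow_orderOf_eq_one (z : G); rwa [hzo'] at this, ne_one_of_prime Nat.prime_three hzo',
      fun p hp => congrArg Subtype.val (Subgroup.mem_center_iff.1 hzc ⟨p, hp⟩).symm⟩
  obtain ⟨z, hzP, hz3, hz1, hzc⟩ := hcen (P : Subgroup G) le_rfl (fun e => htb.2.1 (mem_bot.1 (e ▸ ht)))
    fun g hg w hw => mul_mem (mul_mem hg hw) (inv_mem hg)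
  refine ⟨?_, z, hzP, hz3, hz1, hzc t ht, hzc, fun h => hnone z hzP hzc
    ⟨hz3, hz1, htb.2.2.trans (Set.ncard_le_ncard h (Set.toFinite _))⟩⟩
  set Δ := fixedBy Ω t with hΔ
  set N := (P : Subgroup G) ⊓ stabilizer G Δ with hN
  set V := N ⊓ fixingSubgroup G Δ with hV
  have hCN : cent (P : Subgroup G) t ≤ N := fun c hc => ⟨hc.1, stab_fix_of_comm (mem_cent.1 hc).2⟩
  have hNV := kernel_bound (Ω := Ω) (P.isPGroup'.to_le (inf_le_left : N ≤ _)) (T.big_le_four htb) fun k hk => hk.2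
  have htV : t ∈ V := ⟨hCN (mem_cent.2 ⟨ht, Commute.refl t⟩), (mem_fixingSubgroup_iff G).2 fun x hx => hx⟩
  have hVfix : ∀ v ∈ V, Δ ⊆ fixedBy Ω v := fun v hv x hx => (mem_fixingSubgroup_iff G).1 hv.2 x hx
  have hconjV : ∀ g ∈ N, ∀ v ∈ V, g * v * g⁻¹ ∈ V := fun g hg v hv =>
    ⟨N.mul_mem (N.mul_mem hg hv.1) (N.inv_mem hg), (mem_fixingSubgroup_iff G).2 fun x hx => by
      show x ∈ fixedBy Ω (g * v * g⁻¹)
      rw [mem_conj]
      exact hVfix v hv (stab_smul_mem (inv_mem hg.2) hx)⟩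
  obtain ⟨g, hg, hgN, hgn⟩ : ∃ g ∈ (P : Subgroup G), g ∉ N ∧ ∀ n ∈ N, g * n * g⁻¹ ∈ N := by
    have hlt : N.subgroupOf (P : Subgroup G) < ⊤ := by
      refine lt_top_iff_ne_top.2 fun e => ?_
      have hle : (P : Subgroup G) ≤ N := fun p hp => mem_subgroupOf.1 (e.ge (mem_top (⟨p, hp⟩ : (P : Subgroup G))))
      obtain ⟨w, hw, hw3, hw1, hwc⟩ := hcen V (inf_le_left.trans inf_le_left)
        (fun e => htb.2.1 (mem_bot.1 (e ▸ htV))) fun g hg v hv => hconjV g (hle hg) v hv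
      exact hnone w hw.1.1 hwc ⟨hw3, hw1, htb.2.2.trans (Set.ncard_le_ncard (hVfix w hw) (Set.toFinite _))⟩
    obtain ⟨g, hgn, hgN⟩ := SetLike.exists_of_lt (Group.normalizerCondition_of_isNilpotent _ hlt)
    exact ⟨g, g.2, hgN, fun n hn => mem_subgroupOf.1 ((mem_normalizer_iff.1 hgn (⟨n, hn.1⟩ : (P : Subgroup G))).1
      (mem_subgroupOf.2 hn))⟩
  set V' := V.map (MulAut.conj g).toMonoidHom with hV'
  have hV'N : V' ≤ N := by rintro _ ⟨v, hv, rfl⟩; exact hgn v hv.1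
  have hdis : V ⊓ V' = ⊥ := (eq_bot_iff_forall _).2 fun w hw => by
    obtain ⟨hw1, v, hv, rfl⟩ := hw
    by_contra hne
    obtain ⟨k, hk, hk1⟩ := exists_three_pow P.isPGroup' (hw1.1.1) hne
    have hw' : Δ ⊆ fixedBy Ω ((g * v * g⁻¹) ^ k) := fun x hx => fix_pow (hVfix _ hw1 hx) k
    have hv' : Δ ⊆ fixedBy Ω (v ^ k) := fun x hx => fix_pow (hVfix v hv hx) k
    have e1 := T.big_max htb hk hk1 hw'
    have e2 := T.big_max htb (w := v ^ k) (by
      have h : (g * v * g⁻¹) ^ k = g * v ^ k * g⁻¹ := conj_pow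
      have h' : ((MulAut.conj g).toMonoidHom v) ^ k = g * v ^ k * g⁻¹ := h
      rw [h', conj_pow, conj_eq_one_iff] at hk; exact hk) (fun e => hk1 (by
      show (g * v * g⁻¹) ^ k = 1
      rw [conj_pow, e, mul_one, mul_inv_cancel])) hv'
    refine hgN ⟨hg, ?_⟩
    have e3 : fixedBy Ω (g * v ^ k * g⁻¹) = Δ := by rw [← conj_pow]; exact e1
    show g ∈ stabilizer G (fixedBy Ω t)
    rw [← e2]
    exact stab_fix_of_normalize (e3.trans e2.symm)
  have h1 := card_mul_le (A := V) (B := V') (C := N) inf_le_left hV'N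
  rw [hdis, card_bot, mul_one, hV', card_map_of_injective (MulAut.conj g).injective] at h1
  have h2 : Nat.card V ≤ 3 := Nat.le_of_mul_le_mul_right (h1.trans hNV) Nat.card_pos
  exact (card_le_of_le hCN).trans (hNV.trans (Nat.mul_le_mul_left 3 h2))

/-- **The Sylow 3-subgroup.** -/
theorem main [FaithfulSMul G Ω] [IsSimpleGroup G] (hna : ¬ IsMulCommutative G) (htr : IsPretransitive G Ω)
    (P : Sylow 3 G) (hex : ∃ (g : G) (e : Ω), orderOf g = 3 ∧ g • e = e) :
    (∃ H : Subgroup G, H ≠ ⊤ ∧ 3 ∣ Nat.card H ∧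
      ∀ g : G, g ∉ H → ¬ 3 ∣ Nat.card ↥(H ⊓ H.map (MulAut.conj g).toMonoidHom)) ∨
    (Nat.card (P : Subgroup G) = 9 ∧ ∀ x ∈ (P : Subgroup G), x ^ 3 = 1) := by
  classical
  haveI : Fact (Nat.Prime 3) := ⟨Nat.prime_three⟩
  obtain ⟨g, e, hgo, hge⟩ := hex
  have h3G : 3 ∣ Nat.card G := hgo ▸ orderOf_dvd_natCard g
  obtain ⟨h, -, hgP⟩ := conj_elem P (H := ⊤) le_top (mem_top g) ⟨1, by rw [pow_one, ← hgo, pow_orderOf_eq_one]⟩
  have hg3 : (h * g * h⁻¹) ^ 3 = 1 := by rw [conj_pow, ← hgo, pow_orderOf_eq_one, mul_one, mul_inv_cancel]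
  have hg1 : h * g * h⁻¹ ≠ 1 := fun e => ne_one_of_prime Nat.prime_three hgo (conj_eq_one_iff.1 e)
  have hgfix : (fixedBy Ω (h * g * h⁻¹)).Nonempty := ⟨h • e, by rw [mem_conj, inv_smul_smul]; exact hge⟩
  by_cases hemb : ∃ H : Subgroup G, H ≠ ⊤ ∧ 3 ∣ Nat.card H ∧
      ∀ g : G, g ∉ H → ¬ 3 ∣ Nat.card ↥(H ⊓ H.map (MulAut.conj g).toMonoidHom)
  · exact Or.inl hemb
  right
  have hsame : ∀ Δ : Set Ω, Δ.Nonempty → ¬ ∀ x ∈ (P : Subgroup G), orderOf x = 3 → fixedBy Ω x = Δ :=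
    fun Δ hne hall => hemb (embedded_of_same htr P hne h3G hall)
  have hP3 : 3 ≤ Nat.card (P : Subgroup G) := Nat.le_of_dvd Nat.card_pos (P.dvd_card_of_dvd_card h3G)
  haveI : Nontrivial (P : Subgroup G) := Finite.one_lt_card_iff_nontrivial.1 (by omega)
  obtain ⟨z0, -, hz0c, hz0o⟩ := Cfsg.Lib.PGroup.exists_mem_center_orderOf_eq P.isPGroup'
    (show (⊤ : Subgroup (P : Subgroup G)) ≠ ⊥ from top_ne_bot)
  have hz0o' : orderOf (z0 : G) = 3 := by rw [orderOf_coe, hz0o]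
  have hz03 : (z0 : G) ^ 3 = 1 := by have := pow_orderOf_eq_one (z0 : G); rwa [hz0o'] at this
  have hz0comm : ∀ p ∈ (P : Subgroup G), Commute (z0 : G) p := fun p hp =>
    congrArg Subtype.val (Subgroup.mem_center_iff.1 hz0c ⟨p, hp⟩).symm
  obtain ⟨t, htP, ht⟩ : ∃ t ∈ (P : Subgroup G), Big Ω t := by
    by_contra hno
    push Not at hno
    have hsmall : ∀ x ∈ (P : Subgroup G), x ^ 3 = 1 → x ≠ 1 →
        (fixedBy Ω x).ncard = (fixedBy Ω (h * g * h⁻¹)).ncard := by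
      intro x hx hx3 hx1
      have h1 : _ ≡ _ [MOD 3] := (fix_modEq (Ω := Ω) (p := 3) hx3).trans (fix_modEq (Ω := Ω) (p := 3) hg3).symm
      have h2 : (fixedBy Ω x).ncard < 3 := not_le.1 fun hle => hno x hx ⟨hx3, hx1, hle⟩
      have h3 : (fixedBy Ω (h * g * h⁻¹)).ncard < 3 := not_le.1 fun hle => hno _ hgP ⟨hg3, hg1, hle⟩
      simp only [Nat.ModEq] at h1
      omega
    have hz := hsmall _ z0.2 hz03 (ne_one_of_prime Nat.prime_three hz0o')
    have hne : (fixedBy Ω (z0 : G)).Nonempty :=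
      Set.nonempty_of_ncard_ne_zero (by rw [hz]; exact (Set.ncard_pos (Set.toFinite _)).2 hgfix |>.ne')
    refine hsame _ hne fun x hx hxo => ?_
    have hx3 : x ^ 3 = 1 := by rw [← hxo, pow_orderOf_eq_one]
    have hx1 := ne_one_of_prime Nat.prime_three hxo
    have hsub : fixedBy Ω (z0 : G) ⊆ fixedBy Ω x := by
      intro d hd
      obtain ⟨o, ho1, ho, hod, hcard⟩ := orbit_le (C := (P : Subgroup G)) hd
        fun p hp y hy => fix_comm (hz0comm p hp).symm hy
      have h3 : (fixedBy Ω (h * g * h⁻¹)).ncard < 3 := not_le.1 fun hle => hno _ hgP ⟨hg3, hg1, hle⟩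
      obtain ⟨k, hk⟩ := three_le_pow P.isPGroup' (K := (P : Subgroup G)) le_rfl
      rw [hk] at hod
      obtain ⟨j, -, hj⟩ := (Nat.dvd_prime_pow Nat.prime_three).1 hod
      rw [hz] at ho
      have ho' : o = 1 := by rcases three_pow_cases ⟨j, hj⟩ (by omega) with h | h | h <;> omega
      rw [ho', one_mul] at hcard
      have : st (P : Subgroup G) d = (P : Subgroup G) := eq_of_le_of_card_ge inf_le_left hcard.le
      exact (this.ge hx).2
    exact (Set.eq_of_subset_of_ncard_le hsub (by rw [hz, hsmall x hx hx3 hx1]) (Set.toFinite _)).symm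
  by_cases hcb : ∃ z ∈ (P : Subgroup G), (∀ p ∈ (P : Subgroup G), Commute z p) ∧ Big Ω z
  · obtain ⟨z, hzP, hzc, hz⟩ := hcb
    obtain ⟨x, hx, hxo, hxne⟩ : ∃ x ∈ (P : Subgroup G), orderOf x = 3 ∧ fixedBy Ω x ≠ fixedBy Ω z := by
      by_contra hno
      push Not at hno
      exact hsame _ (Set.nonempty_of_ncard_ne_zero (by have := hz.2.2; omega)) hno
    have hx3 : x ^ 3 = 1 := by rw [← hxo, pow_orderOf_eq_one]
    have hx1 := ne_one_of_prime Nat.prime_three hxo
    by_cases hs : ∃ s ∈ (P : Subgroup G), Big Ω s ∧ fixedBy Ω s ≠ fixedBy Ω z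
    swap
    · push Not at hs
      exact (T.no_transfer hna P hz hzc hzP hx hx3 (fun hle => hxne (T.big_max hz hx3 hx1 hle))
        hs).elim
    obtain ⟨s, hsP, hsb, hsne⟩ := hs
    have hC := T.cent_small P hz hzc hsP hsb hsne
    have hsz : s ∉ zpowers z := fun hm => hsne (T.big_max hz hsb.1 hsb.2.1 fun d hd => by
      obtain ⟨i, rfl⟩ := mem_zpowers_iff.1 hm
      exact (zpow_mem (show z ∈ stabilizer G d from hd) i : _))
    have hzC : z ∈ cent (P : Subgroup G) s := mem_cent.2 ⟨hzP, hzc s hsP⟩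
    have hsC : s ∈ cent (P : Subgroup G) s := mem_cent.2 ⟨hsP, Commute.refl s⟩
    obtain ⟨hC9, hCc, hCe, hClist⟩ := nine (C := cent (P : Subgroup G) s) P.isPGroup' inf_le_left hC hzC hsC hz.1 hsb.1 hz.2.1 hsz
    obtain ⟨k, hk⟩ := three_le_pow P.isPGroup' (K := (P : Subgroup G)) le_rfl
    by_cases h27 : Nat.card (P : Subgroup G) ≤ 26
    · have hP9 : Nat.card (P : Subgroup G) = 9 := by
        have : Nat.card (cent (P : Subgroup G) s) ≤ Nat.card (P : Subgroup G) := card_le_of_le inf_le_left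
        rcases three_pow_cases ⟨k, hk⟩ h27 with h | h | h <;> omega
      have hCP : cent (P : Subgroup G) s = (P : Subgroup G) := eq_of_le_of_card_ge inf_le_left (by omega)
      exact ⟨hP9, fun y hy => hCe y (hCP.ge hy)⟩
    exfalso
    have hsmove : ¬ fixedBy Ω s ⊆ fixedBy Ω z := fun hle => hsne (T.big_max hsb hz.1 hz.2.1 hle).symm
    refine small_cent_false hna P (by omega) hsP hsb.1 (T.no_inverter hsb (hzc s hsP) hz.1 hsmove) fun g hg => ?_
    by_cases hgs : fixedBy Ω (g * s * g⁻¹) ≠ fixedBy Ω z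
    · exact T.cent_small P hz hzc hg (big_conj hsb g) hgs
    by_contra hbig
    -- a 3-subgroup of the centralizer of `s` of order more than nine
    set E := cent (P : Subgroup G) s with hE
    have hEC : E ≤ centralizer ({s} : Set G) := inf_le_right
    obtain ⟨R0, hR0⟩ := ((P.isPGroup'.to_le (inf_le_left : E ≤ _)).of_equiv
      (subgroupOfEquivOfLe hEC).symm).exists_le_sylow
    set R := (R0 : Subgroup (centralizer ({s} : Set G))).map (centralizer ({s} : Set G)).subtype with hR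
    have hRp : IsPGroup 3 R := R0.isPGroup'.map _
    have hER : E ≤ R := fun w hw => ⟨⟨w, hEC hw⟩, hR0 (mem_subgroupOf.2 hw), rfl⟩
    have hRs : ∀ r ∈ R, Commute r s := by
      rintro _ ⟨r, -, rfl⟩
      exact mem_centralizer_singleton_iff.1 r.2
    have hR9 : 9 < Nat.card R := by
      set Y := (cent (P : Subgroup G) (g * s * g⁻¹)).map (MulAut.conj g⁻¹).toMonoidHom
      have hY : Nat.card Y = Nat.card (cent (P : Subgroup G) (g * s * g⁻¹)) :=
        card_map_of_injective (MulAut.conj g⁻¹).injective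
      have hYp : IsPGroup 3 Y := (P.isPGroup'.to_le inf_le_left).map _
      have hYC : Y ≤ centralizer ({s} : Set G) := by
        rintro _ ⟨c, hc, rfl⟩
        rw [mem_centralizer_singleton_iff]
        show g⁻¹ * c * g⁻¹⁻¹ * s = s * (g⁻¹ * c * g⁻¹⁻¹)
        calc g⁻¹ * c * g⁻¹⁻¹ * s = g⁻¹ * (c * (g * s * g⁻¹)) * g := by group
          _ = g⁻¹ * ((g * s * g⁻¹) * c) * g := by rw [(mem_cent.1 hc).2.eq]
          _ = s * (g⁻¹ * c * g⁻¹⁻¹) := by group
      obtain ⟨m, hm, hmem⟩ := conj_into (G := centralizer ({s} : Set G)) R0 (H := ⊤) le_top le_top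
        (Q := Y.subgroupOf (centralizer ({s} : Set G))) (hYp.of_equiv (subgroupOfEquivOfLe hYC).symm)
      have hle : Nat.card Y ≤ Nat.card R := by
        rw [← Nat.card_congr (subgroupOfEquivOfLe hYC).toEquiv, hR,
          card_map_of_injective (centralizer ({s} : Set G)).subtype_injective]
        exact Nat.card_le_card_of_injective (fun y => (⟨m * y.1 * m⁻¹, hmem _ y.2⟩ :
          (R0 : Subgroup (centralizer ({s} : Set G))))) fun a b e =>
          Subtype.ext (mul_left_cancel (mul_right_cancel (congrArg Subtype.val e)))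
      omega
    haveI : Group.IsNilpotent R := hRp.isNilpotent
    obtain ⟨r, hrR, hrE, hrn⟩ : ∃ r ∈ R, r ∉ E ∧ ∀ w ∈ E, r * w * r⁻¹ ∈ E := by
      have hlt : E.subgroupOf R < ⊤ := by
        refine lt_top_iff_ne_top.2 fun e => ?_
        have hle : R ≤ E := fun w hw => mem_subgroupOf.1 (e.ge (mem_top (⟨w, hw⟩ : R)))
        have := card_le_of_le hle
        omega
      obtain ⟨r, hrn, hrE⟩ := SetLike.exists_of_lt (Group.normalizerCondition_of_isNilpotent _ hlt)
      exact ⟨r, r.2, hrE, fun w hw => mem_subgroupOf.1 ((mem_normalizer_iff.1 hrn (⟨w, hER hw⟩ : R)).1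
        (mem_subgroupOf.2 hw))⟩
    by_cases hrz : Commute r z
    · -- a conjugate of `s` with a large centralizer in `P`
      set Q := E ⊔ zpowers r
      have hQR : Q ≤ R := sup_le hER (zpowers_le.2 hrR)
      have hPH : (P : Subgroup G) ≤ stabilizer G (fixedBy Ω z) := fun p hp => stab_fix_of_comm (hzc p hp).symm
      have hQH : Q ≤ stabilizer G (fixedBy Ω z) :=
        sup_le (fun w hw => hPH hw.1) (zpowers_le.2 (stab_fix_of_comm hrz))
      obtain ⟨m, hm, hmem⟩ := conj_into P (H := stabilizer G (fixedBy Ω z)) hPH hQH (hRp.to_le hQR)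
      have hs' : fixedBy Ω (m * s * m⁻¹) ≠ fixedBy Ω z := fun e => hsne (by
        have e' := mem_stab_set.1 hm
        rw [← smul_fixedBy] at e
        exact smul_left_cancel m (e.trans e'.symm))
      have h1 := T.cent_small P hz hzc (hmem s (mem_sup_left hsC)) (big_conj hsb m) hs'
      have h2 : Nat.card Q ≤ Nat.card (cent (P : Subgroup G) (m * s * m⁻¹)) :=
        Nat.card_le_card_of_injective (fun q => (⟨m * q.1 * m⁻¹, mem_cent.2 ⟨hmem q.1 q.2, by
          have := (hRs _ (hQR q.2)).map (MulAut.conj m).toMonoidHom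
          exact this⟩⟩ : cent (P : Subgroup G) (m * s * m⁻¹))) fun a b e =>
          Subtype.ext (mul_left_cancel (mul_right_cancel (congrArg Subtype.val e :)))
      have h3 : Nat.card E < Nat.card Q := by
        refine lt_of_le_of_ne (card_le_of_le le_sup_left) fun e => hrE ?_
        rw [eq_of_le_of_card_ge (le_sup_left : E ≤ Q) e.ge]
        exact mem_sup_right (mem_zpowers r)
      omega
    -- shears
    obtain ⟨i, j, hij⟩ := hClist _ (hrn z hzC)
    have hzs : z ∉ zpowers s := fun hm => hsmove fun d hd => by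
      obtain ⟨i, rfl⟩ := mem_zpowers_iff.1 hm
      exact (zpow_mem (show s ∈ stabilizer G d from hd) i : _)
    obtain ⟨r', hr', hr'z⟩ := shear (odd_of_pgroup hRp hrR) (hzc s hsP) hz.1 hsb.1 (hRs r hrR) hrz hzs i j hij
    have hr's : Commute r' s := by
      rcases hr' with rfl | rfl
      exacts [hRs _ hrR, (hRs _ hrR).inv_left]
    haveI : Group.IsNilpotent (P : Subgroup G) := P.isPGroup'.isNilpotent
    obtain ⟨p, hpP, hpE, hpn⟩ : ∃ p ∈ (P : Subgroup G), p ∉ E ∧ ∀ w ∈ E, p * w * p⁻¹ ∈ E := by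
      have hlt : E.subgroupOf (P : Subgroup G) < ⊤ := by
        refine lt_top_iff_ne_top.2 fun e => ?_
        have hle : (P : Subgroup G) ≤ E := fun w hw => mem_subgroupOf.1 (e.ge (mem_top (⟨w, hw⟩ : (P : Subgroup G))))
        have := card_le_of_le hle
        omega
      obtain ⟨p, hpn, hpE⟩ := SetLike.exists_of_lt (Group.normalizerCondition_of_isNilpotent _ hlt)
      exact ⟨p, p.2, hpE, fun w hw => mem_subgroupOf.1 ((mem_normalizer_iff.1 hpn (⟨w, hw.1⟩ : (P : Subgroup G))).1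
        (mem_subgroupOf.2 hw))⟩
    have hps : ¬ Commute p s := fun hc => hpE (mem_cent.2 ⟨hpP, hc⟩)
    obtain ⟨i', j', hij'⟩ := hClist _ (hpn s hsC)
    obtain ⟨p', hp', hp's⟩ := shear (odd_of_pgroup P.isPGroup' hpP) (hzc s hsP).symm hsb.1 hz.1 (hzc p hpP).symm hps hsz
      j' i' (by rw [hij']; exact ((hzc s hsP).pow_pow _ _).eq)
    have hp'z : Commute p' z := by
      rcases hp' with rfl | rfl
      exacts [(hzc _ hpP).symm, (hzc _ hpP).symm.inv_left]
    set w := r' * p'⁻¹ * r' with hw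
    have hzz : p'⁻¹ * z * p' = z := by rw [mul_assoc, ← hp'z.eq, inv_mul_cancel_left]
    have hss : p'⁻¹ * s * p' = s * z⁻¹ := by
      calc p'⁻¹ * s * p' = p'⁻¹ * (s * z) * p' * (p'⁻¹ * z * p')⁻¹ := by group
        _ = s * z⁻¹ := by rw [← hp's, hzz]; group
    have hrs' : r' * s * r'⁻¹ = s := by rw [hr's.eq, mul_inv_cancel_right]
    have hwz : w * z * w⁻¹ = s := by
      calc w * z * w⁻¹ = r' * (p'⁻¹ * (r' * z * r'⁻¹) * p') * r'⁻¹ := by rw [hw]; group
        _ = r' * ((p'⁻¹ * z * p') * (p'⁻¹ * s * p')) * r'⁻¹ := by rw [hr'z]; group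
        _ = r' * s * r'⁻¹ := by rw [hzz, hss, show z * (s * z⁻¹) = s by rw [← mul_assoc, (hzc s hsP).eq, mul_inv_cancel_right]]
        _ = s := hrs'
    have hws : w * s * w⁻¹ = z⁻¹ := by
      calc w * s * w⁻¹ = r' * (p'⁻¹ * (r' * s * r'⁻¹) * p') * r'⁻¹ := by rw [hw]; group
        _ = r' * (s * z⁻¹) * r'⁻¹ := by rw [hrs', hss]
        _ = (r' * s * r'⁻¹) * (r' * z * r'⁻¹)⁻¹ := by group
        _ = z⁻¹ := by rw [hrs', hr'z, mul_inv_rev, mul_inv_cancel_left]
    refine T.no_inverter hz (hzc s hsP).symm hsb.1 (fun hle => hsne (T.big_max hz hsb.1 hsb.2.1 hle)) (w * w) ?_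
    calc w * w * z * (w * w)⁻¹ = w * (w * z * w⁻¹) * w⁻¹ := by group
      _ = z⁻¹ := by rw [hwz, hws]
  · push Not at hcb
    obtain ⟨hC, z, hzP, hz3, hz1, hzt, hzc, hmove⟩ := T.cent_small_none P (fun z hz hc => hcb z hz hc) htP ht
    have hzC : z ∈ cent (P : Subgroup G) t := mem_cent.2 ⟨hzP, hzt⟩
    have htC : t ∈ cent (P : Subgroup G) t := mem_cent.2 ⟨htP, Commute.refl t⟩
    have hzt' : z ∉ zpowers t := fun hm => hmove fun d hd => by
      obtain ⟨i, rfl⟩ := mem_zpowers_iff.1 hm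
      exact (zpow_mem (show t ∈ stabilizer G d from hd) i : _)
    obtain ⟨hC9, -, hCe, -⟩ := nine (C := cent (P : Subgroup G) t) P.isPGroup' inf_le_left hC htC hzC ht.1 hz3 ht.2.1 hzt'
    obtain ⟨k, hk⟩ := three_le_pow P.isPGroup' (K := (P : Subgroup G)) le_rfl
    by_cases h27 : Nat.card (P : Subgroup G) ≤ 26
    · have hP9 : Nat.card (P : Subgroup G) = 9 := by
        have : Nat.card (cent (P : Subgroup G) t) ≤ Nat.card (P : Subgroup G) := card_le_of_le inf_le_left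
        rcases three_pow_cases ⟨k, hk⟩ h27 with h | h | h <;> omega
      have hCP : cent (P : Subgroup G) t = (P : Subgroup G) := eq_of_le_of_card_ge inf_le_left (by omega)
      exact ⟨hP9, fun y hy => hCe y (hCP.ge hy)⟩
    exfalso
    exact small_cent_false hna P (by omega) htP ht.1 (T.no_inverter ht hzt hz3 hmove) fun g hg =>
      (T.cent_small_none P (fun z hz hc => hcb z hz hc) hg (big_conj ht g)).1

end Tri

end Cfsg.Lib.Fix4
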