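import Cfsg.Agent.Lib.Fix4.SwapB
import Cfsg.Agent.Lib.Fix4.Free

/-!
# Involutions with four fixed points
-/

set_option autoImplicit false
set_option linter.unusedSectionVars false
set_option linter.style.haveILetI false

namespace Cfsg.Lib.Fix4

open MulAction Subgroup
open scoped Pointwise

universe u v

variable {G : Type u} {Ω : Type v} [Group G] [Finite G] [MulAction G Ω] [Finite Ω]

theorem orbit_card (C : Subgroup G) (d : Ω) :
    Nat.card C = {z | ∃ c ∈ C, c • d = z}.ncard * Nat.card (st C d) := by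
  have h := (stabilizer C d).card_mul_index
  rw [index_stabilizer] at h
  have e : Nat.card (stabilizer C d) = Nat.card (st C d) := Nat.card_congr
    { toFun := fun c => ⟨c.1.1, c.1.2, c.2⟩
      invFun := fun c => ⟨⟨c.1, c.2.1⟩, c.2.2⟩
      left_inv := fun _ => rfl
      right_inv := fun _ => rfl }
  have e' : orbit C d = {z | ∃ c ∈ C, c • d = z} := Set.ext fun z =>
    ⟨fun ⟨c, hc⟩ => ⟨c, c.2, hc⟩, fun ⟨c, hc, hcz⟩ => ⟨⟨c, hc⟩, hcz⟩⟩
  rw [e, e', mul_comm] at h
  exact h.symm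

/-- Four fixed points: strongly embedded subgroup, unless the 2-rank is small. -/
theorem four_case [FaithfulSMul G Ω] [IsSimpleGroup G] (hna : ¬ IsMulCommutative G) (htr : IsPretransitive G Ω)
    (S : Sylow 2 G) (F : Four Ω (S : Subgroup G)) (h4 : 4 ∣ Nat.card Ω)
    (hex : ∃ g : G, orderOf g = 2 ∧ (fixedBy Ω g).Nonempty) : ∃ H : Subgroup G, Cfsg.IsStronglyEmbedded H := by
  classical
  haveI : Fact (Nat.Prime 2) := ⟨Nat.prime_two⟩
  obtain ⟨g, hgo, e, he⟩ := hex
  haveI : Nonempty Ω := ⟨e⟩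
  obtain ⟨h, -, hgS⟩ := conj_elem S (H := ⊤) le_top (mem_top g) ⟨1, by rw [pow_one, ← hgo, pow_orderOf_eq_one]⟩
  obtain ⟨a, hmax⟩ := Finite.exists_max fun d : Ω => Nat.card (st (S : Subgroup G) d)
  set T := st (S : Subgroup G) a with hT
  have hTne : T ≠ ⊥ := fun hbot => by
    have h1 := F.st_four hgS (fun e => ne_one_of_prime Nat.prime_two hgo (conj_eq_one_iff.1 e))
      (show h • e ∈ fixedBy Ω (h * g * h⁻¹) by rw [mem_conj, inv_smul_smul]; exact he)
    have h2 := le_trans h1 (hmax (h • e))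
    change 4 ≤ Nat.card T at h2
    rw [hbot, card_bot] at h2
    omega
  haveI : Nontrivial T := (nontrivial_iff_ne_bot T).2 hTne
  obtain ⟨t, -, htc, hto⟩ := Cfsg.Lib.PGroup.exists_mem_center_orderOf_eq (F.two.to_le (inf_le_left : T ≤ _))
    (show (⊤ : Subgroup T) ≠ ⊥ from top_ne_bot)
  have hto' : orderOf (t : G) = 2 := by rw [orderOf_coe, hto]
  have hcentre : ∀ y ∈ T, Commute y (t : G) := fun y hy =>
    congrArg Subtype.val (Subgroup.mem_center_iff.1 htc ⟨y, hy⟩)
  by_cases hall : ∀ y ∈ T, fixedBy Ω (t : G) ⊆ fixedBy Ω y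
  · exact Flat.embedded htr (⟨F, t.2, hto', hmax, hall⟩ : Flat (S : Subgroup G) a (t : G))
  push Not at hall
  obtain ⟨y, hy, hsub⟩ := hall
  obtain ⟨c, hc, hyc⟩ := Set.not_subset.1 hsub
  have hyc : y • c ≠ c := hyc
  set Δ := fixedBy Ω (t : G) with hΔ
  have hΔ4 : Δ.ncard = 4 := F.inv t hto' a t.2.2
  have hinv : ∀ u ∈ T, ∀ z ∈ Δ, u • z ∈ Δ := fun u hu z hz => fix_comm (hcentre u hu) hz
  have hne_a : ∀ u ∈ T, ∀ z, z ≠ a → u • z ≠ a := fun u hu z hz h =>
    hz (smul_left_cancel u (h.trans (show u • a = a from hu.2).symm))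
  have hac : a ≠ c := fun h => hyc (h ▸ hy.2)
  have hac' : a ≠ y • c := (hne_a y hy c hac.symm).symm
  obtain ⟨b, hba, hbc, hbc', hΔeq⟩ := fourth hΔ4 t.2.2 hc (hinv y hy c hc) hac hac' hyc.symm
  set O := {z | ∃ u ∈ T, u • c = z} with hO
  have horb : ∀ u ∈ T, ∀ z ∈ O, u • z ∈ O := by
    rintro u hu _ ⟨w, hw, rfl⟩; exact ⟨u * w, mul_mem hu hw, mul_smul u w c⟩
  have hcO : c ∈ O := ⟨1, one_mem T, one_smul G c⟩
  have hc'O : y • c ∈ O := ⟨y, hy, rfl⟩
  have hbO : b ∉ O := fun hb => by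
    have h3 : O.ncard = 3 := by
      have hOeq : O = {c, y • c, b} := by
        refine Set.Subset.antisymm ?_ ?_
        · rintro z ⟨u, hu, rfl⟩
          rcases hΔeq.le (hinv u hu c hc) with h | h | h | h
          · exact absurd h (hne_a u hu c hac.symm)
          · exact Or.inl h
          · exact Or.inr (Or.inl h)
          · exact Or.inr (Or.inr h)
        · rintro z (rfl | rfl | rfl) <;> assumption
      rw [hOeq, Set.ncard_insert_of_notMem (by simp [hyc.symm, hbc.symm]), Set.ncard_pair hbc'.symm]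
    have h1 := orbit_card T c
    rw [← hO, h3] at h1
    obtain ⟨k, hk⟩ := card_sub_pow F.two (K := T) inf_le_left
    have h5 : (3 : ℕ) ∣ 2 ^ k := hk ▸ (Dvd.intro _ h1.symm)
    exact absurd (Nat.prime_three.dvd_of_dvd_pow h5) (by norm_num)
  have hfixb : ∀ u ∈ T, u • b = b := fun u hu => by
    rcases hΔeq.le (hinv u hu b (hΔeq.ge (by simp))) with h | h | h | h
    · exact absurd h (hne_a u hu b hba)
    · have := horb u⁻¹ (inv_mem hu) c hcO
      rw [← h, inv_smul_smul] at this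
      exact absurd this hbO
    · have h : u • b = y • c := h
      have := horb u⁻¹ (inv_mem hu) (y • c) hc'O
      rw [← h, inv_smul_smul] at this
      exact absurd this hbO
    · exact h
  have hfix : Δ = {a, b, c, y • c} := hΔeq.trans (Set.ext fun z => by simp only [Set.mem_insert_iff, Set.mem_singleton_iff]; tauto)
  have A : Swap (Ω := Ω) (S : Subgroup G) a b c (y • c) (t : G) :=
    ⟨F, t.2, hto', hcentre, hfix, hmax, hfixb, ⟨y, hy, hyc⟩, hba.symm, hac, hac', hbc, hbc', hyc.symm⟩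
  exfalso
  by_cases hfree : ∀ x ∉ ({a, b, c, y • c} : Set Ω), ∀ u ∈ T, u • x = x → u = 1
  · exact A.no_free hna h4 hfree
  · push Not at hfree
    obtain ⟨x, hx, u, hu, hux, hu1⟩ := hfree
    exact A.extra_point hx hu hu1 hux

end Cfsg.Lib.Fix4
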