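import Cfsg.Prelude.Def_Transfer
import Cfsg.Agent.Lib.HaradaE8.SylowReduction
import Cfsg.Agent.S0501
import Cfsg.Agent.S1232
import Cfsg.Agent.S0112
import Cfsg.Agent.S0113
import Cfsg.Agent.Lib.Fix4.Basic

/-!
# Criteria for sectional 2-rank at most four in terms of small centralizers
-/

set_option autoImplicit false
set_option linter.unusedSectionVars false
set_option linter.style.haveILetI false

namespace Cfsg.Lib.Fix4

open Subgroup

universe u

theorem card_map_inter {G X : Type*} [Group G] [Group X] (f : G →* X) (H : Subgroup G) :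
    Nat.card (H.map f) * Nat.card (H ⊓ f.ker : Subgroup G) = Nat.card H := by
  have h := Subgroup.card_eq_card_quotient_mul_card_subgroup (f.comp H.subtype).ker
  rw [Nat.card_congr (QuotientGroup.quotientKerEquivRange (f.comp H.subtype)).toEquiv, MonoidHom.range_comp,
    range_subtype] at h
  rw [h]
  congr 1
  exact Nat.card_congr ⟨fun x => ⟨⟨x.1, x.2.1⟩, x.2.2⟩, fun x => ⟨x.1.1, x.1.2, x.2⟩, fun _ => rfl, fun _ => rfl⟩

theorem pow_two_cases {m b : ℕ} (h : ∃ k, m = 2 ^ k) (hb : m ≤ 2 ^ b) (hlt : ∀ j < b, m ≠ 2 ^ j) : m = 2 ^ b := by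
  obtain ⟨k, rfl⟩ := h
  rcases lt_or_eq_of_le ((Nat.pow_le_pow_iff_right (le_refl 2)).1 hb) with hk | hk
  · exact absurd rfl (hlt k hk)
  · rw [hk]

/-- Sectional rank passes from a Sylow 2-subgroup to the group. -/
theorem of_sylow {G : Type u} [Group G] [Finite G] (S : Sylow 2 G)
    (h : Cfsg.SectionalPRankLE 2 4 (S : Subgroup G)) : Cfsg.SectionalPRankLE 2 4 G := by
  refine Cfsg.Lib.HaradaE8.sectional_of_bound S fun L N hNL hsq => ?_
  haveI hn : (N.subgroupOf L).Normal := ⟨fun w hw g => by
    have h1 := N.mul_mem (mem_subgroupOf.1 hw) (hsq.comm w.2 g.2)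
    rw [mem_subgroupOf, coe_mul, coe_mul, coe_inv]
    simpa [mul_assoc] using h1⟩
  have hsq' : ∀ q : L ⧸ N.subgroupOf L, q ^ 2 = 1 := fun q => by
    obtain ⟨x, rfl⟩ := QuotientGroup.mk_surjective q
    rw [← QuotientGroup.mk_pow, QuotientGroup.eq_one_iff, mem_subgroupOf]
    exact hsq _ x.2
  have := h L (N.subgroupOf L) ⊤ ⟨⟨fun a b => Subtype.ext (mul_comm_of_exponent_two
    ((Monoid.exponent_dvd_of_forall_pow_eq_one hsq' : Monoid.exponent (L ⧸ N.subgroupOf L) ∣ 2)) a.1 b.1)⟩⟩
    fun a _ => hsq' a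
  rwa [card_top] at this
where
  mul_comm_of_exponent_two {Q : Type u} [Group Q] (h : Monoid.exponent Q ∣ 2) (a b : Q) : a * b = b * a := by
    have key : ∀ q : Q, q⁻¹ = q := fun q => inv_eq_of_mul_eq_one_right (by
      rw [← pow_two]; exact orderOf_dvd_iff_pow_eq_one.1 ((Monoid.order_dvd_exponent q).trans h))
    rw [← key (a * b), mul_inv_rev, key, key]

variable {S : Type u} [Group S] [Finite S]

theorem small (h : Nat.card S ≤ 16) : Cfsg.SectionalPRankLE 2 4 S := by
  intro H N _ E _ _
  refine (Nat.le_trans ?_ h)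
  exact (Subgroup.card_le_card_group E).trans ((Nat.card_le_card_of_surjective _ (QuotientGroup.mk'_surjective N)).trans
    (Subgroup.card_le_card_group H))

/-- A cyclic subgroup of index at most eight. -/
theorem cyclic_index (V : Subgroup S) (hV : IsCyclic V) (hi : V.index ≤ 8) : Cfsg.SectionalPRankLE 2 4 S := by
  classical
  intro H N _ E _ hE2
  set L := E.comap (QuotientGroup.mk' N)
  let f : L →* E := (QuotientGroup.mk' N).subgroupComap E
  have hf : Function.Surjective f := by
    rintro ⟨y, hy⟩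
    obtain ⟨x, rfl⟩ := QuotientGroup.mk'_surjective N y
    exact ⟨⟨x, hy⟩, rfl⟩
  set W := (V.subgroupOf H).subgroupOf L
  have hWc : IsCyclic W := by
    let g : W →* V := ((H.subtype.comp L.subtype).comp W.subtype).codRestrict V fun w => w.2
    exact isCyclic_of_injective g fun a b e => Subtype.ext (Subtype.ext (Subtype.ext (congrArg Subtype.val e :)))
  have hWi : W.index ≤ 8 := by
    refine le_trans ?_ hi
    refine Nat.card_le_card_of_injective (Quotient.map' (fun x : L => ((x : H) : S)) fun a b e => ?_) ?_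
    · rw [QuotientGroup.leftRel_apply] at e ⊢
      exact e
    · intro a b
      induction a using Quotient.inductionOn' with
      | h a =>
        induction b using Quotient.inductionOn' with
        | h b =>
          intro e
          refine Quotient.sound' ?_
          have e' := Quotient.exact' e
          rw [QuotientGroup.leftRel_apply] at e' ⊢
          exact e'
  have hmap : Nat.card (W.map f) ≤ 2 := by
    haveI : IsCyclic (W.map f) := isCyclic_of_surjective (f.subgroupMap W) (f.subgroupMap_surjective W)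
    obtain ⟨g, hg⟩ := IsCyclic.exists_generator (α := W.map f)
    have h2 : orderOf g ∣ 2 := orderOf_dvd_of_pow_eq_one (Subtype.ext (Subtype.ext (hE2 _ g.1.2)))
    rw [← orderOf_eq_card_of_forall_mem_zpowers hg]
    exact Nat.le_of_dvd two_pos h2
  have h1 := card_map_inter f W
  have h2 := card_map_inter f ⊤
  rw [map_top_of_surjective _ hf, card_top, card_top, top_inf_eq] at h2
  have h3 := W.card_mul_index
  have h4 : Nat.card (W ⊓ f.ker : Subgroup L) ≤ Nat.card f.ker := card_le_of_le inf_le_right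
  have h5 : 0 < Nat.card f.ker := Nat.card_pos
  refine le_trans (?_ : Nat.card E ≤ 2 * 8) (by norm_num)
  refine Nat.le_of_mul_le_mul_right ?_ h5
  rw [h2, ← h3, ← h1]
  calc Nat.card (W.map f) * Nat.card (W ⊓ f.ker : Subgroup L) * W.index ≤ 2 * Nat.card f.ker * 8 :=
        Nat.mul_le_mul (Nat.mul_le_mul hmap h4) hWi
    _ = 2 * 8 * Nat.card f.ker := by ring

variable (hS : IsPGroup 2 S)
include hS

/-- An involution whose centralizer has at most three involutions. -/
theorem few_involutions {s : S} (hs : orderOf s = 2)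
    (h : Nat.card {x : S // Commute x s ∧ x ^ 2 = 1} ≤ 4) : Cfsg.SectionalPRankLE 2 4 S := by
  classical
  refine Cfsg.Agent.S0501.result hS fun E hEn hEc hE2 => ?_
  have hs2 : s * s = 1 := by rw [← pow_two, ← hs, pow_orderOf_eq_one]
  have hsi : s⁻¹ = s := inv_eq_of_mul_eq_one_right hs2
  have hcomm : ∀ {a b : S}, a ∈ E → b ∈ E → Commute a b := fun {a b} ha hb =>
    congrArg Subtype.val (hEc.is_comm.comm ⟨a, ha⟩ ⟨b, hb⟩)
  by_cases hsE : s ∈ E
  · exact (Nat.card_le_card_of_injective (fun e : E => (⟨e.1, hcomm e.2 hsE, hE2 _ e.2⟩ :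
      {x : S // Commute x s ∧ x ^ 2 = 1})) fun a b e => Subtype.ext (congrArg (fun w => w.1) e)).trans h
  set F := E ⊓ centralizer ({s} : Set S)
  have hF : Nat.card F ≤ 2 := by
    let j : F × Bool → {x : S // Commute x s ∧ x ^ 2 = 1} := fun p =>
      ⟨p.1 * cond p.2 s 1, by
        have hc : Commute (p.1 : S) s := mem_centralizer_singleton_iff.1 p.1.2.2
        cases p.2 with
        | false => simp only [cond_false, mul_one]; exact ⟨hc, hE2 _ p.1.2.1⟩
        | true =>
          exact ⟨hc.mul_left (Commute.refl s), by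
            rw [cond_true, hc.mul_pow, hE2 _ p.1.2.1, pow_two, hs2, one_mul]⟩⟩
    have hj : Function.Injective j := by
      rintro ⟨a, i⟩ ⟨b, k⟩ e
      have e : (a : S) * cond i s 1 = b * cond k s 1 := congrArg (fun w => w.1) e
      have key : ∀ a b : F, (a : S) * s ≠ b := fun a b e => hsE (by
        have := E.mul_mem (E.inv_mem a.2.1) b.2.1
        rwa [← e, inv_mul_cancel_left] at this)
      cases i <;> cases k <;> simp only [cond_true, cond_false, mul_one] at e
      · exact Prod.ext (Subtype.ext e) rfl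
      · exact absurd e.symm (key b a)
      · exact absurd e (key a b)
      · exact Prod.ext (Subtype.ext (mul_right_cancel e)) rfl
    have := (Nat.card_le_card_of_injective j hj).trans h
    rw [Nat.card_prod, Nat.card_eq_fintype_card (α := Bool), Fintype.card_bool] at this
    omega
  have hmem : ∀ e ∈ E, s * e * s⁻¹ * e ∈ F := fun e he => by
    have h1 : s * e * s⁻¹ ∈ E := hEn.conj_mem e he s
    refine ⟨E.mul_mem h1 he, mem_centralizer_singleton_iff.2 (mul_inv_eq_iff_eq_mul.1 ?_).symm⟩
    calc s * (s * e * s⁻¹ * e) * s⁻¹ = (s * s) * e * (s * s)⁻¹ * (s * e * s⁻¹) := by group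
      _ = e * (s * e * s⁻¹) := by rw [hs2]; group
      _ = _ := (hcomm he h1).eq
  let φ : E →* F := MonoidHom.mk' (fun e => ⟨s * e.1 * s⁻¹ * e.1, hmem _ e.2⟩) fun a b => Subtype.ext (by
    show s * (a.1 * b.1) * s⁻¹ * (a.1 * b.1) = s * a.1 * s⁻¹ * a.1 * (s * b.1 * s⁻¹ * b.1)
    have h1 : Commute (s * b.1 * s⁻¹) a.1 := hcomm (hEn.conj_mem _ b.2 s) a.2
    calc s * (a.1 * b.1) * s⁻¹ * (a.1 * b.1) = s * a.1 * s⁻¹ * ((s * b.1 * s⁻¹) * a.1) * b.1 := by group
      _ = _ := by rw [h1.eq]; group)
  have hker : Nat.card φ.ker ≤ Nat.card F := by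
    refine Nat.card_le_card_of_injective (fun e => (⟨e.1.1, e.1.2, mem_centralizer_singleton_iff.2 ?_⟩ : F))
      fun a b e => Subtype.ext (Subtype.ext (congrArg (fun w : F => w.1) e))
    have he : s * e.1.1 * s⁻¹ * e.1.1 = 1 := congrArg Subtype.val e.2
    have h2 := mul_eq_one_iff_eq_inv.1 he
    rw [show e.1.1⁻¹ = e.1.1 from inv_eq_of_mul_eq_one_right (by rw [← pow_two]; exact hE2 _ e.1.2)] at h2
    exact (mul_inv_eq_iff_eq_mul.1 h2).symm
  have h2 := card_map_inter φ ⊤
  rw [top_inf_eq, card_top] at h2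
  have h3 : Nat.card ((⊤ : Subgroup E).map φ) ≤ Nat.card F := Subgroup.card_le_card_group _
  calc Nat.card E = _ := h2.symm
    _ ≤ 2 * 2 := Nat.mul_le_mul (h3.trans hF) (hker.trans hF)

/-- A self-centralizing elementary abelian subgroup of order eight. -/
theorem self_eight {A : Subgroup S} (h2 : ∀ a ∈ A, a ^ 2 = 1) (hcard : Nat.card A = 8)
    (hC : ∀ g, (∀ a ∈ A, Commute g a) → g ∈ A) : Cfsg.SectionalPRankLE 2 4 S := by
  have hinv : ∀ a ∈ A, a⁻¹ = a := fun a ha => inv_eq_of_mul_eq_one_right (by rw [← pow_two]; exact h2 a ha)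
  have hc : ∀ a ∈ A, ∀ b ∈ A, a * b = b * a := fun a ha b hb => by
    rw [← hinv _ (A.mul_mem ha hb), mul_inv_rev, hinv a ha, hinv b hb]
  refine Cfsg.Agent.S1232.result hS A ⟨⟨⟨fun a b => Subtype.ext (hc _ a.2 _ b.2)⟩⟩, h2⟩ hcard ?_
  refine le_antisymm (fun g hg => hC g fun a ha => (mem_centralizer_iff.1 hg a ha).symm) fun a ha => ?_
  exact mem_centralizer_iff.2 fun b hb => hc b hb a ha

/-- A self-centralizing subgroup of order four. -/
theorem self_four {A : Subgroup S} (hcard : Nat.card A = 4) (hC : centralizer (A : Set S) = A) :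
    Cfsg.SectionalPRankLE 2 4 S := by
  haveI : Fact (Nat.Prime 2) := ⟨Nat.prime_two⟩
  obtain ⟨n, hn⟩ := IsPGroup.iff_card.1 hS
  by_cases hn3 : n < 3
  · exact small (by rw [hn]; exact le_trans (Nat.pow_le_pow_right two_pos (by omega : n ≤ 2)) (by norm_num))
  push Not at hn3
  obtain ⟨U, hU, hUi⟩ := Cfsg.Agent.S0113.result n hn3 hn
    (Cfsg.Agent.S0112.result n hn A (by rw [hcard]; norm_num) hC)
  exact cyclic_index U hU (by omega)

/-- An involution whose centralizer has order at most eight. -/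
theorem cent_eight {s : S} (hs : orderOf s = 2) (h : Nat.card (centralizer ({s} : Set S)) ≤ 8) :
    Cfsg.SectionalPRankLE 2 4 S := by
  classical
  haveI : Fact (Nat.Prime 2) := ⟨Nat.prime_two⟩
  set C := centralizer ({s} : Set S) with hCdef
  by_cases h4 : Nat.card {x : S // Commute x s ∧ x ^ 2 = 1} ≤ 4
  · exact few_involutions hS hs h4
  have hC8 : Nat.card C = 2 ^ 3 := by
    have h5 : 5 ≤ Nat.card C := le_trans (by omega) (Nat.card_le_card_of_injective
      (fun x : {x : S // Commute x s ∧ x ^ 2 = 1} => (⟨x.1, mem_centralizer_singleton_iff.2 x.2.1⟩ : C))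
      fun a b e => Subtype.ext (congrArg (fun w : C => w.1) e))
    refine pow_two_cases (IsPGroup.iff_card.1 (hS.to_subgroup C)) h fun j hj e => ?_
    interval_cases j <;> omega
  by_cases hab : ∀ a ∈ C, ∀ b ∈ C, Commute a b
  · -- the solutions of `x ^ 2 = 1` form a subgroup
    let W : Subgroup S :=
      { carrier := {x | Commute x s ∧ x ^ 2 = 1}
        one_mem' := ⟨Commute.one_left _, one_pow 2⟩
        mul_mem' := fun {a b} ha hb => ⟨ha.1.mul_left hb.1, by
          rw [(hab a (mem_centralizer_singleton_iff.2 ha.1) b (mem_centralizer_singleton_iff.2 hb.1)).mul_pow,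
            ha.2, hb.2, one_mul]⟩
        inv_mem' := fun {a} ha => ⟨ha.1.inv_left, by rw [inv_pow, ha.2, inv_one]⟩ }
    have hW : Nat.card W = 8 := by
      have h1 : 5 ≤ Nat.card W := by
        have : Nat.card {x : S // Commute x s ∧ x ^ 2 = 1} = Nat.card W := rfl
        omega
      have h2 : Nat.card W ∣ 8 := (show (8 : ℕ) = Nat.card C by rw [hC8]; norm_num) ▸
        card_dvd_of_le (fun x hx => mem_centralizer_singleton_iff.2 hx.1)
      have h3 := Nat.le_of_dvd (by norm_num) h2
      interval_cases h : Nat.card W <;> first | rfl | norm_num at h2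
    refine self_eight hS (A := W) (fun a ha => ha.2) hW fun g hg => ?_
    have hsW : s ∈ W := ⟨Commute.refl s, by rw [← hs, pow_orderOf_eq_one]⟩
    have hgC : g ∈ C := mem_centralizer_singleton_iff.2 (hg s hsW)
    have he : W = C := Subgroup.eq_of_le_of_card_ge (fun x hx => mem_centralizer_singleton_iff.2 hx.1)
      (by rw [hW, hC8]; norm_num)
    exact he ▸ hgC
  · -- the involution is central
    refine small (le_trans ?_ (by norm_num : 8 ≤ 16))
    push Not at hab
    obtain ⟨a, ha, b, hb, hne⟩ := hab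
    haveI : Nontrivial S := ⟨⟨s, 1, ne_one_of_prime Nat.prime_two hs⟩⟩
    haveI := hS.center_nontrivial
    obtain ⟨z, hz⟩ := exists_prime_orderOf_dvd_card' 2 (G := center S) (by
      obtain ⟨k, hk⟩ := IsPGroup.iff_card.1 (hS.to_subgroup (center S))
      have : 1 < Nat.card (center S) := Finite.one_lt_card
      rw [hk] at this ⊢
      exact dvd_pow_self 2 (by rintro rfl; simp at this))
    have hz2 : orderOf (z : S) = 2 := by rw [orderOf_coe, hz]
    by_contra hlt
    have hzs : (z : S) ≠ s := fun e => hlt (by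
      refine le_trans (le_of_eq ?_) h
      rw [hCdef, show centralizer ({s} : Set S) = ⊤ from eq_top_iff.2 fun x _ =>
        mem_centralizer_singleton_iff.2 (mem_center_iff.1 (e ▸ z.2) x), card_top])
    -- `⟨s, z⟩` is central of order four in `C`
    set K := center C
    have hsC : s ∈ C := mem_centralizer_singleton_iff.2 rfl
    have hzC : (z : S) ∈ C := mem_centralizer_singleton_iff.2 (mem_center_iff.1 z.2 s).symm
    have hsK : (⟨s, hsC⟩ : C) ∈ K := mem_center_iff.2 fun x => Subtype.ext (mem_centralizer_singleton_iff.1 x.2)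
    have hzK : (⟨z, hzC⟩ : C) ∈ K := mem_center_iff.2 fun x => Subtype.ext (mem_center_iff.1 z.2 x.1)
    have h3 : 2 < Nat.card K := by
      haveI := Fintype.ofFinite K
      rw [Nat.card_eq_fintype_card, Fintype.two_lt_card_iff]
      refine ⟨1, ⟨_, hsK⟩, ⟨_, hzK⟩, fun e => ?_, fun e => ?_, fun e => hzs ?_⟩
      · exact ne_one_of_prime Nat.prime_two hs (congrArg (fun w : K => (w.1.1 : S)) e).symm
      · exact ne_one_of_prime Nat.prime_two hz2 (congrArg (fun w : K => (w.1.1 : S)) e).symm
      · exact (congrArg (fun w : K => (w.1.1 : S)) e).symm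
    have hq : Nat.card (C ⧸ K) ≤ 2 := by
      have h1 := Subgroup.card_eq_card_quotient_mul_card_subgroup K
      rw [hC8] at h1
      norm_num at h1
      by_contra hlt'
      have : 3 * 3 ≤ Nat.card (C ⧸ K) * Nat.card K := Nat.mul_le_mul (by omega) h3
      omega
    haveI : IsCyclic (C ⧸ K) := by
      have hpos : 0 < Nat.card (C ⧸ K) := Nat.card_pos
      interval_cases hc : Nat.card (C ⧸ K)
      · haveI := (Nat.card_eq_one_iff_unique.1 hc).1
        exact isCyclic_of_subsingleton
      · exact isCyclic_of_prime_card (p := 2) hc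
    exact hne (congrArg Subtype.val (((QuotientGroup.mk' K).isMulCommutative_of_isCyclic_of_ker_le_center
      (le_of_eq (QuotientGroup.ker_mk' K))).is_comm.comm ⟨a, ha⟩ ⟨b, hb⟩))

end Cfsg.Lib.Fix4
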